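import Cfsg.Agent.H82.Alt.Lines

/-!
The statement proved by induction and common lemmas.
-/

set_option autoImplicit false
set_option linter.unusedSectionVars false
set_option linter.style.haveILetI false

open Equiv Module

namespace H82.Alt

universe u v w

/-- The bound for degree `r`. -/
def Main (k : Type u) [Field k] (r : ℕ) : Prop :=
  ∀ (V : Type v) [AddCommGroup V] [Module k V] [FiniteDimensional k V] (G : Type w) [Group G]
    (π : G →* Perm (Fin r)) (ρ : G →* Module.End k V), Datum π ρ →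
    (∃ a b c, a ≠ b ∧ a ≠ c ∧ b ≠ c ∧ ρ (L π (c3 a b c)) ≠ 1) →
    r - 2 ≤ finrank k V ∧ (finrank k V = r - 2 → (r : k) = 0)

variable {k : Type u} [Field k] {V : Type v} [AddCommGroup V] [Module k V] [FiniteDimensional k V]
variable {G : Type w} [Group G] {r : ℕ} {π : G →* Perm (Fin r)} {ρ : G →* Module.End k V}

/-- The operator of a three-cycle. -/
noncomputable def X (π : G →* Perm (Fin r)) (ρ : G →* Module.End k V) (a b c : Fin r) :
    Module.End k V := ρ (L π (c3 a b c))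

theorem X_def (a b c : Fin r) : X π ρ a b c = ρ (L π (c3 a b c)) := rfl

section

variable (hD : Datum π ρ) {a b c : Fin r} (ab : a ≠ b) (ac : a ≠ c) (bc : b ≠ c)
include hD ab ac bc

theorem map_L_c3 : π (L π (c3 a b c)) = c3 a b c :=
  hD.map_L (odd_orderOf_c3 ab ac bc) (c3_mem_alt ab ac bc)

theorem X_cube : X π ρ a b c ^ 3 = 1 := by
  have h := hD.L_pow (odd_orderOf_c3 ab ac bc) (c3_mem_alt ab ac bc)
  rw [(c3_isThreeCycle ab ac bc).orderOf] at h
  rw [X_def, ← map_pow, h, map_one]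

theorem X_conj (g : G) : ρ g * X π ρ a b c = X π ρ (π g a) (π g b) (π g c) * ρ g := by
  have h := hD.conj_L (odd_orderOf_c3 ab ac bc) (c3_mem_alt ab ac bc) g
  rw [conj_c3] at h
  rw [X_def, X_def, ← map_mul, ← map_mul, ← h, inv_mul_cancel_right]

theorem X_conj_apply (g : G) (v : V) :
    ρ g (X π ρ a b c v) = X π ρ (π g a) (π g b) (π g c) (ρ g v) :=
  LinearMap.congr_fun (X_conj hD ab ac bc g) v

theorem X_rot : X π ρ a b c = X π ρ b c a := by rw [X_def, X_def, c3_rot ab ac bc]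

theorem X_mul_rev : X π ρ a b c * X π ρ c b a = 1 := by
  rw [X_def, X_def, ← c3_inv a b c, hD.L_inv (odd_orderOf_c3 ab ac bc) (c3_mem_alt ab ac bc),
    ← map_mul, mul_inv_cancel, map_one]

theorem map_mov_X (g : G) :
    (mov (X π ρ a b c)).map (rhoEquiv ρ g).toLinearMap = mov (X π ρ (π g a) (π g b) (π g c)) :=
  map_mov _ (X_conj_apply hD ab ac bc g)

theorem map_eig_X (g : G) (μ : k) :
    ((X π ρ a b c).eigenspace μ).map (rhoEquiv ρ g).toLinearMap =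
      (X π ρ (π g a) (π g b) (π g c)).eigenspace μ :=
  map_eig _ (X_conj_apply hD ab ac bc g) μ

theorem apply_mov_mem (g : G) {v : V} (hv : v ∈ mov (X π ρ a b c)) :
    ρ g v ∈ mov (X π ρ (π g a) (π g b) (π g c)) := by
  rw [← map_mov_X hD ab ac bc g]; exact ⟨v, hv, rfl⟩

theorem mov_rev : mov (X π ρ c b a) = mov (X π ρ a b c) := by
  have h2 : X π ρ c b a * X π ρ a b c = 1 := X_mul_rev hD bc.symm ac.symm ab.symm
  have h1 := X_mul_rev hD ab ac bc
  ext v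
  simp only [mem_mov]
  constructor
  · rintro ⟨w, rfl⟩
    refine ⟨-(X π ρ c b a w), ?_⟩
    rw [map_neg, ← Module.End.mul_apply, h1, Module.End.one_apply]
    abel
  · rintro ⟨w, rfl⟩
    refine ⟨-(X π ρ a b c w), ?_⟩
    rw [map_neg, ← Module.End.mul_apply, h2, Module.End.one_apply]
    abel

theorem mov_conj_le {x y z : Fin r} (xy : x ≠ y) (xz : x ≠ z) (yz : y ≠ z) :
    mov (X π ρ (c3 x y z a) (c3 x y z b) (c3 x y z c)) ≤
      mov (X π ρ a b c) ⊔ mov (X π ρ x y z) := by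
  intro v hv
  have hm := map_L_c3 hD xy xz yz
  have hmap := map_mov_X hD ab ac bc (L π (c3 x y z))
  rw [hm] at hmap
  rw [← hmap] at hv
  obtain ⟨u, hu, rfl⟩ := hv
  have : (rhoEquiv ρ (L π (c3 x y z))).toLinearMap u = u + (X π ρ x y z u - u) := by
    rw [LinearEquiv.coe_coe, rhoEquiv_apply, X_def]; abel
  rw [this]
  exact Submodule.add_mem_sup hu (sub_mem_mov u)

end

theorem commute_X (hD : Datum π ρ) {a b c a' b' c' : Fin r} (ab : a ≠ b) (ac : a ≠ c) (bc : b ≠ c)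
    (ab' : a' ≠ b') (ac' : a' ≠ c') (bc' : b' ≠ c') (h1 : a' ∉ [a, b, c]) (h2 : b' ∉ [a, b, c])
    (h3 : c' ∉ [a, b, c]) : Commute (X π ρ a b c) (X π ρ a' b' c') := by
  simp only [List.mem_cons, List.not_mem_nil, or_false, not_or] at h1 h2 h3
  refine (hD.commute_L (odd_orderOf_c3 ab' ac' bc') (c3_mem_alt ab' ac' bc') ?_).map ρ
  rw [map_L_c3 hD ab ac bc]
  exact c3_commute h1 h2 h3

theorem exists_conj_c3 (hD : Datum π ρ) (hr : 5 ≤ r) {a b c a' b' c' : Fin r} (ab : a ≠ b)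
    (ac : a ≠ c) (bc : b ≠ c) (ab' : a' ≠ b') (ac' : a' ≠ c') (bc' : b' ≠ c') :
    ∃ g, π g ∈ alternatingGroup (Fin r) ∧ π g * c3 a b c * (π g)⁻¹ = c3 a' b' c' := by
  obtain ⟨σ, hσ⟩ := isConj_iff.1 (alternatingGroup.isThreeCycle_isConj (by simpa using hr)
    (σ := ⟨_, c3_mem_alt ab ac bc⟩) (τ := ⟨_, c3_mem_alt ab' ac' bc'⟩)
    (c3_isThreeCycle ab ac bc) (c3_isThreeCycle ab' ac' bc'))
  obtain ⟨g, hg⟩ := hD.surj σ.1 σ.2
  refine ⟨g, hg ▸ σ.2, ?_⟩
  rw [hg]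
  exact congrArg Subtype.val hσ

/-- A nontrivial representation moves every three-cycle. -/
theorem X_ne_one (hD : Datum π ρ) (hr : 5 ≤ r)
    (hnt : ∃ a b c, a ≠ b ∧ a ≠ c ∧ b ≠ c ∧ ρ (L π (c3 a b c)) ≠ 1) {a b c : Fin r} (ab : a ≠ b)
    (ac : a ≠ c) (bc : b ≠ c) : X π ρ a b c ≠ 1 := by
  obtain ⟨x, y, z, xy, xz, yz, hne⟩ := hnt
  intro h
  obtain ⟨g, -, hg⟩ := exists_conj_c3 hD hr ab ac bc xy xz yz
  have := hD.conj_L (odd_orderOf_c3 ab ac bc) (c3_mem_alt ab ac bc) g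
  rw [hg] at this
  rw [X_def] at h
  refine hne ?_
  rw [← this, map_mul, map_mul, h, mul_one, rho_mul_inv]

/-- A vector fixed by the lifts of two kinds of three-cycles is fixed by all of them. -/
theorem fixed_of_avoid (hD : Datum π ρ) (v : V) (S : Set (Fin r)) {u v' : Fin r}
    (hbig : ∀ x y : Fin r, ∃ w ∈ S, w ≠ x ∧ w ≠ y ∧ w ≠ u ∧ w ≠ v') (hu : u ∈ S)
    (hv : v' ∈ S) (huv : u ≠ v')
    (h1 : ∀ a ∈ S, ∀ b ∈ S, ∀ c ∈ S, a ≠ b → a ≠ c → b ≠ c → a ≠ u → b ≠ u → c ≠ u →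
      X π ρ a b c v = v)
    (h2 : ∀ a ∈ S, ∀ b ∈ S, ∀ c ∈ S, a ≠ b → a ≠ c → b ≠ c → a ≠ v' → b ≠ v' → c ≠ v' →
      X π ρ a b c v = v) :
    ∀ a ∈ S, ∀ b ∈ S, ∀ c ∈ S, a ≠ b → a ≠ c → b ≠ c → X π ρ a b c v = v := by
  intro a ha b hb c hc ab ac bc
  refine hD.mem_of_map (odd_orderOf_c3 ab ac bc) (fixer ρ v) ?_
  exact c3_mem_of_avoid (H := (fixer ρ v).map π) hbig hu hv huv
    (fun a ha b hb c hc ab ac bc x y z =>
      ⟨_, h1 a ha b hb c hc ab ac bc x y z, map_L_c3 hD ab ac bc⟩)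
    (fun a ha b hb c hc ab ac bc x y z =>
      ⟨_, h2 a ha b hb c hc ab ac bc x y z, map_L_c3 hD ab ac bc⟩) a ha b hb c hc ab ac bc

/-- An embedding onto the complement of a set of points. -/
theorem exists_compl_emb (T : Finset (Fin r)) {m : ℕ} (hT : T.card + m = r) :
    ∃ e : Fin m ↪ Fin r, Set.range e = ((T : Set (Fin r)))ᶜ := by
  have h : Tᶜ.card = m := by rw [Finset.card_compl, Fintype.card_fin]; omega
  refine ⟨(Tᶜ.orderEmbOfFin h).toEmbedding, ?_⟩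
  simp [Finset.range_orderEmbOfFin]

theorem over_fix {m : ℕ} {e : Fin m ↪ Fin r} {g : G} (hg : g ∈ overSub π e) {x : Fin r}
    (hx : x ∉ Set.range e) : π g x = x := by
  obtain ⟨σ, hσ⟩ := hg
  rw [← hσ, Perm.viaEmbeddingHom_apply, Perm.viaEmbedding_apply_of_notMem _ _ _ hx]

/-- The induction hypothesis makes small invariant subspaces trivial. -/
theorem small_trivial (hD : Datum π ρ) {m : ℕ} (hIH : Main.{u, v, w} k m) (e : Fin m ↪ Fin r)
    (W : Submodule k V) (hW : ∀ g ∈ overSub π e, ∀ v ∈ W, ρ g v ∈ W)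
    (hdim : finrank k W < m - 2) {a b c : Fin r} (ab : a ≠ b) (ac : a ≠ c) (bc : b ≠ c)
    (ha : a ∈ Set.range e) (hb : b ∈ Set.range e) (hc : c ∈ Set.range e) {v : V} (hv : v ∈ W) :
    X π ρ a b c v = v := by
  obtain ⟨a, rfl⟩ := ha
  obtain ⟨b, rfl⟩ := hb
  obtain ⟨c, rfl⟩ := hc
  have ab' : a ≠ b := fun h => ab (by rw [h])
  have ac' : a ≠ c := fun h => ac (by rw [h])
  have bc' : b ≠ c := fun h => bc (by rw [h])
  by_contra hne
  have := hIH W (overSub π e) (overHom π e) (subRep ρ (overSub π e) W hW) (hD.restrict e W hW)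
    ⟨a, b, c, ab', ac', bc', fun h => hne ?_⟩
  · omega
  have h2 := congrArg Subtype.val (LinearMap.congr_fun h ⟨v, hv⟩)
  rw [subRep_apply, hD.overHom_L e (odd_orderOf_c3 ab' ac' bc') (c3_mem_alt ab' ac' bc'),
    viaEmbedding_c3 e ab' ac' bc'] at h2
  exact h2

end H82.Alt
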