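import Cfsg.Agent.H82.Alt.Common

/-!
Lifts of permutations of odd prime order on a few points, and the weight combinatorics.
-/

set_option autoImplicit false
set_option linter.unusedSectionVars false
set_option linter.style.haveILetI false

open Equiv Module

namespace H82.Alt

universe u v w

variable {k : Type u} [Field k] {V : Type v} [AddCommGroup V] [Module k V] [FiniteDimensional k V]
variable {G : Type w} [Group G] {r m : ℕ} {π : G →* Perm (Fin r)} {ρ : G →* Module.End k V}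

/-- The operator of the canonical lift of a permutation of few points. -/
noncomputable def Z (π : G →* Perm (Fin r)) (ρ : G →* Module.End k V) (e : Fin m ↪ Fin r)
    (σ : Perm (Fin m)) : Module.End k V := ρ (L π (Perm.viaEmbeddingHom e σ))

theorem Z_def (e : Fin m ↪ Fin r) (σ : Perm (Fin m)) :
    Z π ρ e σ = ρ (L π (Perm.viaEmbeddingHom e σ)) := rfl

theorem Z_c3 (e : Fin m ↪ Fin r) {a b c : Fin m} (ab : a ≠ b) (ac : a ≠ c) (bc : b ≠ c) :
    Z π ρ e (c3 a b c) = X π ρ (e a) (e b) (e c) := by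
  rw [Z_def, X_def, viaEmbedding_c3 e ab ac bc]

variable {t : ℕ} (hD : Datum π ρ) (e : Fin m ↪ Fin r) {σ : Perm (Fin m)}

theorem odd_via (ho : Odd t) (hσ : σ ^ t = 1) : Odd (orderOf (Perm.viaEmbeddingHom e σ)) :=
  ho.of_dvd_nat (orderOf_dvd_of_pow_eq_one (by rw [← map_pow, hσ, map_one]))

include hD

theorem Z_pow (ho : Odd t) (hσ : σ ^ t = 1) (hA : σ ∈ alternatingGroup (Fin m)) :
    Z π ρ e σ ^ t = 1 := by
  have h := hD.L_pow (odd_via e ho hσ) (viaEmbedding_mem_alt e hA)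
  obtain ⟨j, hj⟩ : orderOf (Perm.viaEmbeddingHom e σ) ∣ t :=
    orderOf_dvd_of_pow_eq_one (by rw [← map_pow, hσ, map_one])
  rw [Z_def, ← map_pow, hj, pow_mul, h, one_pow, map_one]

theorem Z_pow_eq (ho : Odd t) (hσ : σ ^ t = 1) (hA : σ ∈ alternatingGroup (Fin m)) (i : ℕ) :
    Z π ρ e (σ ^ i) = Z π ρ e σ ^ i := by
  rw [Z_def, Z_def, map_pow, hD.L_pow_eq (odd_via e ho hσ) (viaEmbedding_mem_alt e hA), map_pow]

theorem exists_over {τ : Perm (Fin m)} (hτ : τ ∈ alternatingGroup (Fin m)) :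
    ∃ g, π g = Perm.viaEmbeddingHom e τ := hD.surj _ (viaEmbedding_mem_alt e hτ)

theorem Z_conj_apply (ho : Odd t) (hσ : σ ^ t = 1) (hA : σ ∈ alternatingGroup (Fin m))
    {τ : Perm (Fin m)} {g : G} (hg : π g = Perm.viaEmbeddingHom e τ) (v : V) :
    ρ g (Z π ρ e σ v) = Z π ρ e (τ * σ * τ⁻¹) (ρ g v) := by
  have h := hD.conj_L (odd_via e ho hσ) (viaEmbedding_mem_alt e hA) g
  rw [hg, ← map_inv, ← map_mul, ← map_mul, mul_inv_eq_iff_eq_mul] at h
  rw [Z_def, Z_def, ← Module.End.mul_apply, ← Module.End.mul_apply, ← map_mul, ← map_mul, h]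

theorem eig_of_conj (ho : Odd t) (hσ : σ ^ t = 1) (hA : σ ∈ alternatingGroup (Fin m))
    {τ σ' : Perm (Fin m)} {g : G} (hg : π g = Perm.viaEmbeddingHom e τ) (hστ : τ * σ * τ⁻¹ = σ')
    {μ : k} {v : V} (hv : Z π ρ e σ v = μ • v) : Z π ρ e σ' (ρ g v) = μ • ρ g v := by
  rw [← hστ, ← Z_conj_apply hD e ho hσ hA hg, hv, map_smul]

theorem Z_commute (ho : Odd t) (hσ : σ ^ t = 1) (hA : σ ∈ alternatingGroup (Fin m))
    {σ' : Perm (Fin m)} {t' : ℕ} (ho' : Odd t') (hσ' : σ' ^ t' = 1)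
    (hA' : σ' ∈ alternatingGroup (Fin m)) (hc : Commute σ σ') :
    Commute (Z π ρ e σ) (Z π ρ e σ') := by
  refine (hD.commute_L (odd_via e ho' hσ') (viaEmbedding_mem_alt e hA') ?_).map ρ
  rw [hD.map_L (odd_via e ho hσ) (viaEmbedding_mem_alt e hA)]
  exact hc.map _

theorem mem_map_fixer (ho : Odd t) (hσ : σ ^ t = 1) (hA : σ ∈ alternatingGroup (Fin m)) {v : V}
    (hv : Z π ρ e σ v = v) : Perm.viaEmbeddingHom e σ ∈ (fixer ρ v).map π :=
  ⟨_, hv, hD.map_L (odd_via e ho hσ) (viaEmbedding_mem_alt e hA)⟩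

end H82.Alt

namespace H82.Alt

theorem via_comp {m r : ℕ} (σ : Perm (Fin m)) (e : Fin m ↪ Fin r) (τ : Perm (Fin m)) :
    Perm.viaEmbeddingHom (σ.toEmbedding.trans e) τ = Perm.viaEmbeddingHom e (σ * τ * σ⁻¹) := by
  ext x
  rw [Perm.viaEmbeddingHom_apply, Perm.viaEmbeddingHom_apply]
  by_cases hx : x ∈ Set.range e
  · obtain ⟨y, rfl⟩ := hx
    conv_lhs => rw [show e y = (σ.toEmbedding.trans e) (σ⁻¹ y) by simp]
    rw [Perm.viaEmbedding_apply, Perm.viaEmbedding_apply]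
    simp
  · rw [Perm.viaEmbedding_apply_of_notMem _ _ _ hx, Perm.viaEmbedding_apply_of_notMem]
    rintro ⟨y, hy⟩
    exact hx ⟨σ y, hy⟩

/-- The exponents of three commuting operators of order three. -/
abbrev Wt3 := ZMod 3 × ZMod 3 × ZMod 3

/-- One round of the symmetries of the exponents. -/
def step3 (F : Finset Wt3) : Finset Wt3 :=
  F ∪ F.image (fun s => (-s.1, -s.2.1, s.2.2)) ∪ F.image (fun s => (s.1, -s.2.1, -s.2.2)) ∪
    F.image (fun s => (s.2.2, s.1, s.2.1)) ∪ F.image (fun s => (s.2.1, s.1, -s.2.2))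

/-- The orbit of an exponent vector. -/
def orb3 (s : Wt3) : Finset Wt3 := step3 (step3 (step3 (step3 (step3 {s}))))

/-- All three exponents are nonzero. -/
def Full (s : Wt3) : Prop := s.1 ≠ 0 ∧ s.2.1 ≠ 0 ∧ s.2.2 ≠ 0

theorem orb3_two : ∀ s : Wt3, s.1 ≠ 0 → s.2.1 ≠ 0 → s.2.2 = 0 → 12 ≤ (orb3 s).card := by
  unfold orb3 step3; decide +kernel

theorem orb3_full : ∀ s : Wt3, s.1 ≠ 0 → s.2.1 ≠ 0 → s.2.2 ≠ 0 →
    8 ≤ (orb3 s).card ∧ ((1, 1, 1) : Wt3) ∈ orb3 s := by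
  unfold orb3 step3; decide +kernel

theorem orb3_mixed : ∀ s : Wt3, s ≠ 0 → (s.1 = 0 ∨ s.2.1 = 0 ∨ s.2.2 = 0) →
    10 ≤ (orb3 s ∪ orb3 (1, 1, 1)).card := by
  unfold orb3 step3; decide +kernel

theorem step3_mem {P : Wt3 → Prop} (h1 : ∀ s, P s → P (-s.1, -s.2.1, s.2.2))
    (h2 : ∀ s, P s → P (s.1, -s.2.1, -s.2.2)) (h3 : ∀ s, P s → P (s.2.2, s.1, s.2.1))
    (h4 : ∀ s, P s → P (s.2.1, s.1, -s.2.2)) {F : Finset Wt3} (hF : ∀ s ∈ F, P s) :
    ∀ s ∈ step3 F, P s := by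
  intro s hs
  simp only [step3, Finset.mem_union, Finset.mem_image] at hs
  rcases hs with (((hs | ⟨x, hx, rfl⟩) | ⟨x, hx, rfl⟩) | ⟨x, hx, rfl⟩) | ⟨x, hx, rfl⟩
  exacts [hF s hs, h1 x (hF x hx), h2 x (hF x hx), h3 x (hF x hx), h4 x (hF x hx)]

theorem orb3_mem {P : Wt3 → Prop} (h1 : ∀ s, P s → P (-s.1, -s.2.1, s.2.2))
    (h2 : ∀ s, P s → P (s.1, -s.2.1, -s.2.2)) (h3 : ∀ s, P s → P (s.2.2, s.1, s.2.1))
    (h4 : ∀ s, P s → P (s.2.1, s.1, -s.2.2)) {s₀ : Wt3} (h0 : P s₀) : ∀ s ∈ orb3 s₀, P s :=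
  step3_mem h1 h2 h3 h4 (step3_mem h1 h2 h3 h4 (step3_mem h1 h2 h3 h4 (step3_mem h1 h2 h3 h4
    (step3_mem h1 h2 h3 h4 fun s hs => by rw [Finset.mem_singleton.1 hs]; exact h0))))

/-- The exponents of two commuting operators of order five. -/
abbrev Wt5 := ZMod 5 × ZMod 5

/-- One round of the symmetries of the exponents. -/
def step5 (F : Finset Wt5) : Finset Wt5 :=
  F ∪ F.image (fun s => (3 * s.2, s.1)) ∪ F.image (fun s => (4 * s.1, s.2))

/-- The orbit of an exponent vector. -/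
def orb5 (s : Wt5) : Finset Wt5 :=
  step5 (step5 (step5 (step5 (step5 (step5 (step5 (step5 (step5 (step5 {s})))))))))

theorem orb5_card : ∀ s : Wt5, s.1 ≠ 0 → s.2 ≠ 0 → 16 ≤ (orb5 s).card := by
  unfold orb5 step5; decide +kernel

theorem step5_mem {P : Wt5 → Prop} (h1 : ∀ s, P s → P (3 * s.2, s.1))
    (h2 : ∀ s, P s → P (4 * s.1, s.2)) {F : Finset Wt5} (hF : ∀ s ∈ F, P s) :
    ∀ s ∈ step5 F, P s := by
  intro s hs
  simp only [step5, Finset.mem_union, Finset.mem_image] at hs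
  rcases hs with (hs | ⟨x, hx, rfl⟩) | ⟨x, hx, rfl⟩
  exacts [hF s hs, h1 x (hF x hx), h2 x (hF x hx)]

theorem orb5_mem {P : Wt5 → Prop} (h1 : ∀ s, P s → P (3 * s.2, s.1))
    (h2 : ∀ s, P s → P (4 * s.1, s.2)) {s₀ : Wt5} (h0 : P s₀) : ∀ s ∈ orb5 s₀, P s :=
  step5_mem h1 h2 (step5_mem h1 h2 (step5_mem h1 h2 (step5_mem h1 h2 (step5_mem h1 h2
    (step5_mem h1 h2 (step5_mem h1 h2 (step5_mem h1 h2 (step5_mem h1 h2 (step5_mem h1 h2
      fun s hs => by rw [Finset.mem_singleton.1 hs]; exact h0)))))))))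

end H82.Alt
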