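import Mathlib

/-!
Eigenspaces of endomorphisms of finite order.
-/

set_option autoImplicit false
set_option linter.unusedSectionVars false
set_option linter.style.haveILetI false

open Module

namespace H82.Alt

variable {k : Type*} [Field k] {V : Type*} [AddCommGroup V] [Module k V]

theorem finrank_sum_le [FiniteDimensional k V] {ι : Type*} (W : ι → Submodule k V) (h : iSupIndep W) (s : Finset ι) :
    ∑ i ∈ s, finrank k (W i) ≤ finrank k V := by
  classical
  have key : ∑ i ∈ s, finrank k (W i) = finrank k (⨆ i ∈ s, W i : Submodule k V) := by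
    induction s using Finset.induction_on with
    | empty =>
      rw [Finset.sum_empty, show (⨆ i ∈ (∅ : Finset ι), W i) = ⊥ by simp, finrank_bot]
    | insert a s ha ih =>
      have hd : Disjoint (W a) (⨆ i ∈ s, W i) := h.disjoint_biSup (y := (s : Set ι)) ha
      rw [Finset.sum_insert ha, ih, Finset.iSup_insert, ← Submodule.finrank_sup_add_finrank_inf_eq,
        hd.eq_bot, finrank_bot, add_zero]
  rw [key]
  exact Submodule.finrank_le _

theorem card_le_finrank [FiniteDimensional k V] {ι : Type*} (W : ι → Submodule k V) (h : iSupIndep W) (s : Finset ι)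
    (hs : ∀ i ∈ s, W i ≠ ⊥) : s.card ≤ finrank k V := by
  calc s.card = ∑ _i ∈ s, 1 := by simp
    _ ≤ ∑ i ∈ s, finrank k (W i) := Finset.sum_le_sum fun i hi =>
        Submodule.one_le_finrank_iff.2 (hs i hi)
    _ ≤ _ := finrank_sum_le W h s

variable {f g : End k V} {t : ℕ}

/-- The range of `f - 1`. -/
def mov (f : End k V) : Submodule k V := LinearMap.range (f - 1)

theorem mem_mov {v : V} : v ∈ mov f ↔ ∃ w, f w - w = v := by
  simp [mov]

theorem sub_mem_mov (w : V) : f w - w ∈ mov f := mem_mov.2 ⟨w, rfl⟩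

theorem mov_mapsTo (hc : Commute g f) {v : V} (hv : v ∈ mov f) : g v ∈ mov f := by
  obtain ⟨w, rfl⟩ := mem_mov.1 hv
  refine mem_mov.2 ⟨g w, ?_⟩
  rw [map_sub, ← Module.End.mul_apply f g, ← hc.eq, Module.End.mul_apply]

theorem finrank_mov_add [FiniteDimensional k V] : finrank k (mov f) + finrank k (f.eigenspace 1) = finrank k V := by
  rw [mov, Module.End.eigenspace_def, one_smul]
  exact LinearMap.finrank_range_add_finrank_ker (f - 1)

theorem pow_apply_of_apply_eq {w v : V} (hw : f w = w + v) (hv : f v = v) :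
    ∀ i : ℕ, (f ^ i) w = w + (i : k) • v
  | 0 => by simp
  | i + 1 => by
    rw [pow_succ', Module.End.mul_apply, pow_apply_of_apply_eq hw hv i, map_add, map_smul, hw, hv,
      Nat.cast_succ, add_smul, one_smul]
    abel

/-- A vector of `mov f` fixed by `f` is zero. -/
theorem eq_zero_of_mov_fixed (hf : f ^ t = 1) (ht : (t : k) ≠ 0) {v : V} (hv : v ∈ mov f)
    (hfix : f v = v) : v = 0 := by
  obtain ⟨w, hw⟩ := mem_mov.1 hv
  have h := pow_apply_of_apply_eq (f := f) (show f w = w + v by rw [← hw]; abel) hfix t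
  rw [hf, Module.End.one_apply, left_eq_add, smul_eq_zero] at h
  exact h.resolve_left ht

theorem eig_pow_eq_one (hf : f ^ t = 1) {μ : k} (h : f.eigenspace μ ≠ ⊥) : μ ^ t = 1 := by
  obtain ⟨v, hv, hv0⟩ := (Submodule.ne_bot_iff _).1 h
  rw [Module.End.mem_eigenspace_iff] at hv
  have : ∀ i : ℕ, (f ^ i) v = μ ^ i • v := fun i => by
    induction i with
    | zero => simp
    | succ i ih => rw [pow_succ', Module.End.mul_apply, ih, map_smul, hv, smul_smul, pow_succ]
  have h1 := this t
  rw [hf, Module.End.one_apply] at h1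
  by_contra hne
  exact hne (smul_left_injective k hv0 (by simpa using h1.symm))

section AlgClosed

variable [IsAlgClosed k] [FiniteDimensional k V]

theorem eig_top (hf : f ^ t = 1) (ht : (t : k) ≠ 0) : ⨆ μ : k, f.eigenspace μ = ⊤ := by
  refine Module.End.IsSemisimple.iSup_eigenspace_eq_top
    (Module.End.isSemisimple_of_squarefree_aeval_eq_zero
      (p := Polynomial.X ^ t - Polynomial.C (1 : k))
      (Polynomial.separable_X_pow_sub_C (1 : k) ht one_ne_zero).squarefree ?_)
  simp [hf]

theorem eq_one_of_eig (hf : f ^ t = 1) (ht : (t : k) ≠ 0)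
    (h : ∀ μ, μ ≠ 1 → f.eigenspace μ = ⊥) : f = 1 := by
  have : f.eigenspace 1 = ⊤ := by
    rw [eq_top_iff, ← eig_top hf ht, iSup_le_iff]
    intro μ
    by_cases hμ : μ = 1
    · rw [hμ]
    · rw [h μ hμ]; exact bot_le
  ext v
  have hv : v ∈ f.eigenspace 1 := this ▸ Submodule.mem_top
  rw [Module.End.mem_eigenspace_iff, one_smul] at hv
  rw [hv, Module.End.one_apply]

/-- An element fixing the non-trivial eigenvectors of `f` fixes `mov f`. -/
theorem fix_mov (hf : f ^ t = 1) (ht : (t : k) ≠ 0) (u : End k V)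
    (h : ∀ μ, μ ≠ 1 → ∀ v ∈ f.eigenspace μ, u v = v) {v : V} (hv : v ∈ mov f) : u v = v := by
  obtain ⟨w, rfl⟩ := mem_mov.1 hv
  have hw : w ∈ ⨆ μ : k, f.eigenspace μ := by rw [eig_top hf ht]; exact Submodule.mem_top
  clear hv
  induction hw using Submodule.iSup_induction' with
  | mem μ x hx =>
    rw [Module.End.mem_eigenspace_iff] at hx
    rw [hx]
    by_cases hμ : μ = 1
    · simp [hμ]
    · rw [map_sub, map_smul, h μ hμ x (Module.End.mem_eigenspace_iff.2 hx)]
  | zero => simp
  | add x y _ _ hx hy =>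
    rw [map_add, show f x + f y - (x + y) = (f x - x) + (f y - y) by abel, map_add, hx, hy]

/-- An invariant nonzero subspace contains an eigenvector. -/
theorem exists_eig_mem {W : Submodule k V} (hW : W ≠ ⊥)
    (hinv : ∀ w ∈ W, g w ∈ W) : ∃ μ : k, ∃ v ∈ W, v ≠ 0 ∧ g v = μ • v := by
  haveI : Nontrivial W := Submodule.nontrivial_iff_ne_bot.2 hW
  obtain ⟨μ, hμ⟩ := Module.End.exists_eigenvalue (g.restrict hinv)
  obtain ⟨v, hv⟩ := hμ.exists_hasEigenvector
  refine ⟨μ, v.1, v.2, fun h => hv.2 (Subtype.ext h), ?_⟩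
  have := hv.apply_eq_smul
  exact congrArg Subtype.val this

/-- An element of finite order not fixing an invariant subspace has a nontrivial eigenvalue there. -/
theorem exists_eig_ne_one {W : Submodule k V} (hinv : ∀ w ∈ W, g w ∈ W) (hg : g ^ t = 1)
    (ht : (t : k) ≠ 0) {w : V} (hw : w ∈ W) (hne : g w ≠ w) :
    ∃ μ : k, μ ≠ 1 ∧ ∃ v ∈ W, v ≠ 0 ∧ g v = μ • v := by
  by_contra hcon
  push Not at hcon
  have hpow : ∀ i : ℕ, ∀ x : W, ((g.restrict hinv) ^ i) x = (g ^ i) x.1 := fun i => by
    induction i with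
    | zero => intro x; simp
    | succ i ih =>
      intro x
      rw [pow_succ', Module.End.mul_apply, pow_succ', Module.End.mul_apply, ← ih x]
      rfl
  have h1 : g.restrict hinv = 1 := by
    refine eq_one_of_eig (t := t) ?_ ht fun μ hμ => ?_
    · ext x; rw [hpow, hg]; rfl
    · rw [Submodule.eq_bot_iff]
      intro v hv
      rw [Module.End.mem_eigenspace_iff] at hv
      by_contra hv0
      exact hcon μ hμ v.1 v.2 (fun h => hv0 (Subtype.ext h)) (congrArg Subtype.val hv)
  exact hne (congrArg Subtype.val (LinearMap.congr_fun h1 ⟨w, hw⟩))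

end AlgClosed

theorem map_eig (e : V ≃ₗ[k] V) (h : ∀ v, e (f v) = g (e v)) (μ : k) :
    (f.eigenspace μ).map e.toLinearMap = g.eigenspace μ := by
  ext w
  simp only [Submodule.mem_map, Module.End.mem_eigenspace_iff, LinearEquiv.coe_coe]
  constructor
  · rintro ⟨v, hv, rfl⟩; rw [← h, hv, map_smul]
  · intro hw
    refine ⟨e.symm w, e.injective ?_, e.apply_symm_apply w⟩
    rw [h, e.apply_symm_apply, hw, map_smul, e.apply_symm_apply]

theorem map_mov (e : V ≃ₗ[k] V) (h : ∀ v, e (f v) = g (e v)) :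
    (mov f).map e.toLinearMap = mov g := by
  ext w
  simp only [Submodule.mem_map, mem_mov, LinearEquiv.coe_coe]
  constructor
  · rintro ⟨v, ⟨u, rfl⟩, rfl⟩; exact ⟨e u, by rw [map_sub, h]⟩
  · rintro ⟨u, rfl⟩
    refine ⟨_, ⟨e.symm u, rfl⟩, ?_⟩
    rw [map_sub, h, e.apply_symm_apply]

theorem wt_indep [FiniteDimensional k V] {ι : Type*} (F : ι → End k V) (hc : ∀ i j, Commute (F i) (F j)) :
    iSupIndep fun χ : ι → k => ⨅ i, (F i).eigenspace (χ i) := by
  refine (Module.End.independent_iInf_maxGenEigenspace_of_forall_mapsTo F fun i j φ => ?_).mono ?_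
  · exact Module.End.mapsTo_maxGenEigenspace_of_comm (hc j i) φ
  · intro χ
    exact iInf_mono fun i => (F i).genEigenspace_le_maximal (χ i) 1

theorem eq_one_of_unipotent {p : ℕ} [Fact p.Prime] [CharP k p] [FiniteDimensional k V] (hf : f ^ p = 1)
    (hdim : finrank k V ≤ 1) : f = 1 := by
  rcases Nat.eq_zero_or_pos (finrank k V) with h0 | h0
  · haveI := Module.finrank_zero_iff.1 h0
    ext v; exact Subsingleton.elim _ _
  haveI : Nontrivial V := Module.nontrivial_of_finrank_pos h0
  haveI : CharP (End k V) p := charP_of_injective_algebraMap' k p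
  have hnil : (f - 1) ^ p = 0 := by
    rw [sub_pow_char_of_commute p (Commute.one_right f), hf, one_pow, sub_self]
  have h1 : LinearMap.ker ((f - 1) ^ p) ≤ LinearMap.ker ((f - 1) ^ finrank k V) :=
    Module.End.ker_pow_le_ker_pow_finrank (f - 1) p
  rw [hnil, LinearMap.ker_zero, show finrank k V = 1 by omega, pow_one, top_le_iff,
    LinearMap.ker_eq_top, sub_eq_zero] at h1
  exact h1

theorem sub_one_sq_of_unipotent {p : ℕ} [Fact p.Prime] [CharP k p] [FiniteDimensional k V] (hf : f ^ p = 1)
    (hdim : finrank k V ≤ 2) : (f - 1) ^ 2 = 0 := by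
  rcases Nat.eq_zero_or_pos (finrank k V) with h0 | h0
  · haveI := Module.finrank_zero_iff.1 h0
    ext v; exact Subsingleton.elim _ _
  haveI : Nontrivial V := Module.nontrivial_of_finrank_pos h0
  haveI : CharP (End k V) p := charP_of_injective_algebraMap' k p
  have hnil : (f - 1) ^ p = 0 := by
    rw [sub_pow_char_of_commute p (Commute.one_right f), hf, one_pow, sub_self]
  have h1 : LinearMap.ker ((f - 1) ^ p) ≤ LinearMap.ker ((f - 1) ^ finrank k V) :=
    Module.End.ker_pow_le_ker_pow_finrank (f - 1) p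
  rw [hnil, LinearMap.ker_zero, top_le_iff, LinearMap.ker_eq_top] at h1
  exact pow_eq_zero_of_le hdim h1

end H82.Alt
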