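import Cfsg.Agent.H82.Alt.Perms

/-!
Representations of double covers of alternating groups and the canonical lifts of permutations of odd order.
-/

set_option autoImplicit false

open Equiv

namespace H82.Alt

variable {k : Type*} [Field k] {V : Type*} [AddCommGroup V] [Module k V]
variable {G : Type*} [Group G] {r : ℕ}

/-- A representation of a group lying over the alternating group with central kernel of exponent two. -/
structure Datum (π : G →* Perm (Fin r)) (ρ : G →* Module.End k V) : Prop where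
  surj : ∀ σ ∈ alternatingGroup (Fin r), ∃ g, π g = σ
  cen : ∀ z, π z = 1 → ∀ g, Commute z g
  sq : ∀ z, π z = 1 → z * z = 1
  sgn : ∀ z, π z = 1 → ρ z = 1 ∨ ρ z = -1

variable {π : G →* Perm (Fin r)} {ρ : G →* Module.End k V}

open Classical in
/-- The lift of odd order of a permutation of odd order. -/
noncomputable def L (π : G →* Perm (Fin r)) (σ : Perm (Fin r)) : G :=
  if h : ∃ g, π g = σ then h.choose ^ (orderOf σ + 1) else 1

namespace Datum

theorem pow_eq (hD : Datum π ρ) {σ : Perm (Fin r)} (ho : Odd (orderOf σ)) {g : G} (hg : π g = σ) :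
    g ^ (orderOf σ + 1) = L π σ := by
  have h : ∃ g, π g = σ := ⟨g, hg⟩
  rw [L, dif_pos h]
  set g₀ := h.choose with hg₀
  have hz : π (g * g₀⁻¹) = 1 := by rw [map_mul, map_inv, hg, h.choose_spec, mul_inv_cancel]
  obtain ⟨m, hm⟩ : 2 ∣ orderOf σ + 1 := by obtain ⟨j, hj⟩ := ho; exact ⟨j + 1, by omega⟩
  have hzp : (g * g₀⁻¹) ^ (orderOf σ + 1) = 1 := by
    rw [hm, pow_mul, pow_two, hD.sq _ hz, one_pow]
  calc g ^ (orderOf σ + 1) = (g * g₀⁻¹ * g₀) ^ (orderOf σ + 1) := by rw [inv_mul_cancel_right]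
    _ = (g * g₀⁻¹) ^ (orderOf σ + 1) * g₀ ^ (orderOf σ + 1) := (hD.cen _ hz g₀).mul_pow _
    _ = g₀ ^ (orderOf σ + 1) := by rw [hzp, one_mul]

theorem exists_lift (hD : Datum π ρ) {σ : Perm (Fin r)} (hσ : σ ∈ alternatingGroup (Fin r)) :
    ∃ g, π g = σ := hD.surj σ hσ

theorem map_L (hD : Datum π ρ) {σ : Perm (Fin r)} (ho : Odd (orderOf σ))
    (hσ : σ ∈ alternatingGroup (Fin r)) : π (L π σ) = σ := by
  obtain ⟨g, hg⟩ := hD.surj σ hσ
  rw [← hD.pow_eq ho hg, map_pow, hg, pow_succ, pow_orderOf_eq_one, one_mul]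

theorem L_pow (hD : Datum π ρ) {σ : Perm (Fin r)} (ho : Odd (orderOf σ))
    (hσ : σ ∈ alternatingGroup (Fin r)) : L π σ ^ orderOf σ = 1 := by
  obtain ⟨g, hg⟩ := hD.surj σ hσ
  have hz : π (g ^ orderOf σ) = 1 := by rw [map_pow, hg, pow_orderOf_eq_one]
  obtain ⟨m, hm⟩ : 2 ∣ orderOf σ + 1 := by obtain ⟨j, hj⟩ := ho; exact ⟨j + 1, by omega⟩
  rw [← hD.pow_eq ho hg, ← pow_mul, mul_comm, pow_mul, hm, pow_mul, pow_two, hD.sq _ hz, one_pow]

/-- An element of odd order over `σ` is the canonical lift. -/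
theorem eq_L (hD : Datum π ρ) {σ : Perm (Fin r)} {g : G} {m : ℕ} (hm : Odd m) (hg : π g = σ)
    (hgm : g ^ m = 1) : g = L π σ := by
  have hσm : σ ^ m = 1 := by rw [← hg, ← map_pow, hgm, map_one]
  have ho : Odd (orderOf σ) := hm.of_dvd_nat (orderOf_dvd_of_pow_eq_one hσm)
  have hz : π (g ^ orderOf σ) = 1 := by rw [map_pow, hg, pow_orderOf_eq_one]
  have h1 : (g ^ orderOf σ) ^ m = 1 := by rw [← pow_mul, mul_comm, pow_mul, hgm, one_pow]
  have h2 : g ^ orderOf σ = 1 := by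
    obtain ⟨j, hj⟩ := hm
    rwa [hj, pow_succ, pow_mul, pow_two, hD.sq _ hz, one_pow, one_mul] at h1
  rw [← hD.pow_eq ho hg, pow_succ, h2, one_mul]

theorem mem_of_map (hD : Datum π ρ) {σ : Perm (Fin r)} (ho : Odd (orderOf σ)) (S : Subgroup G)
    (hσ : σ ∈ S.map π) : L π σ ∈ S := by
  obtain ⟨g, hgS, hg⟩ := hσ
  rw [← hD.pow_eq ho hg]
  exact S.pow_mem hgS _

theorem conj_L (hD : Datum π ρ) {σ : Perm (Fin r)} (ho : Odd (orderOf σ))
    (hσ : σ ∈ alternatingGroup (Fin r)) (g : G) :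
    g * L π σ * g⁻¹ = L π (π g * σ * (π g)⁻¹) := by
  refine hD.eq_L ho ?_ ?_
  · rw [map_mul, map_mul, map_inv, hD.map_L ho hσ]
  · rw [conj_pow, hD.L_pow ho hσ, mul_one, mul_inv_cancel]

theorem commute_L (hD : Datum π ρ) {σ : Perm (Fin r)} (ho : Odd (orderOf σ))
    (hσ : σ ∈ alternatingGroup (Fin r)) {g : G} (hc : Commute (π g) σ) : Commute g (L π σ) := by
  have h := hD.conj_L ho hσ g
  rw [hc.eq, mul_inv_cancel_right, mul_inv_eq_iff_eq_mul] at h
  exact h

theorem L_inv (hD : Datum π ρ) {σ : Perm (Fin r)} (ho : Odd (orderOf σ))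
    (hσ : σ ∈ alternatingGroup (Fin r)) : L π σ⁻¹ = (L π σ)⁻¹ :=
  (hD.eq_L ho (by rw [map_inv, hD.map_L ho hσ]) (by rw [inv_pow, hD.L_pow ho hσ, inv_one])).symm

theorem L_mul (hD : Datum π ρ) {σ τ : Perm (Fin r)} (ho : Odd (orderOf σ))
    (hσ : σ ∈ alternatingGroup (Fin r)) (ho' : Odd (orderOf τ)) (hτ : τ ∈ alternatingGroup (Fin r))
    (hc : Commute σ τ) : L π (σ * τ) = L π σ * L π τ := by
  have hc' : Commute (L π σ) (L π τ) := hD.commute_L ho' hτ (by rwa [hD.map_L ho hσ])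
  refine (hD.eq_L (ho.mul ho') ?_ ?_).symm
  · rw [map_mul, hD.map_L ho hσ, hD.map_L ho' hτ]
  · rw [hc'.mul_pow, pow_mul, hD.L_pow ho hσ, one_pow, one_mul, mul_comm, pow_mul, hD.L_pow ho' hτ,
      one_pow]

theorem L_pow_eq (hD : Datum π ρ) {σ : Perm (Fin r)} (ho : Odd (orderOf σ))
    (hσ : σ ∈ alternatingGroup (Fin r)) (i : ℕ) : L π (σ ^ i) = L π σ ^ i :=
  (hD.eq_L ho (by rw [map_pow, hD.map_L ho hσ])
    (by rw [← pow_mul, mul_comm, pow_mul, hD.L_pow ho hσ, one_pow])).symm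

end Datum

theorem odd_orderOf_c3 {α : Type*} [DecidableEq α] [Fintype α] {a b c : α} (ab : a ≠ b) (ac : a ≠ c)
    (bc : b ≠ c) : Odd (orderOf (c3 a b c)) := by
  rw [(c3_isThreeCycle ab ac bc).orderOf]; decide

/-- The elements fixing a vector. -/
def fixer (ρ : G →* Module.End k V) (v : V) : Subgroup G where
  carrier := {g | ρ g v = v}
  one_mem' := by simp
  mul_mem' {a b} ha hb := by
    simp only [Set.mem_setOf_eq] at *
    rw [map_mul, Module.End.mul_apply, hb, ha]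
  inv_mem' {a} ha := by
    simp only [Set.mem_setOf_eq] at *
    conv_lhs => rw [← ha]
    rw [← Module.End.mul_apply, ← map_mul, inv_mul_cancel, map_one, Module.End.one_apply]

theorem mem_fixer {v : V} {g : G} : g ∈ fixer ρ v ↔ ρ g v = v := Iff.rfl

theorem rho_inv_mul (ρ : G →* Module.End k V) (g : G) : ρ g⁻¹ * ρ g = 1 := by
  rw [← map_mul, inv_mul_cancel, map_one]

theorem rho_mul_inv (ρ : G →* Module.End k V) (g : G) : ρ g * ρ g⁻¹ = 1 := by
  rw [← map_mul, mul_inv_cancel, map_one]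

theorem rho_inv_apply (ρ : G →* Module.End k V) (g : G) (v : V) : ρ g⁻¹ (ρ g v) = v := by
  rw [← Module.End.mul_apply, rho_inv_mul, Module.End.one_apply]

theorem rho_apply_inv (ρ : G →* Module.End k V) (g : G) (v : V) : ρ g (ρ g⁻¹ v) = v := by
  rw [← Module.End.mul_apply, rho_mul_inv, Module.End.one_apply]

/-- The action of a group element as a linear equivalence. -/
def rhoEquiv (ρ : G →* Module.End k V) (g : G) : V ≃ₗ[k] V :=
  { ρ g with
    invFun := ρ g⁻¹
    left_inv := rho_inv_apply ρ g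
    right_inv := rho_apply_inv ρ g }

theorem rhoEquiv_apply (g : G) (v : V) : rhoEquiv ρ g v = ρ g v := rfl

section Sub

/-- The action on an invariant subspace. -/
def subRep (ρ : G →* Module.End k V) (S : Subgroup G) (W : Submodule k V)
    (hW : ∀ g ∈ S, ∀ w ∈ W, ρ g w ∈ W) : S →* Module.End k W where
  toFun g := (ρ g.1).restrict (hW g.1 g.2)
  map_one' := by ext w; simp
  map_mul' g h := by ext w; simp

theorem subRep_apply (S : Subgroup G) (W : Submodule k V) (hW : ∀ g ∈ S, ∀ w ∈ W, ρ g w ∈ W)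
    (g : S) (w : W) : (subRep ρ S W hW g w : V) = ρ g.1 w.1 := rfl

/-- The preimage of the alternating group of a set of points. -/
noncomputable def overSub (π : G →* Perm (Fin r)) {m : ℕ} (e : Fin m ↪ Fin r) : Subgroup G :=
  (Perm.viaEmbeddingHom e).range.comap π

/-- The projection of the preimage. -/
noncomputable def overHom (π : G →* Perm (Fin r)) {m : ℕ} (e : Fin m ↪ Fin r) :
    overSub π e →* Perm (Fin m) :=
  (MonoidHom.ofInjective (Perm.viaEmbeddingHom_injective e)).symm.toMonoidHom.comp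
    ((π.comp (overSub π e).subtype).codRestrict (Perm.viaEmbeddingHom e).range fun g => g.2)

theorem overHom_spec {m : ℕ} (e : Fin m ↪ Fin r) (g : overSub π e) :
    Perm.viaEmbeddingHom e (overHom π e g) = π g.1 := by
  simp only [overHom, MonoidHom.coe_comp, Function.comp_apply, MulEquiv.coe_toMonoidHom]
  rw [← MonoidHom.ofInjective_apply (Perm.viaEmbeddingHom_injective e), MulEquiv.apply_symm_apply]
  rfl

/-- The datum on a subset of points and an invariant subspace. -/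
theorem Datum.restrict (hD : Datum π ρ) {m : ℕ} (e : Fin m ↪ Fin r) (W : Submodule k V)
    (hW : ∀ g ∈ overSub π e, ∀ w ∈ W, ρ g w ∈ W) :
    Datum (overHom π e) (subRep ρ (overSub π e) W hW) := by
  have hker : ∀ z : overSub π e, overHom π e z = 1 → π z.1 = 1 := fun z hz => by
    rw [← overHom_spec, hz, map_one]
  refine ⟨fun σ hσ => ?_, fun z hz g => Subtype.ext (hD.cen _ (hker z hz) g.1).eq,
    fun z hz => Subtype.ext (hD.sq _ (hker z hz)), fun z hz => ?_⟩
  · obtain ⟨g, hg⟩ := hD.surj _ (viaEmbedding_mem_alt e hσ)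
    refine ⟨⟨g, ⟨σ, hg.symm⟩⟩, Perm.viaEmbeddingHom_injective e ?_⟩
    rw [overHom_spec, hg]
  · rcases hD.sgn _ (hker z hz) with h | h
    · left; ext w; rw [subRep_apply, h]; rfl
    · right; ext w; rw [subRep_apply, h]; rfl

theorem Datum.overHom_L (hD : Datum π ρ) {m : ℕ} (e : Fin m ↪ Fin r) {σ : Perm (Fin m)}
    (ho : Odd (orderOf σ)) (hσ : σ ∈ alternatingGroup (Fin m)) :
    ((L (overHom π e) σ : overSub π e) : G) = L π (Perm.viaEmbeddingHom e σ) := by
  have hW : ∀ g ∈ overSub π e, ∀ w ∈ (⊤ : Submodule k V), ρ g w ∈ (⊤ : Submodule k V) :=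
    fun _ _ _ _ => Submodule.mem_top
  have hD' := hD.restrict e ⊤ hW
  refine hD.eq_L (m := orderOf σ) ho ?_ ?_
  · rw [← overHom_spec, hD'.map_L ho hσ]
  · rw [← Subgroup.coe_pow, hD'.L_pow ho hσ, Subgroup.coe_one]

end Sub

end H82.Alt
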