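import Cfsg.Agent.H82.Alt.Lift
import Cfsg.Agent.H82.Alt.Eigen

/-!
A line for each pair of points forces the deleted permutation module.
-/

set_option autoImplicit false
set_option linter.unusedSectionVars false
set_option linter.style.haveILetI false

open Equiv Module

namespace H82.Alt

theorem perm_app_inv {α : Type*} (σ : Perm α) (x : α) : σ (σ⁻¹ x) = x := σ.apply_symm_apply x

theorem perm_inv_app {α : Type*} (σ : Perm α) (x : α) : σ⁻¹ (σ x) = x := σ.symm_apply_apply x

/-- An even permutation sending two points anywhere. -/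
theorem exists_alt_pair {r : ℕ} (hr : 4 ≤ r) {a b i j : Fin r} (hab : a ≠ b) (hij : i ≠ j) :
    ∃ σ ∈ alternatingGroup (Fin r), σ a = i ∧ σ b = j := by
  set s := swap (swap a i b) j * swap a i with hs
  have e : swap a i b ≠ i := fun h => hab ((swap a i).injective (by rw [h, swap_apply_left])).symm
  have sa : s a = i := by
    rw [hs, Perm.mul_apply, swap_apply_left, swap_apply_of_ne_of_ne e.symm hij]
  have sb : s b = j := by rw [hs, Perm.mul_apply, swap_apply_left]
  by_cases hsgn : Perm.sign s = 1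
  · exact ⟨s, Perm.mem_alternatingGroup.2 hsgn, sa, sb⟩
  obtain ⟨c, hc⟩ : ({a, b}ᶜ : Finset (Fin r)).Nonempty := by
    rw [← Finset.card_pos, Finset.card_compl, Fintype.card_fin, Finset.card_pair hab]; omega
  obtain ⟨d, hd⟩ : ({a, b, c}ᶜ : Finset (Fin r)).Nonempty := by
    rw [← Finset.card_pos, Finset.card_compl, Fintype.card_fin]
    have := Finset.card_le_three (a := a) (b := b) (c := c); omega
  simp only [Finset.mem_compl, Finset.mem_insert, Finset.mem_singleton, not_or] at hc hd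
  refine ⟨s * swap c d, ?_, ?_, ?_⟩
  · rw [Perm.mem_alternatingGroup, Perm.sign_mul, Perm.sign_swap (Ne.symm hd.2.2)]
    rcases Int.units_eq_one_or (Perm.sign s) with h | h
    · exact absurd h hsgn
    · rw [h]; rfl
  · rw [Perm.mul_apply, swap_apply_of_ne_of_ne (Ne.symm hc.1) (Ne.symm hd.1), sa]
  · rw [Perm.mul_apply, swap_apply_of_ne_of_ne (Ne.symm hc.2) (Ne.symm hd.2.1), sb]

/-- Even permutations fixing the points of a set are generated by three-cycles avoiding it. -/
theorem mem_of_fix {r : ℕ} {σ : Perm (Fin r)} (hσ : σ ∈ alternatingGroup (Fin r)) (S : Set (Fin r))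
    (hS : ∀ x ∈ S, σ x = x) (H : Subgroup (Perm (Fin r)))
    (h : ∀ a b c, a ≠ b → a ≠ c → b ≠ c → a ∉ S → b ∉ S → c ∉ S → c3 a b c ∈ H) : σ ∈ H := by
  classical
  have hp : ∀ x, (σ x ∉ S) ↔ x ∉ S := fun x => by
    constructor
    · intro hx hxS; exact hx (by rwa [hS x hxS])
    · intro hx hxS
      exact hx (σ.injective (hS _ hxS) ▸ hxS)
  have hτ : Perm.ofSubtype (σ.subtypePerm (p := fun x => x ∉ S) hp) = σ :=
    Perm.ofSubtype_subtypePerm hp fun x hx hxS => hx (hS x hxS)
  have hτA : σ.subtypePerm (p := fun x => x ∉ S) hp ∈ alternatingGroup {x // x ∉ S} := by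
    rw [Perm.mem_alternatingGroup, ← Perm.sign_ofSubtype, hτ]
    exact Perm.mem_alternatingGroup.1 hσ
  have hle : alternatingGroup {x // x ∉ S} ≤ H.comap Perm.ofSubtype :=
    alt_le fun a b c ab ac bc => by
      have e : Perm.ofSubtype (c3 a b c) = c3 a.1 b.1 c.1 := by
        rw [c3, c3, map_mul, Perm.ofSubtype_swap_eq, Perm.ofSubtype_swap_eq]
      rw [Subgroup.mem_comap, e]
      exact h _ _ _ (fun e => ab (Subtype.ext e)) (fun e => ac (Subtype.ext e))
        (fun e => bc (Subtype.ext e)) a.2 b.2 c.2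
  simpa [hτ] using hle hτA

/-- A point avoiding a short list. -/
theorem exists_avoid {r : ℕ} (l : List (Fin r)) (h : l.length < r) : ∃ x, x ∉ l := by
  by_contra hcon
  push Not at hcon
  have h1 := Finset.card_le_card (fun x (_ : x ∈ (Finset.univ : Finset (Fin r))) =>
    List.mem_toFinset.2 (hcon x))
  rw [Finset.card_univ, Fintype.card_fin] at h1
  have := l.toFinset_card_le
  omega

variable {k : Type*} [Field k] [IsAlgClosed k] {V : Type*} [AddCommGroup V] [Module k V]
  [FiniteDimensional k V]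
variable {G : Type*} [Group G] {r : ℕ} {π : G →* Perm (Fin r)} {ρ : G →* Module.End k V}

/-- A line for every pair of points, permuted, and fixed pointwise by the cycles avoiding the pair. -/
structure PairLines (π : G →* Perm (Fin r)) (ρ : G →* Module.End k V) where
  u : Fin r → Fin r → V
  ne : ∀ {i j}, i ≠ j → u i j ≠ 0
  move : ∀ {i j}, i ≠ j → ∀ g, π g ∈ alternatingGroup (Fin r) →
    ∃ c : k, ρ g (u i j) = c • u (π g i) (π g j)
  symm : ∀ {i j}, i ≠ j → ∃ c : k, u j i = c • u i j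
  fix : ∀ {i j a b c}, i ≠ j → a ≠ b → a ≠ c → b ≠ c → i ∉ [a, b, c] → j ∉ [a, b, c] →
    ρ (L π (c3 a b c)) (u i j) = u i j
  moved : ∀ {i j}, i ≠ j → ∃ a b c, a ≠ b ∧ a ≠ c ∧ b ≠ c ∧ ρ (L π (c3 a b c)) (u i j) ≠ u i j

theorem exists_pairLines (hD : Datum π ρ) (hr : 9 ≤ r) {a₀ b₀ : Fin r} (hab : a₀ ≠ b₀)
    (F : Submodule k V) (hF : F ≠ ⊥) {g₀ : G} (hg₀ : π g₀ ∈ alternatingGroup (Fin r))
    (ha₀ : π g₀ a₀ = b₀) (hb₀ : π g₀ b₀ = a₀) (hinv : ∀ v ∈ F, ρ g₀ v ∈ F)
    (hfix : ∀ v ∈ F, ∀ a b c, a ≠ b → a ≠ c → b ≠ c → a₀ ∉ [a, b, c] → b₀ ∉ [a, b, c] →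
      ρ (L π (c3 a b c)) v = v)
    (hmoved : ∀ v ∈ F, v ≠ 0 → ∃ a b c, a ≠ b ∧ a ≠ c ∧ b ≠ c ∧ ρ (L π (c3 a b c)) v ≠ v) :
    Nonempty (PairLines π ρ) := by
  classical
  obtain ⟨μ, w, hwF, hw0, hμ⟩ := exists_eig_mem (g := ρ g₀) hF hinv
  -- elements stabilising the line of `w`
  let S : Subgroup G :=
    { carrier := {g | ∃ c : k, c ≠ 0 ∧ ρ g w = c • w}
      one_mem' := ⟨1, one_ne_zero, by simp⟩
      mul_mem' := by
        rintro a b ⟨c, hc, hac⟩ ⟨d, hd, hbd⟩
        exact ⟨d * c, mul_ne_zero hd hc, by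
          rw [map_mul, Module.End.mul_apply, hbd, map_smul, hac, smul_smul]⟩
      inv_mem' := by
        rintro a ⟨c, hc, hac⟩
        refine ⟨c⁻¹, inv_ne_zero hc, ?_⟩
        have := congrArg (ρ a⁻¹) hac
        rw [rho_inv_apply, map_smul] at this
        rw [eq_inv_smul_iff₀ hc, ← this] }
  have hker : ∀ z, π z = 1 → z ∈ S := fun z hz => by
    rcases hD.sgn z hz with h | h
    · exact ⟨1, one_ne_zero, by simp [h]⟩
    · exact ⟨-1, neg_ne_zero.2 one_ne_zero, by simp [h]⟩
  have hμ0 : μ ≠ 0 := fun h => by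
    rw [h, zero_smul] at hμ
    exact hw0 (by rw [← rho_inv_apply ρ g₀ w, hμ, map_zero])
  have hg₀S : g₀ ∈ S := ⟨μ, hμ0, hμ⟩
  have hstab : ∀ g, π g ∈ alternatingGroup (Fin r) →
      ((π g a₀ = a₀ ∧ π g b₀ = b₀) ∨ (π g a₀ = b₀ ∧ π g b₀ = a₀)) → g ∈ S := by
    have key : ∀ g, π g ∈ alternatingGroup (Fin r) → π g a₀ = a₀ → π g b₀ = b₀ → g ∈ S := by
      intro g hg h1 h2
      obtain ⟨h, hhS, hh⟩ := mem_of_fix hg {a₀, b₀} (by rintro x (rfl | rfl) <;> assumption)
        (S.map π) (fun a b c ab ac bc ha hb hc => by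
          simp only [Set.mem_insert_iff, Set.mem_singleton_iff, not_or] at ha hb hc
          refine ⟨L π (c3 a b c), ⟨1, one_ne_zero, ?_⟩,
            hD.map_L (odd_orderOf_c3 ab ac bc) (c3_mem_alt ab ac bc)⟩
          rw [one_smul]
          exact hfix w hwF a b c ab ac bc (by simp; grind) (by simp; grind))
      have : g = g * h⁻¹ * h := by group
      rw [this]
      exact S.mul_mem (hker _ (by rw [map_mul, map_inv, hh, mul_inv_cancel])) hhS
    rintro g hg (⟨h1, h2⟩ | ⟨h1, h2⟩)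
    · exact key g hg h1 h2
    · have : g = g₀ * (g₀⁻¹ * g) := by group
      rw [this]
      refine S.mul_mem hg₀S (key _ ?_ ?_ ?_)
      · rw [map_mul, map_inv]; exact Subgroup.mul_mem _ (Subgroup.inv_mem _ hg₀) hg
      · rw [map_mul, map_inv, Perm.mul_apply, h1, Perm.inv_eq_iff_eq, ha₀]
      · rw [map_mul, map_inv, Perm.mul_apply, h2, Perm.inv_eq_iff_eq, hb₀]
  have hex : ∀ i j : Fin r, i ≠ j →
      ∃ g, π g ∈ alternatingGroup (Fin r) ∧ π g a₀ = i ∧ π g b₀ = j := fun i j hij => by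
    obtain ⟨σ, hσ, h1, h2⟩ := exists_alt_pair (by omega) hab hij
    obtain ⟨g, rfl⟩ := hD.surj σ hσ
    exact ⟨g, hσ, h1, h2⟩
  choose gp hgA hga hgb using hex
  have hpair : ∀ {i j : Fin r} (hij : i ≠ j) (h : G), π h ∈ alternatingGroup (Fin r) →
      ((π h a₀ = i ∧ π h b₀ = j) ∨ (π h a₀ = j ∧ π h b₀ = i)) →
      ∃ c : k, ρ h w = c • ρ (gp i j hij) w := by
    intro i j hij h hh hcase
    obtain ⟨c, -, hc⟩ := hstab ((gp i j hij)⁻¹ * h)
      (by rw [map_mul, map_inv]; exact Subgroup.mul_mem _ (Subgroup.inv_mem _ (hgA i j hij)) hh)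
      (by
        simp only [map_mul, map_inv, Perm.mul_apply, Perm.inv_eq_iff_eq]
        rcases hcase with ⟨e1, e2⟩ | ⟨e1, e2⟩
        · left; exact ⟨e1.trans (hga i j hij).symm, e2.trans (hgb i j hij).symm⟩
        · right; exact ⟨e1.trans (hgb i j hij).symm, e2.trans (hga i j hij).symm⟩)
    refine ⟨c, ?_⟩
    rw [map_mul, Module.End.mul_apply] at hc
    rw [← map_smul, ← hc, rho_apply_inv]
  refine ⟨⟨fun i j => if h : i = j then 0 else ρ (gp i j h) w, ?_, ?_, ?_, ?_, ?_⟩⟩
  · intro i j hij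
    rw [dif_neg hij]
    intro h
    exact hw0 (by rw [← rho_inv_apply ρ (gp i j hij) w, h, map_zero])
  · intro i j hij g hg
    have hij' : π g i ≠ π g j := (π g).injective.ne hij
    rw [dif_neg hij, dif_neg hij']
    obtain ⟨c, hc⟩ := hpair hij' (g * gp i j hij)
      (by rw [map_mul]; exact Subgroup.mul_mem _ hg (hgA i j hij))
      (Or.inl ⟨by rw [map_mul, Perm.mul_apply, hga], by rw [map_mul, Perm.mul_apply, hgb]⟩)
    exact ⟨c, by rw [← hc, map_mul, Module.End.mul_apply]⟩
  · intro i j hij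
    rw [dif_neg hij, dif_neg hij.symm]
    exact hpair hij (gp j i hij.symm) (hgA _ _ _) (Or.inr ⟨hga _ _ _, hgb _ _ _⟩)
  · intro i j a b c hij ab ac bc hi hj
    rw [dif_neg hij]
    set g := gp i j hij
    have hc := hD.conj_L (odd_orderOf_c3 ab ac bc) (c3_mem_alt ab ac bc) g⁻¹
    rw [inv_inv, map_inv, inv_inv] at hc
    have e : (π g)⁻¹ * c3 a b c * π g = c3 ((π g)⁻¹ a) ((π g)⁻¹ b) ((π g)⁻¹ c) := by
      rw [← conj_c3, inv_inv]
    rw [e] at hc
    have hw := hfix w hwF ((π g)⁻¹ a) ((π g)⁻¹ b) ((π g)⁻¹ c) ((π g)⁻¹.injective.ne ab)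
      ((π g)⁻¹.injective.ne ac) ((π g)⁻¹.injective.ne bc)
      (by simp only [List.mem_cons, List.not_mem_nil, or_false, Perm.eq_inv_iff_eq, g, hga] at hi ⊢; exact hi)
      (by simp only [List.mem_cons, List.not_mem_nil, or_false, Perm.eq_inv_iff_eq, g, hgb] at hj ⊢; exact hj)
    rw [← hc, map_mul, map_mul, Module.End.mul_apply, Module.End.mul_apply] at hw
    have := congrArg (ρ g) hw
    rwa [rho_apply_inv] at this
  · intro i j hij
    rw [dif_neg hij]
    obtain ⟨a, b, c, ab, ac, bc, hne⟩ := hmoved w hwF hw0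
    set g := gp i j hij
    refine ⟨π g a, π g b, π g c, (π g).injective.ne ab, (π g).injective.ne ac,
      (π g).injective.ne bc, fun h => hne ?_⟩
    have hc := hD.conj_L (odd_orderOf_c3 ab ac bc) (c3_mem_alt ab ac bc) g
    rw [conj_c3] at hc
    rw [← hc, map_mul, map_mul, Module.End.mul_apply, Module.End.mul_apply, rho_inv_apply] at h
    have := congrArg (ρ g⁻¹) h
    rwa [rho_inv_apply, rho_inv_apply] at this

namespace PairLines

variable (P : PairLines π ρ)

theorem move' {i j : Fin r} (hij : i ≠ j) {g : G} (hg : π g ∈ alternatingGroup (Fin r)) :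
    ∃ c : k, c ≠ 0 ∧ ρ g (P.u i j) = c • P.u (π g i) (π g j) := by
  obtain ⟨c, hc⟩ := P.move hij g hg
  refine ⟨c, fun h => P.ne hij ?_, hc⟩
  rw [h, zero_smul] at hc
  rw [← rho_inv_apply ρ g (P.u i j), hc, map_zero]

/-- The three-cycles act on the lines through `q`. -/
theorem cyc (hD : Datum π ρ) {a b c q : Fin r} (ab : a ≠ b) (ac : a ≠ c) (bc : b ≠ c)
    (hq : q ∉ [a, b, c]) : ∃ d : k, d ≠ 0 ∧ ρ (L π (c3 a b c)) (P.u a q) = d • P.u b q := by
  simp only [List.mem_cons, List.not_mem_nil, or_false, not_or] at hq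
  obtain ⟨d, hd0, hd⟩ := P.move' (Ne.symm hq.1) (g := L π (c3 a b c))
    (by rw [hD.map_L (odd_orderOf_c3 ab ac bc) (c3_mem_alt ab ac bc)]; exact c3_mem_alt ab ac bc)
  refine ⟨d, hd0, ?_⟩
  rw [hd, hD.map_L (odd_orderOf_c3 ab ac bc) (c3_mem_alt ab ac bc), c3_fst ab ac,
    c3_of_ne hq.1 hq.2.1 hq.2.2]

/-- Dependence of three lines through `q`. -/
def Dep (q a b c : Fin r) : Prop :=
  ∃ x y z : k, (x ≠ 0 ∨ y ≠ 0 ∨ z ≠ 0) ∧ x • P.u a q + y • P.u b q + z • P.u c q = 0

theorem dep_swap {q a b c : Fin r} (h : P.Dep q a b c) : P.Dep q b a c ∧ P.Dep q c b a := by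
  obtain ⟨x, y, z, h0, h⟩ := h
  exact ⟨⟨y, x, z, by tauto, by rw [← h]; abel⟩, ⟨z, y, x, by tauto, by rw [← h]; abel⟩⟩

theorem dep_replace (hD : Datum π ρ) (hr : 9 ≤ r) {q a b c a' : Fin r}
    (h : [q, a, b, c].Nodup) (h' : a' ∉ [q, b, c]) (hd : P.Dep q a b c) : P.Dep q a' b c := by
  by_cases e : a' = a
  · rw [e]; exact hd
  obtain ⟨m, hm⟩ := exists_avoid [q, a, b, c, a'] (by simp; omega)
  obtain ⟨x, y, z, h0, hxyz⟩ := hd
  simp only [List.nodup_cons, List.mem_cons, List.not_mem_nil, or_false, not_or, List.nodup_nil,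
    and_true, not_false_eq_true] at h h' hm
  obtain ⟨d, hd0, hd⟩ := P.cyc hD (a := a) (b := a') (c := m) (q := q) (Ne.symm e) (Ne.symm hm.2.1)
    (Ne.symm hm.2.2.2.2) (by simp; grind)
  have h2 := congrArg (ρ (L π (c3 a a' m))) hxyz
  rw [map_add, map_add, map_zero, map_smul, map_smul, map_smul, hd,
    P.fix (Ne.symm h.1.2.1) (Ne.symm e) (Ne.symm hm.2.1) (Ne.symm hm.2.2.2.2) (by simp; grind)
      (by simp; grind),
    P.fix (Ne.symm h.1.2.2) (Ne.symm e) (Ne.symm hm.2.1) (Ne.symm hm.2.2.2.2) (by simp; grind)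
      (by simp; grind), smul_smul] at h2
  exact ⟨x * d, y, z, by rcases h0 with h0 | h0 | h0 <;> simp [h0, hd0], h2⟩

theorem dep_all (hD : Datum π ρ) (hr : 9 ≤ r) {q a b c a' b' c' : Fin r}
    (h : [q, a, b, c].Nodup) (h' : [q, a', b', c'].Nodup) (hd : P.Dep q a b c) :
    P.Dep q a' b' c' := by
  simp only [List.nodup_cons, List.mem_cons, List.not_mem_nil, or_false, not_or, List.nodup_nil,
    and_true, not_false_eq_true] at h h'
  obtain ⟨d, hd'⟩ := exists_avoid [q, b, c, a', b', c'] (by simp; omega)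
  simp only [List.mem_cons, List.not_mem_nil, or_false, not_or] at hd'
  obtain ⟨e, he⟩ := exists_avoid [q, d, c, a', b', c'] (by simp; omega)
  simp only [List.mem_cons, List.not_mem_nil, or_false, not_or] at he
  obtain ⟨f, hf⟩ := exists_avoid [q, d, e, a', b', c'] (by simp; omega)
  simp only [List.mem_cons, List.not_mem_nil, or_false, not_or] at hf
  have h1 := P.dep_replace hD hr (q := q) (a' := d) (by simp; grind) (by simp; grind) hd
  have h2 := P.dep_replace hD hr (a' := e) (by simp; grind) (by simp; grind) (P.dep_swap h1).1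
  have h3 := P.dep_replace hD hr (a' := f) (by simp; grind) (by simp; grind) (P.dep_swap h2).2
  -- now `(f, d, e)`
  have h4 := P.dep_replace hD hr (a' := c') (by simp; grind) (by simp; grind) h3
  have h5 := P.dep_replace hD hr (a' := a') (by simp; grind) (by simp; grind) (P.dep_swap h4).1
  have h6 := P.dep_replace hD hr (a' := b') (by simp; grind) (by simp; grind) (P.dep_swap h5).2
  exact (P.dep_swap (P.dep_swap (P.dep_swap (P.dep_swap h6).2).1).2).1

/-- Three lines through a common point are independent. -/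
theorem not_dep (hD : Datum π ρ) (hr : 9 ≤ r) {q a b c : Fin r} (h : [q, a, b, c].Nodup) :
    ¬ P.Dep q a b c := by
  intro hdep
  have hall : ∀ a b c, [q, a, b, c].Nodup → P.Dep q a b c := fun a' b' c' h' =>
    P.dep_all hD hr h h' hdep
  -- `x ∥ y`
  let Par : Fin r → Fin r → Prop := fun x y => ∃ d : k, P.u x q = d • P.u y q
  have hpar : ∀ x y, x ≠ q → y ≠ q → Par x y := by
    by_contra hcon
    push Not at hcon
    obtain ⟨i, j, hi, hj, hne⟩ := hcon
    have hij : i ≠ j := fun e => hne ⟨1, by rw [e, one_smul]⟩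
    have hspan : ∀ m, m ≠ q → m ≠ i → m ≠ j →
        ∃ x y : k, P.u m q = x • P.u i q + y • P.u j q := by
      intro m hm hmi hmj
      obtain ⟨x, y, z, h0, hxyz⟩ := hall m i j (by simp; grind)
      by_cases hx : x = 0
      · exfalso
        rw [hx, zero_smul, zero_add] at hxyz
        have hy : y ≠ 0 := by
          intro hy
          rw [hy, zero_smul, zero_add, smul_eq_zero] at hxyz
          exact P.ne hj (hxyz.resolve_left (by grind))
        refine hne ⟨-(y⁻¹ * z), ?_⟩
        rw [neg_smul, mul_smul, eq_neg_iff_add_eq_zero]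
        have := congrArg (y⁻¹ • ·) hxyz
        simpa [smul_add, smul_smul, hy] using this
      · refine ⟨-(x⁻¹ * y), -(x⁻¹ * z), ?_⟩
        have := congrArg (x⁻¹ • ·) hxyz
        simp only [smul_add, smul_smul, inv_mul_cancel₀ hx, one_smul, smul_zero] at this
        rw [add_assoc, add_eq_zero_iff_eq_neg] at this
        rw [this, neg_add, neg_smul, neg_smul]
    have hout : ∀ m m', m ∉ [q, i, j] → m' ∉ [q, i, j] → m ≠ m' → Par m' m := by
      intro m m' hm hm' hmm
      obtain ⟨m'', hm''⟩ := exists_avoid [q, i, j, m, m'] (by simp; omega)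
      simp only [List.mem_cons, List.not_mem_nil, or_false, not_or] at hm hm' hm''
      obtain ⟨d, hd0, hd⟩ := P.cyc hD (a := m) (b := m') (c := m'') (q := q) hmm
        (Ne.symm hm''.2.2.2.1) (Ne.symm hm''.2.2.2.2) (by simp; grind)
      obtain ⟨x, y, hxy⟩ := hspan m hm.1 hm.2.1 hm.2.2
      rw [hxy, map_add, map_smul, map_smul,
        P.fix hi hmm (Ne.symm hm''.2.2.2.1) (Ne.symm hm''.2.2.2.2) (by simp; grind) (by simp; grind),
        P.fix hj hmm (Ne.symm hm''.2.2.2.1) (Ne.symm hm''.2.2.2.2) (by simp; grind) (by simp; grind),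
        ← hxy] at hd
      exact ⟨d⁻¹, by rw [hd, smul_smul, inv_mul_cancel₀ hd0, one_smul]⟩
    -- every third line is parallel to both
    obtain ⟨m, hm⟩ := exists_avoid [q, i, j] (by simp; omega)
    have hside : ∀ i' j', i' ≠ q → i' ≠ j' → (i' = i ∧ j' = j ∨ i' = j ∧ j' = i) →
        Par i' m := by
      intro i' j' hi' hij' hc
      obtain ⟨m', hm'⟩ := exists_avoid [q, i, j, m] (by simp; omega)
      obtain ⟨m'', hm''⟩ := exists_avoid [q, i, j, m, m'] (by simp; omega)
      simp only [List.mem_cons, List.not_mem_nil, or_false, not_or] at hm hm' hm''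
      obtain ⟨d, hd0, hd⟩ := P.cyc hD (a := m') (b := i') (c := m) (q := q) (by grind) (by grind)
        (by grind) (by simp; grind)
      obtain ⟨d', hd'⟩ := hout m'' m' (by simp; grind) (by simp; grind) (by grind)
      rw [hd', map_smul, P.fix (Ne.symm (Ne.symm hm''.1)) (by grind) (by grind) (by grind) (by simp; grind)
        (by simp; grind)] at hd
      obtain ⟨d'', hd''⟩ := hout m m'' (by simp; grind) (by simp; grind) (by grind)
      rw [hd'', smul_smul] at hd
      exact ⟨d⁻¹ * (d' * d''), by rw [mul_smul, hd, smul_smul, inv_mul_cancel₀ hd0, one_smul]⟩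
    obtain ⟨x, hx⟩ := hside i j hi hij (Or.inl ⟨rfl, rfl⟩)
    obtain ⟨y, hy⟩ := hside j i hj hij.symm (Or.inr ⟨rfl, rfl⟩)
    have hy0 : y ≠ 0 := fun h => P.ne hj (by rw [hy, h, zero_smul])
    exact hne ⟨x * y⁻¹, by rw [hx, hy, smul_smul, mul_assoc, inv_mul_cancel₀ hy0, mul_one]⟩
  -- all lines are equal
  have hgen : ∀ x y z, x ≠ z → y ≠ z → ∃ d : k, P.u x z = d • P.u y z := by
    intro x y z hxz hyz
    obtain ⟨x₀, hx₀⟩ := exists_avoid [q] (by simp; omega)
    simp only [List.mem_singleton] at hx₀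
    obtain ⟨σ, hσ, -, h2⟩ := exists_alt_pair (by omega) hx₀ hxz
    obtain ⟨g, rfl⟩ := hD.surj σ hσ
    set x' := (π g)⁻¹ x
    set y' := (π g)⁻¹ y
    have hx' : x' ≠ q := fun h => hxz (by rw [← h2, ← h, perm_app_inv])
    have hy' : y' ≠ q := fun h => hyz (by rw [← h2, ← h, perm_app_inv])
    obtain ⟨d, hd⟩ := hpar x' y' hx' hy'
    obtain ⟨c, hc0, hc⟩ := P.move' hx' hσ
    obtain ⟨c', -, hc'⟩ := P.move' hy' hσ
    rw [h2, perm_app_inv] at hc hc'
    rw [hd, map_smul, hc', smul_smul] at hc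
    exact ⟨c⁻¹ * (d * c'), by rw [mul_smul, hc, smul_smul, inv_mul_cancel₀ hc0, one_smul]⟩
  simp only [List.nodup_cons, List.mem_cons, List.not_mem_nil, or_false, not_or] at h
  have haq : a ≠ q := Ne.symm h.1.1
  obtain ⟨x, y, z, xy, xz, yz, hne⟩ := P.moved haq
  obtain ⟨s, hs⟩ := exists_avoid [x, y, z, a, q] (by simp; omega)
  obtain ⟨s', hs'⟩ := exists_avoid [x, y, z, a, q, s] (by simp; omega)
  simp only [List.mem_cons, List.not_mem_nil, or_false, not_or] at hs hs'
  obtain ⟨d₁, e₁⟩ := hgen a s q haq hs.2.2.2.2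
  obtain ⟨d₂, e₂⟩ := P.symm (i := q) (j := s) (Ne.symm hs.2.2.2.2)
  obtain ⟨d₃, e₃⟩ := hgen q s' s (Ne.symm hs.2.2.2.2) hs'.2.2.2.2.2
  refine hne ?_
  rw [e₁, e₂, e₃, map_smul, map_smul, map_smul,
    P.fix hs'.2.2.2.2.2 xy xz yz (by simp; grind) (by simp; grind)]

/-- The dimension bound. -/
theorem bound (P : PairLines π ρ) (hD : Datum π ρ) (hr : 9 ≤ r) :
    r - 2 ≤ finrank k V ∧ (finrank k V = r - 2 → (r : k) = 0) := by
  classical
  have q : Fin r := ⟨0, by omega⟩
  set I : Finset (Fin r) := Finset.univ.erase q with hI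
  have hIc : I.card = r - 1 := by rw [hI, Finset.card_erase_of_mem (Finset.mem_univ q)]; simp
  have hIm : ∀ i, i ∈ I ↔ i ≠ q := fun i => by simp [hI]
  by_cases hind : LinearIndependent k fun i : I => P.u i.1 q
  · have := hind.fintype_card_le_finrank
    rw [Fintype.card_coe, hIc] at this
    exact ⟨by omega, fun h => by omega⟩
  -- relations have full support
  have hrel : ∀ d : Fin r → k, ∑ i ∈ I, d i • P.u i q = 0 → ∀ i ∈ I, d i ≠ 0 → ∀ j ∈ I, d j ≠ 0 := by
    intro d hd i hiI hdi j hjI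
    by_cases hij : i = j
    · rwa [← hij]
    obtain ⟨l, hl⟩ := exists_avoid [q, i, j] (by simp; omega)
    simp only [List.mem_cons, List.not_mem_nil, or_false, not_or] at hl
    have hiq := (hIm i).1 hiI
    have hjq := (hIm j).1 hjI
    obtain ⟨α, hα0, hα⟩ := P.cyc hD (a := i) (b := j) (c := l) (q := q) hij (Ne.symm hl.2.1)
      (Ne.symm hl.2.2) (by simp; grind)
    obtain ⟨β, -, hβ⟩ := P.cyc hD (a := j) (b := l) (c := i) (q := q) (Ne.symm hl.2.2) (Ne.symm hij)
      hl.2.1 (by simp; grind)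
    obtain ⟨γ, -, hγ⟩ := P.cyc hD (a := l) (b := i) (c := j) (q := q) hl.2.1 hl.2.2 hij
      (by simp; grind)
    rw [← c3_rot hij (Ne.symm hl.2.1) (Ne.symm hl.2.2)] at hβ
    rw [c3_rot hl.2.1 hl.2.2 hij] at hγ
    set f := ρ (L π (c3 i j l))
    have h1 : ∑ m ∈ I, d m • (f (P.u m q) - P.u m q) = 0 := by
      simp only [smul_sub, Finset.sum_sub_distrib, ← map_smul, ← map_sum, hd, map_zero, sub_zero]
    rw [← Finset.sum_subset (s₁ := {i, j, l}) (by
      intro m hm
      simp only [Finset.mem_insert, Finset.mem_singleton] at hm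
      rw [hIm]
      rcases hm with rfl | rfl | rfl
      · exact hiq
      · exact hjq
      · exact hl.1) (fun m hm hm' => by
      simp only [Finset.mem_insert, Finset.mem_singleton, not_or] at hm'
      rw [hIm] at hm
      rw [P.fix hm hij (Ne.symm hl.2.1) (Ne.symm hl.2.2) (by simp; grind) (by simp; grind), sub_self,
        smul_zero])] at h1
    rw [Finset.sum_insert (by simp; grind), Finset.sum_pair (Ne.symm hl.2.2), hα, hβ, hγ] at h1
    intro hdj
    refine P.not_dep hD hr (q := q) (a := i) (b := j) (c := l) (by simp; grind)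
      ⟨d l * γ - d i, d i * α, -d l, Or.inr (Or.inl (mul_ne_zero hdi hα0)), ?_⟩
    rw [← h1, hdj]
    module
  obtain ⟨c, hc, i₁, hc1⟩ :
      ∃ c : Fin r → k, ∑ i ∈ I, c i • P.u i q = 0 ∧ ∃ i : I, c i.1 ≠ 0 := by
    obtain ⟨s, hs, i, hi⟩ := Fintype.not_linearIndependent_iff.1 hind
    refine ⟨fun x => if h : x ∈ I then s ⟨x, h⟩ else 0, ?_, i, by simpa using hi⟩
    rw [← Finset.sum_coe_sort]
    simpa using hs
  have hc0 : ∀ i ∈ I, c i ≠ 0 := hrel c hc i₁.1 i₁.2 hc1
  -- normalised vectors with sum zero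
  set v : Fin r → V := fun i => c i • P.u i q with hv
  have hv0 : ∑ i ∈ I, v i = 0 := hc
  have hconst : ∀ d : Fin r → k, ∑ i ∈ I, d i • v i = 0 → ∀ i ∈ I, ∀ j ∈ I, d i = d j := by
    intro d hd i hi j hj
    by_contra hne
    refine hrel (fun m => (d m - d j) * c m) ?_ i hi
      (mul_ne_zero (sub_ne_zero.2 hne) (hc0 i hi)) j hj (by simp)
    have : ∀ m, ((d m - d j) * c m) • P.u m q = d m • v m - d j • v m := fun m => by
      rw [hv, ← sub_smul, smul_smul]
    simp only [this, Finset.sum_sub_distrib, hd, ← Finset.smul_sum, hv0, smul_zero, sub_zero]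
  clear_value v
  obtain ⟨i₀, hi₀⟩ := exists_avoid [q] (by simp; omega)
  simp only [List.mem_singleton] at hi₀
  have hli : LinearIndependent k fun i : (I.erase i₀ : Finset (Fin r)) => v i.1 := by
    rw [Fintype.linearIndependent_iff]
    intro s hs i
    let d : Fin r → k := fun x => if h : x ∈ I.erase i₀ then s ⟨x, h⟩ else 0
    have hd : ∑ m ∈ I, d m • v m = 0 := by
      rw [← Finset.sum_subset (Finset.erase_subset i₀ I)
        (fun m _ hm => by simp only [d, dif_neg hm, zero_smul]), ← Finset.sum_coe_sort, ← hs]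
      exact Finset.sum_congr rfl fun m _ => by simp only [d, dif_pos m.2]
    have := hconst d hd i.1 (Finset.mem_of_mem_erase i.2) i₀ ((hIm _).2 hi₀)
    simp only [d, dif_pos i.2, dif_neg (Finset.notMem_erase i₀ I)] at this
    exact this
  have hlow : r - 2 ≤ finrank k V := by
    have := hli.fintype_card_le_finrank
    rw [Fintype.card_coe, Finset.card_erase_of_mem ((hIm _).2 hi₀), hIc] at this
    omega
  refine ⟨hlow, fun heq => ?_⟩
  have hspan : Submodule.span k (Set.range fun i : (I.erase i₀ : Finset (Fin r)) => v i.1) = ⊤ :=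
    hli.span_eq_top_of_card_eq_finrank' (by
      rw [Fintype.card_coe, Finset.card_erase_of_mem ((hIm _).2 hi₀), hIc]; omega)
  -- the exact action of the stabiliser of `q`
  let H : Subgroup G :=
    { carrier := {g | π g q = q ∧ ∀ i, i ≠ q → ρ g (v i) = v (π g i)}
      one_mem' := by simp
      mul_mem' := by
        rintro a b ⟨ha, ha'⟩ ⟨hb, hb'⟩
        refine ⟨by rw [map_mul, Perm.mul_apply, hb, ha], fun i hi => ?_⟩
        rw [map_mul, map_mul, Module.End.mul_apply, hb' i hi,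
          ha' _ (fun h => hi ((π b).injective (h.trans hb.symm))), Perm.mul_apply]
      inv_mem' := by
        rintro a ⟨ha, ha'⟩
        refine ⟨by rw [map_inv, Perm.inv_eq_iff_eq, ha], fun i hi => ?_⟩
        have h := ha' ((π a)⁻¹ i) (fun h => hi (by rw [← perm_app_inv (π a) i, h, ha]))
        rw [perm_app_inv] at h
        rw [← h, rho_inv_apply, map_inv] }
  have hcyc : ∀ x y z, x ≠ y → x ≠ z → y ≠ z → q ∉ [x, y, z] → L π (c3 x y z) ∈ H := by
    intro x y z xy xz yz hq
    simp only [List.mem_cons, List.not_mem_nil, or_false, not_or] at hq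
    have hm := hD.map_L (odd_orderOf_c3 xy xz yz) (c3_mem_alt xy xz yz)
    refine ⟨by rw [hm, c3_of_ne hq.1 hq.2.1 hq.2.2], ?_⟩
    set σ := c3 x y z with hσ
    set f := ρ (L π σ)
    have hσq : σ q = q := c3_of_ne hq.1 hq.2.1 hq.2.2
    have hex : ∀ i, ∃ l : k, i ≠ q → f (v i) = l • v (σ i) := by
      intro i
      by_cases hi : i = q
      · exact ⟨0, fun h => absurd hi h⟩
      obtain ⟨d, hd⟩ := P.move hi (L π σ) (by rw [hm]; exact c3_mem_alt xy xz yz)
      rw [hm, hσq] at hd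
      have hσi : σ i ∈ I := (hIm _).2 fun h => hi (σ.injective (h.trans hσq.symm))
      refine ⟨c i * d * (c (σ i))⁻¹, fun _ => ?_⟩
      rw [hv]
      simp only [f, map_smul, hd, smul_smul]
      rw [mul_assoc _ _ (c (σ i)), inv_mul_cancel₀ (hc0 _ hσi), mul_one]
    choose l hl using hex
    obtain ⟨i', hi'⟩ := exists_avoid [q, x, y, z] (by simp; omega)
    simp only [List.mem_cons, List.not_mem_nil, or_false, not_or] at hi'
    have hl1 : l i' = 1 := by
      have h := hl i' hi'.1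
      rw [c3_of_ne hi'.2.1 hi'.2.2.1 hi'.2.2.2] at h
      have hfix : f (v i') = v i' := by
        rw [hv]
        simp only [map_smul, P.fix hi'.1 xy xz yz (by simp; grind) (by simp; grind), f, hσ]
      rw [hfix] at h
      have hne : v i' ≠ 0 := by rw [hv]; exact smul_ne_zero (hc0 _ ((hIm _).2 hi'.1)) (P.ne hi'.1)
      exact (smul_left_injective k hne (by simpa using h)).symm
    have hsum : ∑ i ∈ I, l (σ⁻¹ i) • v i = 0 := by
      have := congrArg f hv0
      rw [map_zero, map_sum] at this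
      rw [← this]
      symm
      refine Finset.sum_nbij' (fun i => σ i) (fun i => σ⁻¹ i) ?_ ?_ ?_ ?_ ?_
      · intro i hi; rw [hIm] at hi ⊢
        exact fun h => hi (σ.injective (h.trans hσq.symm))
      · intro i hi; rw [hIm] at hi ⊢
        exact fun h => hi (by rw [← perm_app_inv σ i, h, hσq])
      · intro i _; exact perm_inv_app σ i
      · intro i _; exact perm_app_inv σ i
      · intro i hi; rw [hIm] at hi; rw [hl i hi, perm_inv_app]
    intro i hi
    have h1 := hconst _ hsum (σ i) ((hIm _).2 fun h => hi (σ.injective (h.trans hσq.symm)))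
      (σ i') ((hIm _).2 fun h => hi'.1 (σ.injective (h.trans hσq.symm)))
    simp only [perm_inv_app] at h1
    rw [hm, hl i hi, h1, hl1, one_smul]
  have hperm : ∀ σ ∈ alternatingGroup (Fin r), σ q = q →
      ∃ g, π g = σ ∧ ∀ i, i ≠ q → ρ g (v i) = v (σ i) := by
    intro σ hσ hσq
    obtain ⟨g, hg, hgσ⟩ := mem_of_fix hσ {q} (by rintro x rfl; exact hσq) (H.map π)
      (fun x y z xy xz yz hx hy hz => by
        simp only [Set.mem_singleton_iff] at hx hy hz
        exact ⟨_, hcyc x y z xy xz yz (by simp; grind),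
          hD.map_L (odd_orderOf_c3 xy xz yz) (c3_mem_alt xy xz yz)⟩)
    exact ⟨g, hgσ, fun i hi => by rw [← hgσ]; exact hg.2 i hi⟩
  have hind2 : ∀ i j, i ≠ q → j ≠ q → i ≠ j → ∀ a b : k, a • v i + b • v j = 0 → a = 0 ∧ b = 0 := by
    intro i j hi hj hij a b hab
    obtain ⟨l, hl⟩ := exists_avoid [q, i, j] (by simp; omega)
    simp only [List.mem_cons, List.not_mem_nil, or_false, not_or] at hl
    let d : Fin r → k := fun m => if m = i then a else if m = j then b else 0
    have hd : ∑ m ∈ I, d m • v m = 0 := by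
      rw [← Finset.sum_subset (s₁ := {i, j}) (by
        intro m hm; simp only [Finset.mem_insert, Finset.mem_singleton] at hm; rw [hIm]; grind)
        (fun m _ hm => by
          simp only [Finset.mem_insert, Finset.mem_singleton, not_or] at hm
          simp [d, hm.1, hm.2]), Finset.sum_pair hij]
      simpa [d, hij.symm] using hab
    exact ⟨by simpa [d, hl.2.1, hl.2.2] using hconst d hd i ((hIm _).2 hi) l ((hIm _).2 hl.1),
      by simpa [d, hl.2.1, hl.2.2, hij.symm] using hconst d hd j ((hIm _).2 hj) l ((hIm _).2 hl.1)⟩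
  obtain ⟨A, hA⟩ := exists_avoid [q] (by simp; omega)
  obtain ⟨B, hB⟩ := exists_avoid [q, A] (by simp; omega)
  obtain ⟨C, hC⟩ := exists_avoid [q, A, B] (by simp; omega)
  obtain ⟨D, hDp⟩ := exists_avoid [q, A, B, C] (by simp; omega)
  simp only [List.mem_cons, List.not_mem_nil, or_false, not_or] at hA hB hC hDp
  have hAB : A ≠ B := Ne.symm hB.2
  -- coordinates of the line of the pair
  obtain ⟨a, b, hab⟩ : ∃ a b : k, P.u A B = a • v A + b • v B := by
    have hmem : P.u A B ∈ Submodule.span k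
        (Set.range fun i : (I.erase i₀ : Finset (Fin r)) => v i.1) := hspan ▸ Submodule.mem_top
    obtain ⟨s, hs⟩ := (Submodule.mem_span_range_iff_exists_fun k).1 hmem
    let d₀ : Fin r → k := fun x => if h : x ∈ I.erase i₀ then s ⟨x, h⟩ else 0
    have hd₀ : ∑ m ∈ I, d₀ m • v m = P.u A B := by
      rw [← Finset.sum_subset (Finset.erase_subset i₀ I)
        (fun m _ hm => by simp only [d₀, dif_neg hm, zero_smul]), ← Finset.sum_coe_sort, ← hs]
      exact Finset.sum_congr rfl fun m _ => by simp only [d₀, dif_pos m.2]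
    let d : Fin r → k := fun x => d₀ x - d₀ C
    have hd : ∑ m ∈ I, d m • v m = P.u A B := by
      simp only [d, sub_smul, Finset.sum_sub_distrib, hd₀, ← Finset.smul_sum, hv0, smul_zero, sub_zero]
    have hout : ∀ x, x ≠ q → x ≠ A → x ≠ B → d x = 0 := by
      intro x hx hxA hxB
      by_cases hxC : x = C
      · simp [d, hxC]
      obtain ⟨y, hy⟩ := exists_avoid [q, A, B, C, x] (by simp; omega)
      simp only [List.mem_cons, List.not_mem_nil, or_false, not_or] at hy
      set g := L π (c3 C x y) with hg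
      have hgH := hcyc C x y (Ne.symm hxC) (Ne.symm hy.2.2.2.1) (Ne.symm hy.2.2.2.2) (by simp; grind)
      have hm := hD.map_L (odd_orderOf_c3 (Ne.symm hxC) (Ne.symm hy.2.2.2.1) (Ne.symm hy.2.2.2.2))
        (c3_mem_alt (Ne.symm hxC) (Ne.symm hy.2.2.2.1) (Ne.symm hy.2.2.2.2))
      have h2 : ∑ m ∈ I, d ((c3 C x y)⁻¹ m) • v m = P.u A B := by
        rw [← P.fix hAB (Ne.symm hxC) (Ne.symm hy.2.2.2.1) (Ne.symm hy.2.2.2.2) (by simp; grind)
          (by simp; grind), ← hd, map_sum]
        symm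
        have hσq : c3 C x y q = q := c3_of_ne (Ne.symm hC.1) hx.symm (Ne.symm hy.1)
        refine Finset.sum_nbij' (fun i => c3 C x y i) (fun i => (c3 C x y)⁻¹ i) ?_ ?_ ?_ ?_ ?_
        · intro i hi; rw [hIm] at hi ⊢
          exact fun h => hi ((c3 C x y).injective (h.trans hσq.symm))
        · intro i hi; rw [hIm] at hi ⊢
          exact fun h => hi (by rw [← perm_app_inv (c3 C x y) i, h, hσq])
        · intro i _; exact perm_inv_app _ i
        · intro i _; exact perm_app_inv _ i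
        · intro i hi; rw [hIm] at hi
          rw [map_smul, hgH.2 i hi, hm, perm_inv_app]
      have h3 : ∑ m ∈ I, (d ((c3 C x y)⁻¹ m) - d m) • v m = 0 := by
        simp only [sub_smul, Finset.sum_sub_distrib, h2, hd, sub_self]
      have h4 := hconst _ h3 x ((hIm _).2 hx) A ((hIm _).2 hA)
      rw [c3_inv, c3_snd hy.2.2.2.1 hxC, c3_of_ne (x := A) (by grind) (by grind) (by grind),
        sub_self] at h4
      simp only [d, sub_self, zero_sub, neg_eq_zero] at h4 ⊢
      exact h4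
    refine ⟨d A, d B, ?_⟩
    rw [← hd, ← Finset.sum_subset (s₁ := {A, B}) (by
      intro m hm; simp only [Finset.mem_insert, Finset.mem_singleton] at hm; rw [hIm]; grind)
      (fun m hm hm' => by
        simp only [Finset.mem_insert, Finset.mem_singleton, not_or] at hm'
        rw [hout m ((hIm _).1 hm) hm'.1 hm'.2, zero_smul]), Finset.sum_pair hAB]
  -- the sign
  have hCA : C ≠ A := hC.2.1
  have hCB : C ≠ B := hC.2.2
  obtain ⟨ε, hε, hsign⟩ : ∃ ε : k, ε * ε = 1 ∧ ∃ a : k, P.u A B = a • (v A + ε • v B) := by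
    set τ := swap A B * swap C D with hτ
    have hτA : τ ∈ alternatingGroup (Fin r) := by
      rw [Perm.mem_alternatingGroup, hτ, Perm.sign_mul, Perm.sign_swap hAB,
        Perm.sign_swap (Ne.symm hDp.2.2.2)]; rfl
    have hτq : τ q = q := by
      simp only [hτ, Perm.mul_apply, swap_apply_def]; grind
    obtain ⟨g, hgτ, hg⟩ := hperm τ hτA hτq
    have e1 : τ A = B := by simp only [hτ, Perm.mul_apply, swap_apply_def]; grind
    have e2 : τ B = A := by simp only [hτ, Perm.mul_apply, swap_apply_def]; grind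
    obtain ⟨κ, hκ⟩ := P.move hAB g (by rw [hgτ]; exact hτA)
    rw [hgτ, e1, e2] at hκ
    obtain ⟨κ', hκ'⟩ := P.symm hAB
    rw [hκ', smul_smul, hab, map_add, map_smul, map_smul, hg A hA, hg B hB.1, e1, e2] at hκ
    set e := κ * κ'
    have h0 : (b - e * a) • v A + (a - e * b) • v B = 0 := by
      rw [← sub_eq_zero] at hκ
      rw [← hκ]
      module
    obtain ⟨hb, ha⟩ := hind2 A B hA hB.1 hAB _ _ h0
    rw [sub_eq_zero] at hb ha
    have ha0 : a ≠ 0 := fun h => P.ne hAB (by rw [hab, hb, h]; simp)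
    refine ⟨e, mul_left_cancel₀ ha0 ?_, a, by rw [hab, hb]; module⟩
    rw [mul_one]
    conv_rhs => rw [ha, hb]
    ring
  have hline : ∀ i j, i ≠ q → j ≠ q → i ≠ j → ∃ d : k, P.u i j = d • (v i + ε • v j) := by
    intro i j hi hj hij
    obtain ⟨σ₀, hσ₀, h1, h2⟩ := exists_alt_pair (r := r) (by omega) hAB hij
    -- correct `σ₀` so that it fixes `q`
    obtain ⟨σ, hσ, hσA, hσB, hσq⟩ :
        ∃ σ ∈ alternatingGroup (Fin r), σ A = i ∧ σ B = j ∧ σ q = q := by
      set w := σ₀ q with hw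
      by_cases hwq : w = q
      · exact ⟨σ₀, hσ₀, h1, h2, hwq⟩
      have hwi : w ≠ i := fun h => hA (σ₀.injective (h1.trans (h.symm.trans hw))).symm.symm
      have hwj : w ≠ j := fun h => hB.1 (σ₀.injective (h2.trans (h.symm.trans hw)))
      obtain ⟨z, hz⟩ := exists_avoid [q, w, i, j] (by simp; omega)
      simp only [List.mem_cons, List.not_mem_nil, or_false, not_or] at hz
      refine ⟨c3 w q z * σ₀, Subgroup.mul_mem _ (c3_mem_alt hwq (Ne.symm hz.2.1) (Ne.symm hz.1)) hσ₀,
        ?_, ?_, ?_⟩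
      · rw [Perm.mul_apply, h1, c3_of_ne hwi.symm hi (Ne.symm hz.2.2.1)]
      · rw [Perm.mul_apply, h2, c3_of_ne hwj.symm hj (Ne.symm hz.2.2.2)]
      · rw [Perm.mul_apply, ← hw, c3_fst hwq (Ne.symm hz.2.1)]
    obtain ⟨g, hgσ, hg⟩ := hperm σ hσ hσq
    obtain ⟨a', ha'⟩ := hsign
    obtain ⟨d, hd0, hd⟩ := P.move' hAB (g := g) (by rw [hgσ]; exact hσ)
    rw [hgσ, hσA, hσB, ha', map_smul, map_add, map_smul, hg A hA, hg B hB.1, hσA, hσB] at hd
    exact ⟨d⁻¹ * a', by rw [mul_smul, hd, smul_smul, inv_mul_cancel₀ hd0, one_smul]⟩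
  -- the cycle through `q`
  set x := c3 A B q with hx
  have hxA : x ∈ alternatingGroup (Fin r) := c3_mem_alt hAB hA hB.1
  have hxo : Odd (orderOf x) := odd_orderOf_c3 hAB hA hB.1
  set X := ρ (L π x) with hX
  have hm := hD.map_L hxo hxA
  have hX3 : ∀ w, X (X (X w)) = w := fun w => by
    have h := hD.L_pow hxo hxA
    rw [hx, (c3_isThreeCycle hAB hA hB.1).orderOf] at h
    rw [hX, ← Module.End.mul_apply, ← Module.End.mul_apply, ← map_mul, ← map_mul,
      show L π x * L π x * L π x = 1 by rw [← h, hx]; simp only [pow_succ, pow_zero, one_mul], map_one, Module.End.one_apply]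
  have hXl : ∀ {i : Fin r}, i ≠ q → ∀ {a' b' : Fin r}, x i = a' → x q = b' →
      ∃ d : k, X (v i) = d • P.u a' b' := by
    intro i hi a' b' ha hb
    obtain ⟨d, hd⟩ := P.move hi (L π x) (by rw [hm]; exact hxA)
    rw [hm, ha, hb] at hd
    exact ⟨c i * d, by rw [hv, hX]; simp only [map_smul, hd, smul_smul]⟩
  have hxq : x q = A := c3_thd
  obtain ⟨β, hβ⟩ : ∃ β : k, X (v B) = β • v A := by
    obtain ⟨d, hd⟩ := hXl hB.1 (c3_snd hA hB.1) hxq
    obtain ⟨e, he⟩ := P.symm (i := A) (j := q) hA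
    refine ⟨d * e * (c A)⁻¹, ?_⟩
    rw [hd, he, hv, smul_smul, smul_smul, mul_assoc _ _ (c A),
      inv_mul_cancel₀ (hc0 _ ((hIm _).2 hA)), mul_one]
  obtain ⟨γ, hγ⟩ : ∃ γ : k, X (v A) = γ • (v A + ε • v B) := by
    obtain ⟨d, hd⟩ := hXl hA (c3_fst hAB hA) hxq
    obtain ⟨e, he⟩ := hline B A hB.1 hA hAB.symm
    refine ⟨d * e * ε, ?_⟩
    rw [hd, he, smul_smul, smul_add, smul_add, smul_smul, smul_smul, mul_assoc _ ε ε, hε, mul_one,
      add_comm]
  have hδ : ∀ l, l ∉ [q, A, B] → ∃ δ : k, X (v l) = δ • (v l + ε • v A) := by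
    intro l hl
    simp only [List.mem_cons, List.not_mem_nil, or_false, not_or] at hl
    obtain ⟨d, hd⟩ := hXl hl.1 (c3_of_ne hl.2.1 hl.2.2 hl.1) hxq
    obtain ⟨e, he⟩ := hline l A hl.1 hA hl.2.1
    exact ⟨d * e, by rw [hd, he, smul_smul]⟩
  have e0 : β * γ * (γ + ε * β) = 0 ∧ β * γ * γ * ε = 1 := by
    have h := hX3 (v B)
    simp only [hβ, map_smul, hγ, map_add] at h
    have h' : (β * γ * (γ + ε * β)) • v A + (β * γ * γ * ε - 1) • v B = 0 := by
      rw [← sub_eq_zero] at h; rw [← h]; module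
    obtain ⟨h1, h2⟩ := hind2 A B hA hB.1 hAB _ _ h'
    exact ⟨h1, sub_eq_zero.1 h2⟩
  have hβγ : β * γ ≠ 0 := fun h => one_ne_zero (α := k) (by rw [← e0.2, h]; simp)
  have hγβ : γ = -(ε * β) := eq_neg_of_add_eq_zero_left ((mul_eq_zero.1 e0.1).resolve_left hβγ)
  have hδeq : ∀ l, l ∉ [q, A, B] → X (v l) = (ε * β) • (v l + ε • v A) := by
    intro l hl
    obtain ⟨δ, hd⟩ := hδ l hl
    rw [hd]
    have h := hX3 (v l)
    simp only [hd, map_smul, map_add, hγ, hβ] at h
    simp only [List.mem_cons, List.not_mem_nil, or_false, not_or] at hl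
    -- coefficient of `v B`
    obtain ⟨w, hw⟩ := exists_avoid [q, A, B, l] (by simp; omega)
    simp only [List.mem_cons, List.not_mem_nil, or_false, not_or] at hw
    let d : Fin r → k := fun m => if m = B then δ * γ * (δ + γ) * (ε * ε) else
      if m = l then δ * δ * δ - 1 else
      if m = A then δ * δ * δ * ε + (δ * δ * ε + δ * ε * γ) * γ + δ * γ * (ε * ε) * β else 0
    have hd0 : ∑ m ∈ I, d m • v m = 0 := by
      rw [← Finset.sum_subset (s₁ := {B, l, A}) (by
        intro m hm; simp only [Finset.mem_insert, Finset.mem_singleton] at hm; rw [hIm]; grind)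
        (fun m _ hm => by
          simp only [Finset.mem_insert, Finset.mem_singleton, not_or] at hm
          simp [d, hm.1, hm.2.1, hm.2.2]), Finset.sum_insert (by simp; grind),
        Finset.sum_pair hl.2.1]
      simp only [d, if_pos, if_neg hl.2.2, if_neg hAB, if_neg (Ne.symm hl.2.1)]
      rw [← sub_eq_zero] at h
      rw [← h]
      module
    have hB0 := hconst d hd0 B ((hIm _).2 hB.1) w ((hIm _).2 hw.1)
    have hl0 := hconst d hd0 l ((hIm _).2 hl.1) w ((hIm _).2 hw.1)
    simp only [d, if_pos, if_neg hw.2.2.1, if_neg hw.2.2.2, if_neg hw.2.1, if_neg hl.2.2, hε,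
      mul_one] at hB0 hl0
    have hδ0 : δ ≠ 0 := fun h => one_ne_zero (α := k) (by
      rw [sub_eq_zero] at hl0; rw [← hl0, h]; simp)
    have : δ + γ = 0 := (mul_eq_zero.1 hB0).resolve_left
      (mul_ne_zero hδ0 (fun h => hβγ (by rw [h, mul_zero])))
    rw [eq_neg_of_add_eq_zero_left this, hγβ, neg_neg]
  -- apply to the sum
  have hsum : γ • (v A + ε • v B) + β • v A +
      (ε * β) • ((-(v A) - v B) + ((r - 3 : ℕ) : k) • (ε • v A)) = 0 := by
    have hA' := (hIm A).2 hA
    have hB' : B ∈ I.erase A := Finset.mem_erase.2 ⟨hAB.symm, (hIm _).2 hB.1⟩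
    have h := congrArg X hv0
    rw [map_zero, map_sum, ← Finset.add_sum_erase _ _ hA', ← Finset.add_sum_erase _ _ hB', hγ, hβ,
      Finset.sum_congr rfl (g := fun l => (ε * β) • (v l + ε • v A)) (fun l hl => hδeq l (by
        simp only [Finset.mem_erase, hIm] at hl
        simp; grind))] at h
    have hcard : ((I.erase A).erase B).card = r - 3 := by
      rw [Finset.card_erase_of_mem hB', Finset.card_erase_of_mem hA', hIc]; omega
    have hrest : ∑ l ∈ (I.erase A).erase B, v l = -(v A) - v B := by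
      have h0 := hv0
      rw [← Finset.add_sum_erase _ _ hA', ← Finset.add_sum_erase _ _ hB'] at h0
      rw [eq_sub_iff_add_eq, eq_neg_iff_add_eq_zero, ← h0]
      abel
    rw [← Finset.smul_sum, Finset.sum_add_distrib, hrest, Finset.sum_const, hcard,
      ← Nat.cast_smul_eq_nsmul k] at h
    rw [← h]
    abel
  have h' : (ε * β * (-1 + ε - 1 + ((r - 3 : ℕ) : k) * ε)) • v A + (ε * β * (-ε - 1)) • v B = 0 := by
    rw [← hsum, hγβ]
    have hb : β = ε * β * ε := by rw [mul_comm ε β, mul_assoc, hε, mul_one]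
    conv_rhs => enter [1, 2]; rw [hb]
    module
  obtain ⟨h1, h2⟩ := hind2 A B hA hB.1 hAB _ _ h'
  have hεβ : ε * β ≠ 0 := mul_ne_zero (fun h => one_ne_zero (α := k) (by rw [← hε, h]; simp))
    (left_ne_zero_of_mul hβγ)
  have hεm : ε = -1 := by
    have := (mul_eq_zero.1 h2).resolve_left hεβ
    linear_combination -this
  have := (mul_eq_zero.1 h1).resolve_left hεβ
  rw [hεm, Nat.cast_sub (by omega)] at this
  push_cast at this
  linear_combination -this

end PairLines

end H82.Alt
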