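import Cfsg.Agent.H82.Alt.Three

/-!
Representations of double covers of alternating groups of degree at least nine have degree at least `r - 2`.
-/

set_option autoImplicit false
set_option linter.style.haveILetI false

open Equiv Module

namespace H82.Alt

universe u v w

theorem main_bound (k : Type u) [Field k] [IsAlgClosed k] (p : ℕ) [Fact p.Prime] [CharP k p] :
    ∀ r, 9 ≤ r → Main.{u, v, w} k r := by
  intro r
  induction r using Nat.strong_induction_on with
  | _ r ih =>
    intro hr V _ _ _ G _ π ρ hD hnt
    by_cases hn : r - 2 < finrank k V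
    · exact ⟨hn.le, fun h => absurd h (Nat.ne_of_gt hn)⟩
    rw [not_lt] at hn
    by_cases h3 : (3 : k) = 0
    · have hp : p = 3 := (Nat.prime_dvd_prime_iff_eq (Fact.out) Nat.prime_three).1
        ((CharP.cast_eq_zero_iff k p 3).1 (by exact_mod_cast h3))
      subst hp
      have hL : Lin π ρ := fun g hg => J_sq_one hD hr h3
        (fun h14 => ih _ (by omega) (by omega)) hn hnt hg
      obtain ⟨P⟩ := pairLines_three hD hr hL (fun h13 => ih _ (by omega) (by omega)) hn hnt
      exact P.bound hD hr
    by_cases h12 : 12 ≤ r
    · obtain ⟨P⟩ := pairLines_of_fix hD hr h3 hnt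
        (fix_of_ih hD h12 h3 (ih _ (by omega) (by omega)) hn)
      exact P.bound hD hr
    rcases small_not_three hD hr (by omega) h3 hn hnt with h | h
    · obtain ⟨P⟩ := pairLines_of_fix hD hr h3 hnt h
      exact P.bound hD hr
    · exact h

end H82.Alt
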