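import Cfsg.Agent.H82.Alt.Common

/-!
Characteristic different from three: the commutator spaces of two three-cycles meet.
-/

set_option autoImplicit false
set_option maxHeartbeats 800000
set_option linter.unusedSectionVars false
set_option linter.style.haveILetI false

open Equiv Module

namespace H82.Alt

universe u v w

variable {k : Type u} [Field k] {V : Type v} [AddCommGroup V] [Module k V] [FiniteDimensional k V]
variable {G : Type w} [Group G] {r : ℕ} {π : G →* Perm (Fin r)} {ρ : G →* Module.End k V}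

theorem mov_swap (hD : Datum π ρ) {a b c : Fin r} (ab : a ≠ b) (ac : a ≠ c) (bc : b ≠ c) :
    mov (X π ρ b a c) = mov (X π ρ a b c) := by
  rw [X_rot hD ab.symm bc ac, X_rot hD ac ab bc.symm, mov_rev hD ab ac bc]

/-- The two spaces meet. -/
theorem mov_inf_ne_bot (hD : Datum π ρ) (hr : 9 ≤ r) (h3 : (3 : k) ≠ 0)
    (hne : ∀ {a b c : Fin r}, a ≠ b → a ≠ c → b ≠ c → X π ρ a b c ≠ 1)
    (hfix : ∀ a b c a' b' c' : Fin r, [a, b, c, a', b', c'].Nodup →
      ∀ v ∈ mov (X π ρ a b c), X π ρ a' b' c' v = v)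
    {a b c d : Fin r} (hnd : [a, b, c, d].Nodup) :
    mov (X π ρ a b c) ⊓ mov (X π ρ a b d) ≠ ⊥ := by
  intro hbot
  simp only [List.nodup_cons, List.mem_cons, List.not_mem_nil, or_false, not_or, List.nodup_nil,
    and_true, not_false_eq_true] at hnd
  obtain ⟨⟨ab, ac, ad⟩, ⟨bc, bd⟩, cd⟩ := hnd
  set U := fun x y z : Fin r => mov (X π ρ x y z) with hU
  -- all commutator spaces have one dimension
  have hdim : ∀ x y z, x ≠ y → x ≠ z → y ≠ z → finrank k (U x y z) = finrank k (U a b c) := by
    intro x y z xy xz yz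
    obtain ⟨g, -, hg⟩ := exists_conj_c3 hD (by omega) ab ac bc xy xz yz
    have h := map_mov_X hD ab ac bc g
    have e : X π ρ (π g a) (π g b) (π g c) = X π ρ x y z := by rw [X_def, X_def, ← conj_c3, hg]
    rw [e] at h
    show finrank k (mov (X π ρ x y z)) = finrank k (mov (X π ρ a b c))
    rw [← h, LinearEquiv.finrank_map_eq]
  -- the intersection property is conjugation invariant
  have hzero : ∀ x y z t, [x, y, z, t].Nodup → Disjoint (U x y z) (U x y t) := by
    intro x y z t h
    simp only [List.nodup_cons, List.mem_cons, List.not_mem_nil, or_false, not_or, List.nodup_nil,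
      and_true, not_false_eq_true] at h
    obtain ⟨⟨xy, xz, xt⟩, ⟨yz, yt⟩, zt⟩ := h
    obtain ⟨σ, hσA, ha, hb, hc, hd⟩ : ∃ σ ∈ alternatingGroup (Fin r),
        σ a = x ∧ σ b = y ∧ σ c = z ∧ σ d = t := by
      obtain ⟨σ, hσ⟩ := (Equiv.Perm.exists_extending_pair (fun i : Fin 4 => (![a, b, c, d] i))
        (fun i : Fin 4 => ![x, y, z, t] i)
        (by intro i j; fin_cases i <;> fin_cases j <;> simp <;> grind)
        (by intro i j; fin_cases i <;> fin_cases j <;> simp <;> grind))
      have e0 := hσ 0; have e1 := hσ 1; have e2 := hσ 2; have e3 := hσ 3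
      simp at e0 e1 e2 e3
      by_cases hs : Perm.sign σ = 1
      · exact ⟨σ, Perm.mem_alternatingGroup.2 hs, e0, e1, e2, e3⟩
      obtain ⟨p, hp⟩ := exists_avoid [a, b, c, d] (by simp; omega)
      obtain ⟨q, hq⟩ := exists_avoid [a, b, c, d, p] (by simp; omega)
      simp only [List.mem_cons, List.not_mem_nil, or_false, not_or] at hp hq
      refine ⟨σ * swap p q, ?_, ?_, ?_, ?_, ?_⟩
      · rw [Perm.mem_alternatingGroup, Perm.sign_mul, Perm.sign_swap (Ne.symm hq.2.2.2.2)]
        rcases Int.units_eq_one_or (Perm.sign σ) with h | h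
        · exact absurd h hs
        · rw [h]; rfl
      all_goals rw [Perm.mul_apply, swap_apply_of_ne_of_ne (by grind) (by grind)]
      exacts [e0, e1, e2, e3]
    obtain ⟨g, hg⟩ := hD.surj σ hσA
    have h1 := map_mov_X hD ab ac bc g
    have h2 := map_mov_X hD ab ad bd g
    rw [hg, ha, hb, hc] at h1
    rw [hg, ha, hb, hd] at h2
    rw [hU, disjoint_iff]
    simp only [← h1, ← h2]
    rw [← Submodule.map_inf _ (rhoEquiv ρ g).injective, hbot, Submodule.map_bot]
  -- five points
  have hfive : ∀ x y z s t, [x, y, z, s, t].Nodup →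
      U x y z ≤ U x y s ⊔ U x y t ∧ U x s t ≤ U x y s ⊔ U x y t := by
    intro x y z s t h
    simp only [List.nodup_cons, List.mem_cons, List.not_mem_nil, or_false, not_or, List.nodup_nil,
      and_true, not_false_eq_true] at h
    obtain ⟨⟨xy, xz, xs, xt⟩, ⟨yz, ys, yt⟩, ⟨zs, zt⟩, st⟩ := h
    have i1 : U x y s ≤ U x y z ⊔ U z s t := by
      have := mov_conj_le (ρ := ρ) hD xy xz yz zs zt st
      rwa [c3_of_ne xz xs xt, c3_of_ne yz ys yt, c3_fst zs zt] at this
    have i2 : U x y t ≤ U x y z ⊔ U z s t := by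
      have := mov_conj_le (ρ := ρ) hD xy xz yz (Ne.symm st) (Ne.symm zt) (Ne.symm zs)
      rwa [c3_of_ne xt xs xz, c3_of_ne yt ys yz, c3_thd, mov_rev hD zs zt st] at this
    have i3 : U x s t ≤ U x y z ⊔ U z s t := by
      have := mov_conj_le (ρ := ρ) hD zs zt st xy xz yz
      rw [c3_thd, c3_of_ne (Ne.symm xs) (Ne.symm ys) (Ne.symm zs),
        c3_of_ne (Ne.symm xt) (Ne.symm yt) (Ne.symm zt), sup_comm] at this
      exact this
    have hle : U x y s ⊔ U x y t ≤ U x y z ⊔ U z s t := sup_le i1 i2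
    have heq : U x y s ⊔ U x y t = U x y z ⊔ U z s t := by
      refine Submodule.eq_of_le_of_finrank_le hle ?_
      have e1 := Submodule.finrank_sup_add_finrank_inf_eq (U x y s) (U x y t)
      rw [(hzero x y s t (by simp; grind)).eq_bot, finrank_bot, add_zero, hdim x y s xy xs ys,
        hdim x y t xy xt yt] at e1
      have e2 := Submodule.finrank_add_le_finrank_add_finrank (U x y z) (U z s t)
      rw [hdim x y z xy xz yz, hdim z s t zs zt st] at e2
      omega
    rw [heq]
    exact ⟨le_sup_left, i3⟩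
  obtain ⟨p, hp⟩ := exists_avoid [a, b, c, d] (by simp; omega)
  obtain ⟨q, hq⟩ := exists_avoid [a, b, c, d, p] (by simp; omega)
  obtain ⟨s, hs⟩ := exists_avoid [a, b, c, d, p, q] (by simp; omega)
  obtain ⟨t, ht⟩ := exists_avoid [a, b, c, d, p, q, s] (by simp; omega)
  simp only [List.mem_cons, List.not_mem_nil, or_false, not_or] at hp hq hs ht
  set W := U a b c ⊔ U a b d
  have hW : ∀ e, e ∉ [a, b] → U a b e ≤ W := by
    intro e he
    simp only [List.mem_cons, List.not_mem_nil, or_false, not_or] at he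
    by_cases e1 : e = c
    · rw [e1]; exact le_sup_left
    by_cases e2 : e = d
    · rw [e2]; exact le_sup_right
    exact (hfive a b e c d (by simp; grind)).1
  have hWa : ∀ e f, e ∉ [a, b] → f ∉ [a, b, e] → U a e f ≤ W := by
    intro e f he hf
    simp only [List.mem_cons, List.not_mem_nil, or_false, not_or] at he hf
    obtain ⟨g, hg⟩ := exists_avoid [a, b, e, f] (by simp; omega)
    simp only [List.mem_cons, List.not_mem_nil, or_false, not_or] at hg
    exact ((hfive a b g e f (by simp; grind)).2).trans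
      (sup_le (hW e (by simp; grind)) (hW f (by simp; grind)))
  have hpW : U p q s ≤ W := by
    have h1 := (hfive p a t q s (by simp; grind)).2
    refine h1.trans (sup_le ?_ ?_) <;> simp only [hU]
    · rw [mov_swap hD (a := a) (b := p) (by grind) (by grind) (by grind)]
      exact hWa p q (by simp; grind) (by simp; grind)
    · rw [mov_swap hD (a := a) (b := p) (by grind) (by grind) (by grind)]
      exact hWa p s (by simp; grind) (by simp; grind)
  have hWfix : ∀ v ∈ W, X π ρ p q s v = v := by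
    intro v hv
    obtain ⟨v1, h1, v2, h2, rfl⟩ := Submodule.mem_sup.1 hv
    rw [map_add, hfix a b c p q s (by simp; grind) v1 h1, hfix a b d p q s (by simp; grind) v2 h2]
  have pq : p ≠ q := by grind
  have ps : p ≠ s := by grind
  have qs : q ≠ s := by grind
  refine hne pq ps qs ?_
  ext v
  have hv := sub_mem_mov (f := X π ρ p q s) v
  have h0 := eq_zero_of_mov_fixed (t := 3) (X_cube hD pq ps qs) (by simpa using h3) hv
    (hWfix _ (hpW hv))
  rw [sub_eq_zero] at h0
  rw [h0, Module.End.one_apply]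

theorem pairLines_of_fix [IsAlgClosed k] (hD : Datum π ρ) (hr : 9 ≤ r) (h3 : (3 : k) ≠ 0)
    (hnt : ∃ a b c, a ≠ b ∧ a ≠ c ∧ b ≠ c ∧ ρ (L π (c3 a b c)) ≠ 1)
    (hfix : ∀ a b c a' b' c' : Fin r, [a, b, c, a', b', c'].Nodup →
      ∀ v ∈ mov (X π ρ a b c), X π ρ a' b' c' v = v) :
    Nonempty (PairLines π ρ) := by
  let a : Fin r := ⟨0, by omega⟩
  let b : Fin r := ⟨1, by omega⟩
  let c : Fin r := ⟨2, by omega⟩
  let d : Fin r := ⟨3, by omega⟩
  have ab : a ≠ b := by simp [a, b]
  have ac : a ≠ c := by simp [a, c]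
  have ad : a ≠ d := by simp [a, d]
  have bc : b ≠ c := by simp [b, c]
  have bd : b ≠ d := by simp [b, d]
  have cd : c ≠ d := by simp [c, d]
  have hne : ∀ {a b c : Fin r}, a ≠ b → a ≠ c → b ≠ c → X π ρ a b c ≠ 1 :=
    fun h1 h2 h3 => X_ne_one hD (by omega) hnt h1 h2 h3
  have hF := mov_inf_ne_bot hD hr h3 hne hfix (a := a) (b := b) (c := c) (d := d) (by simp; grind)
  have hσ : swap a b * swap c d ∈ alternatingGroup (Fin r) := by
    rw [Perm.mem_alternatingGroup, Perm.sign_mul, Perm.sign_swap ab, Perm.sign_swap cd]; rfl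
  obtain ⟨g₀, hg₀⟩ := hD.surj _ hσ
  have ea : π g₀ a = b := by rw [hg₀]; simp only [Perm.mul_apply, swap_apply_def]; grind
  have eb : π g₀ b = a := by rw [hg₀]; simp only [Perm.mul_apply, swap_apply_def]; grind
  have ec : π g₀ c = d := by rw [hg₀]; simp only [Perm.mul_apply, swap_apply_def]; grind
  have ed : π g₀ d = c := by rw [hg₀]; simp only [Perm.mul_apply, swap_apply_def]; grind
  refine exists_pairLines hD hr ab _ hF (hg₀ ▸ hσ) ea eb ?_ ?_ ?_
  · intro v hv
    rw [Submodule.mem_inf] at hv ⊢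
    have h1 := apply_mov_mem hD ab ac bc g₀ hv.1
    have h2 := apply_mov_mem hD ab ad bd g₀ hv.2
    rw [ea, eb, ec, mov_swap hD ab ad bd] at h1
    rw [ea, eb, ed, mov_swap hD ab ac bc] at h2
    exact ⟨h2, h1⟩
  · intro v hv x y z xy xz yz hax hbx
    rw [Submodule.mem_inf] at hv
    simp only [List.mem_cons, List.not_mem_nil, or_false, not_or] at hax hbx
    refine fixed_of_avoid hD v ({a, b}ᶜ) (u := c) (v' := d) ?_ (by simp; grind) (by simp; grind) cd
      ?_ ?_ x (by simp; grind) y (by simp; grind) z (by simp; grind) xy xz yz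
    · intro x y
      obtain ⟨w, hw⟩ := exists_avoid [a, b, x, y, c, d] (by simp; omega)
      simp only [List.mem_cons, List.not_mem_nil, or_false, not_or] at hw
      exact ⟨w, by simp; grind, by grind⟩
    · intro x hx y hy z hz xy xz yz xu yu zu
      simp only [Set.mem_compl_iff, Set.mem_insert_iff, Set.mem_singleton_iff, not_or] at hx hy hz
      exact hfix a b c x y z (by simp; grind) v hv.1
    · intro x hx y hy z hz xy xz yz xu yu zu
      simp only [Set.mem_compl_iff, Set.mem_insert_iff, Set.mem_singleton_iff, not_or] at hx hy hz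
      exact hfix a b d x y z (by simp; grind) v hv.2
  · intro v hv hv0
    rw [Submodule.mem_inf] at hv
    exact ⟨a, b, c, ab, ac, bc, fun h => hv0 (eq_zero_of_mov_fixed (t := 3) (X_cube hD ab ac bc)
      (by simpa using h3) hv.1 h)⟩

/-- Disjoint three-cycles fix the commutator spaces, by induction. -/
theorem fix_of_ih [IsAlgClosed k] (hD : Datum π ρ) (hr : 12 ≤ r) (h3 : (3 : k) ≠ 0)
    (hIH : Main.{u, v, w} k (r - 3)) (hn : finrank k V ≤ r - 2) (a b c a' b' c' : Fin r)
    (hnd : [a, b, c, a', b', c'].Nodup) :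
    ∀ v ∈ mov (X π ρ a b c), X π ρ a' b' c' v = v := by
  simp only [List.nodup_cons, List.mem_cons, List.not_mem_nil, or_false, not_or, List.nodup_nil,
    and_true, not_false_eq_true] at hnd
  obtain ⟨⟨ab, ac, ha1, ha2, ha3⟩, ⟨bc, hb1, hb2, hb3⟩, ⟨hc1, hc2, hc3⟩, ⟨ab', ac'⟩, bc'⟩ := hnd
  have hX3 : X π ρ a b c ^ 3 = 1 := X_cube hD ab ac bc
  have h3' : ((3 : ℕ) : k) ≠ 0 := by simpa using h3
  intro v hv
  refine fix_mov (t := 3) hX3 h3' _ (fun μ hμ w hw => ?_) hv
  obtain ⟨e, he⟩ := exists_compl_emb ({a, b, c} : Finset (Fin r)) (m := r - 3) (by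
    rw [Finset.card_insert_of_notMem (by simp; grind), Finset.card_pair bc]; omega)
  have hout : ∀ x, x = a ∨ x = b ∨ x = c → x ∉ Set.range e := fun x hx => by
    rw [he]; simp; grind
  refine small_trivial hD hIH e ((X π ρ a b c).eigenspace μ) ?_ ?_ ab' ac' bc'
    (by rw [he]; simp; grind) (by rw [he]; simp; grind) (by rw [he]; simp; grind) hw
  · intro g hg u hu
    have h := map_eig_X hD ab ac bc g μ
    rw [over_fix hg (hout a (Or.inl rfl)), over_fix hg (hout b (Or.inr (Or.inl rfl))),
      over_fix hg (hout c (Or.inr (Or.inr rfl)))] at h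
    rw [← h]; exact ⟨u, hu, rfl⟩
  -- the eigenspace has at most half the dimension
  by_cases hbot : (X π ρ a b c).eigenspace μ = ⊥
  · rw [hbot, finrank_bot]; omega
  obtain ⟨q, hq⟩ := exists_avoid [a, b, c] (by simp; omega)
  obtain ⟨s, hs⟩ := exists_avoid [a, b, c, q] (by simp; omega)
  simp only [List.mem_cons, List.not_mem_nil, or_false, not_or] at hq hs
  obtain ⟨g, hg⟩ := hD.surj (swap a b * swap q s) (by
    rw [Perm.mem_alternatingGroup, Perm.sign_mul, Perm.sign_swap ab,
      Perm.sign_swap (Ne.symm hs.2.2.2)]; rfl)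
  have h := map_eig_X hD ab ac bc g μ
  have e1 : π g a = b := by rw [hg]; simp only [Perm.mul_apply, swap_apply_def]; grind
  have e2 : π g b = a := by rw [hg]; simp only [Perm.mul_apply, swap_apply_def]; grind
  have e3 : π g c = c := by rw [hg]; simp only [Perm.mul_apply, swap_apply_def]; grind
  rw [e1, e2, e3] at h
  have hinv : X π ρ b a c = X π ρ c b a := by
    rw [X_rot hD (Ne.symm ab) bc ac, X_rot hD ac ab (Ne.symm bc)]
  rw [hinv] at h
  have hdisj : Disjoint ((X π ρ a b c).eigenspace μ) ((X π ρ c b a).eigenspace μ) := by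
    rw [Submodule.disjoint_def]
    intro u hu hu'
    rw [Module.End.mem_eigenspace_iff] at hu hu'
    by_contra hu0
    have h1 := congrArg (X π ρ a b c) hu'
    rw [← Module.End.mul_apply, X_mul_rev hD ab ac bc, Module.End.one_apply, map_smul, hu,
      smul_smul] at h1
    have h2 : μ * μ = 1 := by
      by_contra hne
      exact hne (smul_left_injective k hu0 (by simpa using h1.symm))
    exact hμ (by linear_combination (-μ) * h2 + eig_pow_eq_one hX3 hbot)
  have hs := Submodule.finrank_sup_add_finrank_inf_eq ((X π ρ a b c).eigenspace μ)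
    ((X π ρ c b a).eigenspace μ)
  rw [hdisj.eq_bot, finrank_bot, add_zero] at hs
  have hle := Submodule.finrank_le ((X π ρ a b c).eigenspace μ ⊔ (X π ρ c b a).eigenspace μ)
  have heq : finrank k ((X π ρ c b a).eigenspace μ) = finrank k ((X π ρ a b c).eigenspace μ) := by
    rw [← h, LinearEquiv.finrank_map_eq]
  have key : ∀ A B C N R : ℕ, B = A → C = A + B → C ≤ N → N ≤ R - 2 → 12 ≤ R → A < R - 3 - 2 :=
    fun A B C N R h1 h2 h3 h4 h5 => by omega
  exact key _ _ _ _ _ heq hs hle hn hr

end H82.Alt
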