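import Mathlib

/-!
Three-cycles given by their points.
-/

set_option autoImplicit false

open Equiv

namespace H82.Alt

variable {α β : Type*} [DecidableEq α] [DecidableEq β]

/-- The three-cycle `a ↦ b ↦ c ↦ a`. -/
def c3 (a b c : α) : Perm α := swap a b * swap b c

variable {a b c : α}

theorem c3_fst (ab : a ≠ b) (ac : a ≠ c) : c3 a b c a = b := by
  rw [c3, Perm.mul_apply, swap_apply_of_ne_of_ne ab ac, swap_apply_left]

theorem c3_snd (ac : a ≠ c) (bc : b ≠ c) : c3 a b c b = c := by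
  rw [c3, Perm.mul_apply, swap_apply_left, swap_apply_of_ne_of_ne ac.symm bc.symm]

theorem c3_thd : c3 a b c c = a := by
  rw [c3, Perm.mul_apply, swap_apply_right, swap_apply_right]

theorem c3_of_ne {x : α} (ha : x ≠ a) (hb : x ≠ b) (hc : x ≠ c) : c3 a b c x = x := by
  rw [c3, Perm.mul_apply, swap_apply_of_ne_of_ne hb hc, swap_apply_of_ne_of_ne ha hb]

theorem conj_swap (σ : Perm α) (x y : α) : σ * swap x y * σ⁻¹ = swap (σ x) (σ y) :=
  (swap_apply_apply σ x y).symm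

theorem conj_c3 (σ : Perm α) (a b c : α) : σ * c3 a b c * σ⁻¹ = c3 (σ a) (σ b) (σ c) := by
  rw [c3, c3, ← conj_swap σ a b, ← conj_swap σ b c]
  group

theorem c3_inv (a b c : α) : (c3 a b c)⁻¹ = c3 c b a := by
  rw [c3, c3, mul_inv_rev, swap_inv, swap_inv, swap_comm b c, swap_comm a b]

theorem c3_rot (ab : a ≠ b) (ac : a ≠ c) (bc : b ≠ c) : c3 a b c = c3 b c a := by
  ext x
  by_cases h1 : x = a
  · subst h1; rw [c3_fst ab ac, c3_thd]
  by_cases h2 : x = b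
  · subst h2; rw [c3_snd ac bc, c3_fst bc ab.symm]
  by_cases h3 : x = c
  · subst h3; rw [c3_thd, c3_snd ab.symm ac.symm]
  rw [c3_of_ne h1 h2 h3, c3_of_ne h2 h3 h1]

theorem c3_commute {a' b' c' : α} (h1 : a' ≠ a ∧ a' ≠ b ∧ a' ≠ c) (h2 : b' ≠ a ∧ b' ≠ b ∧ b' ≠ c)
    (h3 : c' ≠ a ∧ c' ≠ b ∧ c' ≠ c) : Commute (c3 a b c) (c3 a' b' c') := by
  have h := conj_c3 (c3 a b c) a' b' c'
  rw [c3_of_ne h1.1 h1.2.1 h1.2.2, c3_of_ne h2.1 h2.2.1 h2.2.2, c3_of_ne h3.1 h3.2.1 h3.2.2,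
    mul_inv_eq_iff_eq_mul] at h
  exact h

theorem c3_cube (ab : a ≠ b) (ac : a ≠ c) (bc : b ≠ c) : c3 a b c ^ 3 = 1 := by
  ext x
  simp only [pow_succ, pow_zero, one_mul, Perm.mul_apply, Perm.one_apply]
  by_cases h1 : x = a
  · subst h1; rw [c3_fst ab ac, c3_snd ac bc, c3_thd]
  by_cases h2 : x = b
  · subst h2; rw [c3_snd ac bc, c3_thd, c3_fst ab ac]
  by_cases h3 : x = c
  · subst h3; rw [c3_thd, c3_fst ab ac, c3_snd ac bc]
  rw [c3_of_ne h1 h2 h3, c3_of_ne h1 h2 h3, c3_of_ne h1 h2 h3]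

theorem c3_ne_one (ab : a ≠ b) (ac : a ≠ c) : c3 a b c ≠ 1 := fun h => by
  have := c3_fst ab ac
  rw [h, Perm.one_apply] at this
  exact ab this

section Fintype

variable [Fintype α]

theorem c3_isThreeCycle (ab : a ≠ b) (ac : a ≠ c) (bc : b ≠ c) : (c3 a b c).IsThreeCycle := by
  have h := Perm.isThreeCycle_swap_mul_swap_same ab.symm bc ac
  rwa [swap_comm b a] at h

theorem c3_mem_alt (ab : a ≠ b) (ac : a ≠ c) (bc : b ≠ c) : c3 a b c ∈ alternatingGroup α :=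
  (c3_isThreeCycle ab ac bc).mem_alternatingGroup

theorem exists_c3 {σ : Perm α} (h : σ.IsThreeCycle) :
    ∃ a b c, a ≠ b ∧ a ≠ c ∧ b ≠ c ∧ σ = c3 a b c := by
  obtain ⟨a, ha⟩ : σ.support.Nonempty := by
    rw [← Finset.card_pos, h.card_support]; omega
  have hn := h.nodup_iff_mem_support.2 ha
  simp only [List.nodup_cons, List.mem_cons, List.not_mem_nil, or_false, not_or] at hn
  exact ⟨a, σ a, σ (σ a), hn.1.1, hn.1.2, hn.2.1, h.eq_swap_mul_swap_iff_mem_support.2 ha⟩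

/-- A subgroup that contains every three-cycle contains the alternating group. -/
theorem alt_le {H : Subgroup (Perm α)}
    (h : ∀ a b c : α, a ≠ b → a ≠ c → b ≠ c → c3 a b c ∈ H) : alternatingGroup α ≤ H := by
  rw [← Perm.closure_three_cycles_eq_alternating, Subgroup.closure_le]
  intro σ hσ
  obtain ⟨a, b, c, ab, ac, bc, rfl⟩ := exists_c3 hσ
  exact h a b c ab ac bc

/-- If a subgroup contains the three-cycles avoiding `u` and those avoiding `v`, then it contains all of them. -/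
theorem c3_mem_of_avoid {H : Subgroup (Perm α)} {S : Set α} {u v : α}
    (hbig : ∀ x y : α, ∃ w ∈ S, w ≠ x ∧ w ≠ y ∧ w ≠ u ∧ w ≠ v) (hu : u ∈ S) (hv : v ∈ S)
    (huv : u ≠ v)
    (h1 : ∀ a ∈ S, ∀ b ∈ S, ∀ c ∈ S, a ≠ b → a ≠ c → b ≠ c → a ≠ u → b ≠ u → c ≠ u → c3 a b c ∈ H)
    (h2 : ∀ a ∈ S, ∀ b ∈ S, ∀ c ∈ S, a ≠ b → a ≠ c → b ≠ c → a ≠ v → b ≠ v → c ≠ v → c3 a b c ∈ H) :
    ∀ a ∈ S, ∀ b ∈ S, ∀ c ∈ S, a ≠ b → a ≠ c → b ≠ c → c3 a b c ∈ H := by
  have key : ∀ z ∈ S, z ≠ u → z ≠ v → c3 u v z ∈ H := by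
    intro z hz zu zv
    obtain ⟨w, hw, wz, -, wu, wv⟩ := hbig z z
    obtain ⟨w', hw', w'z, w'w, w'u, w'v⟩ := hbig z w
    -- move `u` to `w` by a cycle avoiding `v`
    have g : c3 u w w' ∈ H := h2 u hu w hw w' hw' wu.symm w'u.symm w'w.symm huv wv w'v
    have e := conj_c3 (c3 u w w')⁻¹ w v z
    rw [inv_inv, c3_inv] at e
    rw [c3_snd w'u wu, c3_of_ne w'v.symm wv.symm huv.symm, c3_of_ne w'z.symm wz.symm zu] at e
    rw [← e, ← c3_inv]
    exact H.mul_mem (H.mul_mem (H.inv_mem g) (h1 w hw v hv z hz wv wz zv.symm wu huv.symm zu)) g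
  intro a ha b hb c hc ab ac bc
  by_cases hau : a ≠ u ∧ b ≠ u ∧ c ≠ u
  · exact h1 a ha b hb c hc ab ac bc hau.1 hau.2.1 hau.2.2
  by_cases hav : a ≠ v ∧ b ≠ v ∧ c ≠ v
  · exact h2 a ha b hb c hc ab ac bc hav.1 hav.2.1 hav.2.2
  -- both `u` and `v` occur
  have h' : c3 a b c = c3 u v (if a ≠ u ∧ a ≠ v then a else if b ≠ u ∧ b ≠ v then b else c) ∨
      c3 a b c = (c3 u v (if a ≠ u ∧ a ≠ v then a else if b ≠ u ∧ b ≠ v then b else c))⁻¹ := by
    have r1 := c3_rot ab ac bc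
    have r2 := c3_rot bc ab.symm ac.symm
    rw [c3_inv]
    rcases (show (a = u ∧ b = v) ∨ (a = u ∧ c = v) ∨ (b = u ∧ a = v) ∨ (b = u ∧ c = v) ∨
        (c = u ∧ a = v) ∨ (c = u ∧ b = v) by grind) with
      h | h | h | h | h | h <;> obtain ⟨rfl, rfl⟩ := h <;> simp [ab, ac, bc, ab.symm, ac.symm, bc.symm]
    all_goals first
      | exact Or.inl r1
      | exact Or.inl (r1.trans r2)
      | exact Or.inr r1
      | exact Or.inr (r1.trans r2)
  set z := if a ≠ u ∧ a ≠ v then a else if b ≠ u ∧ b ≠ v then b else c with hz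
  have hzS : z ∈ S ∧ z ≠ u ∧ z ≠ v := by
    rw [hz]; split_ifs <;> grind
  have hk := key z hzS.1 hzS.2.1 hzS.2.2
  rcases h' with e | e <;> rw [e]
  exacts [hk, H.inv_mem hk]

/-- The image of a three-cycle under an embedding. -/
theorem viaEmbedding_c3 [Fintype β] (e : α ↪ β) (ab : a ≠ b) (ac : a ≠ c) (bc : b ≠ c) :
    Perm.viaEmbeddingHom e (c3 a b c) = c3 (e a) (e b) (e c) := by
  ext x
  rw [Perm.viaEmbeddingHom_apply]
  by_cases hx : x ∈ Set.range e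
  · obtain ⟨y, rfl⟩ := hx
    rw [Perm.viaEmbedding_apply]
    by_cases h1 : y = a
    · subst h1; rw [c3_fst ab ac, c3_fst (e.injective.ne ab) (e.injective.ne ac)]
    by_cases h2 : y = b
    · subst h2; rw [c3_snd ac bc, c3_snd (e.injective.ne ac) (e.injective.ne bc)]
    by_cases h3 : y = c
    · subst h3; rw [c3_thd, c3_thd]
    rw [c3_of_ne h1 h2 h3, c3_of_ne (e.injective.ne h1) (e.injective.ne h2) (e.injective.ne h3)]
  · rw [Perm.viaEmbedding_apply_of_notMem _ _ _ hx,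
      c3_of_ne (fun h => hx ⟨a, h.symm⟩) (fun h => hx ⟨b, h.symm⟩) (fun h => hx ⟨c, h.symm⟩)]

end Fintype

theorem viaEmbedding_mem_alt [Fintype α] [Fintype β] (e : α ↪ β) {σ : Perm α}
    (hσ : σ ∈ alternatingGroup α) : Perm.viaEmbeddingHom e σ ∈ alternatingGroup β := by
  have : alternatingGroup α ≤ (alternatingGroup β).comap (Perm.viaEmbeddingHom e) :=
    alt_le fun a b c ab ac bc => by
      rw [Subgroup.mem_comap, viaEmbedding_c3 e ab ac bc]
      exact c3_mem_alt (e.injective.ne ab) (e.injective.ne ac) (e.injective.ne bc)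
  exact this hσ

end H82.Alt
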