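import Cfsg.Agent.H82.Alt.ThreeBase

/-!
Characteristic three: the weight spaces of the four-group of a quadruple.
-/

set_option autoImplicit false
set_option linter.unusedSectionVars false
set_option linter.style.haveILetI false
set_option maxHeartbeats 800000

open Equiv Module

namespace H82.Alt

universe u v w

variable {k : Type u} [Field k] {V : Type v} [AddCommGroup V] [Module k V] [FiniteDimensional k V]
variable {G : Type w} [Group G] {r : ℕ} {π : G →* Perm (Fin r)} {ρ : G →* Module.End k V}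

/-- All lifts of double transpositions are involutions. -/
def Lin (π : G →* Perm (Fin r)) (ρ : G →* Module.End k V) : Prop :=
  ∀ g, IsDT (π g) → ρ g * ρ g = 1

/-- The vectors of the weight trivial on the first involution only. -/
noncomputable def E (π : G →* Perm (Fin r)) (ρ : G →* Module.End k V) (a b c d : Fin r) :
    Submodule k V :=
  (J π ρ a b c d).eigenspace 1 ⊓ (J π ρ a c d b).eigenspace (-1)

/-- The vectors fixed by the four-group. -/
noncomputable def C0 (π : G →* Perm (Fin r)) (ρ : G →* Module.End k V) (a b c d : Fin r) :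
    Submodule k V :=
  (J π ρ a b c d).eigenspace 1 ⊓ (J π ρ a c d b).eigenspace 1

theorem mem_E {a b c d : Fin r} {v : V} :
    v ∈ E π ρ a b c d ↔ J π ρ a b c d v = v ∧ J π ρ a c d b v = -v := by
  simp [E]

theorem mem_C0 {a b c d : Fin r} {v : V} :
    v ∈ C0 π ρ a b c d ↔ J π ρ a b c d v = v ∧ J π ρ a c d b v = v := by
  simp [C0]

theorem nodup_rot {a b c d : Fin r} (h : [a, b, c, d].Nodup) : [a, c, d, b].Nodup := by
  simp only [List.nodup_cons, List.mem_cons, List.not_mem_nil, or_false, not_or, List.nodup_nil,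
    and_true, not_false_eq_true] at h ⊢
  grind

theorem comm_dt (hL : Lin π ρ) {g h : G} (hg : IsDT (π g)) (hh : IsDT (π h))
    (hgh : IsDT (π (g * h))) : Commute (ρ g) (ρ h) := by
  have e1 := hL g hg
  have e2 := hL h hh
  have e3 := hL _ hgh
  rw [map_mul] at e3
  show ρ g * ρ h = ρ h * ρ g
  symm
  calc ρ h * ρ g = ρ h * ρ g * (ρ g * ρ h * (ρ g * ρ h)) := by rw [e3, mul_one]
    _ = ρ h * (ρ g * ρ g) * ρ h * (ρ g * ρ h) := by simp only [mul_assoc]
    _ = ρ g * ρ h := by rw [e1, mul_one, e2, one_mul]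

section

variable (hD : Datum π ρ) (hL : Lin π ρ) {a b c d : Fin r} (h : [a, b, c, d].Nodup)
include hD hL h

theorem J_sq : J π ρ a b c d * J π ρ a b c d = 1 := by
  rw [J_eq]; exact hL _ (isDT_jel hD h)

theorem J_J (v : V) : J π ρ a b c d (J π ρ a b c d v) = v := by
  rw [← Module.End.mul_apply, J_sq hD hL h, Module.End.one_apply]

theorem J_triple : Commute (J π ρ a b c d) (J π ρ a c d b) ∧
    J π ρ a b c d * J π ρ a c d b = J π ρ a d b c := by
  have h2 := nodup_rot h
  have h3 := nodup_rot h2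
  have hn := h
  simp only [List.nodup_cons, List.mem_cons, List.not_mem_nil, or_false, not_or, List.nodup_nil,
    and_true, not_false_eq_true] at hn
  obtain ⟨⟨ab, ac, ad⟩, ⟨bc, bd⟩, cd⟩ := hn
  have hcomm : Commute (J π ρ a b c d) (J π ρ a c d b) := by
    rw [J_eq, J_eq]
    refine comm_dt hL (isDT_jel hD h) (isDT_jel hD h2) ?_
    rw [map_mul, map_jel hD h, map_jel hD h2]
    refine ⟨a, d, b, c, by simp; grind, ?_⟩
    ext x; simp only [Perm.mul_apply, swap_apply_def]; grind
  refine ⟨hcomm, ?_⟩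
  set x := X π ρ b c d with hx
  set y := X π ρ a b c with hy
  have hx3 : x * x * x = 1 := by
    rw [← X_cube hD bc bd cd (ρ := ρ)]; simp only [pow_succ, pow_zero, one_mul, hx]
  have hy3 : y * y * y = 1 := by
    rw [← X_cube hD ab ac bc (ρ := ρ)]; simp only [pow_succ, pow_zero, one_mul, hy]
  have hyx : y * x * (y * x) = 1 := J_sq hD hL h
  have hm := map_L_c3 hD bc bd cd
  have eB : x * J π ρ a b c d = J π ρ a c d b * x := by
    have := J_conj hD h (L π (c3 b c d))
    rwa [hm, c3_of_ne ab ac ad, c3_fst bc bd, c3_snd bd cd, c3_thd] at this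
  have eC : x * J π ρ a c d b = J π ρ a d b c * x := by
    have := J_conj hD h2 (L π (c3 b c d))
    rwa [hm, c3_of_ne ab ac ad, c3_snd bd cd, c3_thd, c3_fst bc bd] at this
  have eB' : J π ρ a c d b = x * y := by
    calc J π ρ a c d b = J π ρ a c d b * x * (x * x) := by
          rw [mul_assoc, show x * (x * x) = 1 by rw [← mul_assoc, hx3], mul_one]
      _ = x * J π ρ a b c d * (x * x) := by rw [eB]
      _ = x * y * (x * x * x) := by simp only [J, ← hx, ← hy, mul_assoc]
      _ = x * y := by rw [hx3, mul_one]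
  have eC' : J π ρ a d b c = x * x * y * (x * x) := by
    calc J π ρ a d b c = J π ρ a d b c * x * (x * x) := by
          rw [mul_assoc, show x * (x * x) = 1 by rw [← mul_assoc, hx3], mul_one]
      _ = x * J π ρ a c d b * (x * x) := by rw [eC]
      _ = x * x * y * (x * x) := by rw [eB']; simp only [mul_assoc]
  -- the product of the three is one
  have hyxy : y * x * y = x * x := by
    calc y * x * y = y * x * y * (x * x * x) := by rw [hx3, mul_one]
      _ = y * x * (y * x) * (x * x) := by simp only [mul_assoc]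
      _ = x * x := by rw [hyx, one_mul]
  have hcube : y * (x * x) * (y * (x * x)) * (y * (x * x)) = 1 := by
    have e : y * (x * x) = y * y * x * y := by rw [← hyxy]; simp only [mul_assoc]
    rw [e]
    calc y * y * x * y * (y * y * x * y) * (y * y * x * y)
        = y * y * (x * (y * y * y) * (x * (y * y * y) * x)) * y := by simp only [mul_assoc]
      _ = y * y * (x * x * x) * y := by rw [hy3]; simp only [mul_one, mul_assoc]
      _ = 1 := by rw [hx3, mul_one, hy3]
  have hABC : J π ρ a b c d * J π ρ a c d b * J π ρ a d b c = 1 := by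
    rw [eB', eC', ← hcube]
    simp only [J, ← hx, ← hy, mul_assoc]
  calc J π ρ a b c d * J π ρ a c d b
      = J π ρ a b c d * J π ρ a c d b * (J π ρ a d b c * J π ρ a d b c) := by
        rw [J_sq hD hL h3, mul_one]
    _ = J π ρ a d b c := by rw [← mul_assoc, hABC, one_mul]

theorem E_third {v : V} (hv : v ∈ E π ρ a b c d) : J π ρ a d b c v = -v := by
  rw [mem_E] at hv
  rw [← (J_triple hD hL h).2, Module.End.mul_apply, hv.2, map_neg, hv.1]

theorem E_rot_mem {v : V} (hA : J π ρ a b c d v = -v) (hB : J π ρ a c d b v = v) :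
    v ∈ E π ρ a c d b :=
  mem_E.2 ⟨hB, by rw [← (J_triple hD hL h).2, Module.End.mul_apply, hB, hA]⟩

theorem E_rot2_mem {v : V} (hA : J π ρ a b c d v = -v) (hB : J π ρ a c d b v = -v) :
    v ∈ E π ρ a d b c :=
  mem_E.2 ⟨by rw [← (J_triple hD hL h).2, Module.End.mul_apply, hB, map_neg, hA, neg_neg], hA⟩

theorem E_map {g : G} {v : V} (hv : v ∈ E π ρ a b c d) :
    ρ g v ∈ E π ρ (π g a) (π g b) (π g c) (π g d) := by
  rw [mem_E] at hv ⊢
  have h1 := J_conj_apply hD h g v
  have h2 := J_conj_apply hD (nodup_rot h) g v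
  rw [hv.1] at h1
  rw [hv.2, map_neg] at h2
  exact ⟨h1.symm, h2.symm⟩

theorem E_finrank_rot : finrank k (E π ρ a b c d) ≤ finrank k (E π ρ a c d b) := by
  have hn := h
  simp only [List.nodup_cons, List.mem_cons, List.not_mem_nil, or_false, not_or, List.nodup_nil,
    and_true, not_false_eq_true] at hn
  obtain ⟨⟨ab, ac, ad⟩, ⟨bc, bd⟩, cd⟩ := hn
  refine finrank_le_of_maps (ρ := ρ) (L π (c3 b c d)) fun v hv => ?_
  have := E_map hD hL h (g := L π (c3 b c d)) hv
  rwa [map_L_c3 hD bc bd cd, c3_of_ne ab ac ad, c3_fst bc bd, c3_snd bd cd, c3_thd] at this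

/-- The four pieces of an invariant subspace. -/
theorem pieces (h2 : (2 : k) ≠ 0) {W : Submodule k V} (hA : ∀ w ∈ W, J π ρ a b c d w ∈ W)
    (hB : ∀ w ∈ W, J π ρ a c d b w ∈ W) :
    finrank k W = finrank k (W ⊓ C0 π ρ a b c d : Submodule k V) +
      finrank k (W ⊓ E π ρ a b c d : Submodule k V) + finrank k (W ⊓ E π ρ a c d b : Submodule k V) +
      finrank k (W ⊓ E π ρ a d b c : Submodule k V) ∧
    W ≤ W ⊓ C0 π ρ a b c d ⊔ W ⊓ E π ρ a b c d ⊔ W ⊓ E π ρ a c d b ⊔ W ⊓ E π ρ a d b c := by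
  set A := J π ρ a b c d with hAdef
  set B := J π ρ a c d b with hBdef
  have hA2 : A * A = ((1 : k) * 1) • 1 := by rw [one_mul, one_smul]; exact J_sq hD hL h
  have hB2 : B * B = ((1 : k) * 1) • 1 := by rw [one_mul, one_smul]; exact J_sq hD hL (nodup_rot h)
  have hAB : Commute A B := (J_triple hD hL h).1
  have hinv : ∀ μ : k, ∀ w ∈ (W ⊓ A.eigenspace μ : Submodule k V),
      B w ∈ (W ⊓ A.eigenspace μ : Submodule k V) := fun μ w hw =>
    ⟨hB w hw.1, Module.End.mapsTo_genEigenspace_of_comm hAB μ 1 hw.2⟩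
  have e1 : W ⊓ A.eigenspace 1 ⊓ B.eigenspace 1 = W ⊓ C0 π ρ a b c d := by
    rw [C0, inf_assoc]
  have e2 : W ⊓ A.eigenspace 1 ⊓ B.eigenspace (-1) = W ⊓ E π ρ a b c d := by
    rw [E, inf_assoc]
  have e3 : W ⊓ A.eigenspace (-1) ⊓ B.eigenspace 1 = W ⊓ E π ρ a c d b := by
    refine le_antisymm (fun v hv => ?_) (fun v hv => ?_)
    · obtain ⟨⟨hw, hv1⟩, hv2⟩ := hv
      rw [SetLike.mem_coe, Module.End.mem_eigenspace_iff] at hv1 hv2
      exact ⟨hw, E_rot_mem hD hL h (by simpa using hv1) (by simpa using hv2)⟩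
    · obtain ⟨hw, hv'⟩ := hv
      have h3 := E_third hD hL (nodup_rot h) hv'
      rw [SetLike.mem_coe, mem_E] at hv'
      refine ⟨⟨hw, ?_⟩, ?_⟩ <;> rw [SetLike.mem_coe, Module.End.mem_eigenspace_iff]
      · rw [hAdef, h3]; simp
      · rw [hBdef, hv'.1]; simp
  have e4 : W ⊓ A.eigenspace (-1) ⊓ B.eigenspace (-1) = W ⊓ E π ρ a d b c := by
    refine le_antisymm (fun v hv => ?_) (fun v hv => ?_)
    · obtain ⟨⟨hw, hv1⟩, hv2⟩ := hv
      rw [SetLike.mem_coe, Module.End.mem_eigenspace_iff] at hv1 hv2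
      exact ⟨hw, E_rot2_mem hD hL h (by simpa using hv1) (by simpa using hv2)⟩
    · obtain ⟨hw, hv'⟩ := hv
      have h3 := E_third hD hL (nodup_rot (nodup_rot h)) hv'
      rw [SetLike.mem_coe, mem_E] at hv'
      refine ⟨⟨hw, ?_⟩, ?_⟩ <;> rw [SetLike.mem_coe, Module.End.mem_eigenspace_iff]
      · rw [hAdef, hv'.2]; simp
      · rw [hBdef, h3]; simp
  have f0 := split_finrank h2 one_ne_zero hA2 hA
  have f1 := split_finrank h2 one_ne_zero hB2 (hinv 1)
  have f2 := split_finrank h2 one_ne_zero hB2 (hinv (-1))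
  obtain ⟨s0, -⟩ := split_two h2 one_ne_zero hA2 hA
  obtain ⟨s1, -⟩ := split_two h2 one_ne_zero hB2 (hinv 1)
  obtain ⟨s2, -⟩ := split_two h2 one_ne_zero hB2 (hinv (-1))
  refine ⟨?_, ?_⟩
  · rw [← e1, ← e2, ← e3, ← e4, ← f0, ← f1, ← f2]
    ring
  · rw [← e1, ← e2, ← e3, ← e4, sup_assoc, s2, s1, s0]

end

theorem commute_J (hD : Datum π ρ) {a b c d p q s t : Fin r}
    (h : [a, b, c, d, p, q, s, t].Nodup) : Commute (J π ρ a b c d) (J π ρ p q s t) := by
  simp only [List.nodup_cons, List.mem_cons, List.not_mem_nil, or_false, not_or, List.nodup_nil,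
    and_true, not_false_eq_true] at h
  refine ((commute_X hD ?_ ?_ ?_ ?_ ?_ ?_ ?_ ?_ ?_).mul_right
    (commute_X hD ?_ ?_ ?_ ?_ ?_ ?_ ?_ ?_ ?_)).mul_left ((commute_X hD ?_ ?_ ?_ ?_ ?_ ?_ ?_ ?_ ?_).mul_right
    (commute_X hD ?_ ?_ ?_ ?_ ?_ ?_ ?_ ?_ ?_))
  all_goals (try simp only [List.mem_cons, List.not_mem_nil, or_false, not_or]); grind

end H82.Alt
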