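import Cfsg.Agent.H82.Alt.MainBound
import Cfsg.Agent.H61.AltStemBig

/-!
From sections of linear groups to double covers.
-/

set_option autoImplicit false
set_option linter.style.haveILetI false
set_option linter.unusedSectionVars false
set_option maxHeartbeats 1000000

open Equiv Module
open scoped commutatorElement

namespace H82.Alt

universe u

/-- The lower bound in dimension `n`. -/
def Lo (k : Type u) [Field k] (r n : ℕ) : Prop :=
  ∀ (V : Type u) [AddCommGroup V] [Module k V] [FiniteDimensional k V], finrank k V = n →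
    ∀ (H : Type u) [Group H] [Finite H] (ρ : H →* Module.End k V) (φ : H →* Perm (Fin r)),
      φ.range = alternatingGroup (Fin r) → Function.Injective ρ → r - 2 ≤ n

/-- The bound in dimension `n`. -/
def Bd (k : Type u) [Field k] (r n : ℕ) : Prop :=
  ∀ (V : Type u) [AddCommGroup V] [Module k V] [FiniteDimensional k V], finrank k V = n →
    ∀ (H : Type u) [Group H] [Finite H] (ρ : H →* Module.End k V) (φ : H →* Perm (Fin r)),
      φ.range = alternatingGroup (Fin r) → Function.Injective ρ →
        r - 2 ≤ n ∧ (n = r - 2 → (r : k) = 0)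

theorem descend {k : Type u} [Field k] {r m : ℕ} (hlo : Lo k r m) {H : Type*} [Group H] [Finite H]
    {φ : H →* Perm (Fin r)} (hφ : φ.range = alternatingGroup (Fin r)) {W : Type u} [AddCommGroup W]
    [Module k W] [FiniteDimensional k W] (hW : finrank k W = m) (σ : H →* (Module.End k W)ˣ)
    (hker : σ.ker ≤ φ.ker) : r - 2 ≤ m := by
  have hs : Function.Surjective σ.rangeRestrict := σ.rangeRestrict_surjective
  haveI : Finite σ.range := Finite.of_surjective _ hs
  let φ' : σ.range →* Perm (Fin r) :=
    σ.rangeRestrict.liftOfSurjective hs ⟨φ, by rw [MonoidHom.ker_rangeRestrict]; exact hker⟩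
  have hφ' : ∀ h, φ' (σ.rangeRestrict h) = φ h := fun h =>
    MonoidHom.liftOfRightInverse_comp_apply _ _ (Function.rightInverse_surjInv hs) ⟨φ, _⟩ h
  refine hlo W hW σ.range ((Units.coeHom _).comp σ.range.subtype) φ' ?_
    (fun a b h => Subtype.ext (Units.ext h))
  rw [← hφ]
  ext x
  constructor
  · rintro ⟨y, rfl⟩; obtain ⟨h, rfl⟩ := hs y; exact ⟨h, (hφ' h).symm⟩
  · rintro ⟨h, rfl⟩; exact ⟨_, hφ' h⟩

section Step

variable {k : Type u} [Field k] {r : ℕ} {H : Type u} [Group H] [Finite H] {φ : H →* Perm (Fin r)}

/-- No proper subgroup maps onto the alternating group. -/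
def Minimal (φ : H →* Perm (Fin r)) : Prop :=
  ∀ S : Subgroup H, alternatingGroup (Fin r) ≤ S.map φ → S = ⊤

variable (hφ : φ.range = alternatingGroup (Fin r)) (hmin : Minimal φ) (hr : 5 ≤ r)
include hφ hmin hr

theorem normal_le_ker (N : Subgroup H) [N.Normal] : N ≤ φ.ker ∨ N = ⊤ := by
  haveI : IsSimpleGroup (alternatingGroup (Fin r)) := alternatingGroup.isSimpleGroup (by simpa using hr)
  let ψ : H →* alternatingGroup (Fin r) := φ.codRestrict _ fun h => hφ ▸ ⟨h, rfl⟩
  have hψ : Function.Surjective ψ := fun x => by
    obtain ⟨h, hh⟩ : (x : Perm (Fin r)) ∈ φ.range := by rw [hφ]; exact x.2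
    exact ⟨h, Subtype.ext hh⟩
  rcases (Subgroup.Normal.map (show N.Normal from inferInstance) ψ hψ).eq_bot_or_eq_top with h | h
  · left
    intro x hx
    have : ψ x ∈ N.map ψ := ⟨x, hx, rfl⟩
    rw [h, Subgroup.mem_bot] at this
    exact congrArg Subtype.val this
  · right
    refine hmin N fun x hx => ?_
    have : (⟨x, hx⟩ : alternatingGroup (Fin r)) ∈ N.map ψ := h ▸ Subgroup.mem_top _
    obtain ⟨y, hy, e⟩ := this
    exact ⟨y, hy, congrArg Subtype.val e⟩

theorem commutator_eq_top : commutator H = ⊤ := by
  refine (normal_le_ker hφ hmin hr (commutator H)).resolve_left fun h => ?_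
  let a : Fin r := ⟨0, by omega⟩
  let b : Fin r := ⟨1, by omega⟩
  let c : Fin r := ⟨2, by omega⟩
  let d : Fin r := ⟨3, by omega⟩
  obtain ⟨x, hx⟩ : c3 a b c ∈ φ.range := by
    rw [hφ]; exact c3_mem_alt (by simp [a, b]) (by simp [a, c]) (by simp [b, c])
  obtain ⟨y, hy⟩ : c3 b c d ∈ φ.range := by
    rw [hφ]; exact c3_mem_alt (by simp [b, c]) (by simp [b, d]) (by simp [c, d])
  have h1 := h (Subgroup.commutator_mem_commutator (Subgroup.mem_top x) (Subgroup.mem_top y))
  rw [MonoidHom.mem_ker, map_commutatorElement, hx, hy] at h1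
  have h2 := commutatorElement_eq_one_iff_mul_comm.1 h1
  have := congrArg (fun σ : Perm (Fin r) => σ a) h2
  simp [a, b, c, d, c3, Perm.mul_apply, swap_apply_def, Fin.ext_iff] at this

theorem eq_one_of_comm {A : Type*} [Monoid A] (f : H →* A) (h : ∀ x y, f x * f y = f y * f x) (x : H) :
    f x = 1 := by
  have hle : commutator H ≤ f.ker := by
    rw [commutator_def, Subgroup.commutator_le]
    intro a _ b _
    rw [MonoidHom.mem_ker, commutatorElement_def, map_mul, map_mul, map_mul, h a b, mul_assoc (f b),
      ← map_mul f a a⁻¹, mul_inv_cancel, map_one, mul_one, ← map_mul, mul_inv_cancel, map_one]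
  exact hle (by rw [commutator_eq_top hφ hmin hr]; exact Subgroup.mem_top x)

theorem hom_trivial {M : Type*} [Group M] [Finite M] (f : H →* M)
    (hM : 2 * Nat.card M < r.factorial) : f.ker = ⊤ := by
  refine (normal_le_ker hφ hmin hr f.ker).resolve_left fun h => ?_
  haveI : Nontrivial (Fin r) := Fin.nontrivial_iff_two_le.2 (by omega)
  have h1 : φ.ker.index ≤ f.ker.index :=
    Nat.le_of_dvd (Nat.pos_of_ne_zero f.ker.index_ne_zero_of_finite) (Subgroup.index_dvd_of_le h)
  rw [Subgroup.index_ker, Subgroup.index_ker, hφ] at h1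
  have h2 := two_mul_nat_card_alternatingGroup (α := Fin r)
  rw [Nat.card_perm, Nat.card_fin] at h2
  have h3 : Nat.card f.range ≤ Nat.card M := Subgroup.card_le_card_group _
  omega

end Step

theorem factorial_ge (r : ℕ) (hr : 9 ≤ r) : 362880 ≤ r.factorial := by
  have := Nat.factorial_le hr
  simpa [Nat.factorial] using this

/-- The inductive step. -/
theorem step {k : Type u} [Field k] [IsAlgClosed k] (p : ℕ) [Fact p.Prime] [CharP k p] {r n : ℕ}
    (hr : 9 ≤ r) (hsub : ∀ m < n, Lo k r m)
    (hrec : ∀ D < n, ∀ (s : ℕ) [Fact s.Prime], Lo (AlgebraicClosure (ZMod s)) r D) : Bd k r n := by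
  intro V _ _ _ hVn H _ _ ρ₀ φ₀ hφ₀ hρ₀
  by_cases hbig : r - 2 < n
  · exact ⟨hbig.le, fun h => absurd h (Nat.ne_of_gt hbig)⟩
  rw [not_lt] at hbig
  classical
  -- pass to a minimal subgroup
  obtain ⟨S, hS, hSmin⟩ : ∃ S : Subgroup H, alternatingGroup (Fin r) ≤ S.map φ₀ ∧
      ∀ T : Subgroup H, alternatingGroup (Fin r) ≤ T.map φ₀ → T ≤ S → S ≤ T := by
    obtain ⟨S, hS⟩ := (Set.toFinite {S : Subgroup H | alternatingGroup (Fin r) ≤ S.map φ₀}).exists_minimal
      ⟨⊤, by rw [Set.mem_ofPred_eq, ← MonoidHom.range_eq_map, hφ₀]⟩
    exact ⟨S, hS.1, fun T hT hTS => hS.2 hT hTS⟩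
  let φ : S →* Perm (Fin r) := φ₀.comp S.subtype
  let ρ : S →* Module.End k V := ρ₀.comp S.subtype
  have hρ : Function.Injective ρ := fun a b h => Subtype.ext (hρ₀ h)
  have hφ : φ.range = alternatingGroup (Fin r) := by
    rw [MonoidHom.range_comp, Subgroup.range_subtype]
    exact le_antisymm (by rw [← hφ₀, MonoidHom.range_eq_map]; exact Subgroup.map_mono le_top) hS
  have hmin : Minimal φ := by
    intro T hT
    rw [← Subgroup.map_map] at hT
    have h := hSmin _ hT (Subgroup.map_subtype_le T)
    rw [eq_top_iff]
    intro x _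
    obtain ⟨y, hy, e⟩ := h x.2
    rwa [← Subtype.ext e]
  have hr5 : 5 ≤ r := by omega
  have hperf := commutator_eq_top hφ hmin hr5
  -- the kernel of `φ` is not everything
  have hne : ∀ {a b c : Fin r}, a ≠ b → a ≠ c → b ≠ c → ∀ x, φ x = c3 a b c → x ≠ 1 :=
    fun ab ac _ x hx h => c3_ne_one ab ac (by rw [← hx, h, map_one])
  obtain ⟨A, hA⟩ := exists_avoid (r := r) [] (by simp; omega)
  obtain ⟨B, hB⟩ := exists_avoid [A] (by simp; omega)
  obtain ⟨C, hC⟩ := exists_avoid [A, B] (by simp; omega)
  simp only [List.mem_cons, List.not_mem_nil, or_false, not_or] at hB hC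
  obtain ⟨x₀, hx₀⟩ : c3 A B C ∈ φ.range := by
    rw [hφ]; exact c3_mem_alt (Ne.symm hB) (Ne.symm hC.1) (Ne.symm hC.2)
  have hx₀1 : x₀ ≠ 1 := hne (Ne.symm hB) (Ne.symm hC.1) (Ne.symm hC.2) x₀ hx₀
  -- irreducibility
  have hirr : ∀ W : Submodule k V, (∀ g : S, ∀ w ∈ W, ρ g w ∈ W) → W = ⊥ ∨ W = ⊤ := by
    intro W hW
    by_contra hcon
    rw [not_or] at hcon
    let σW : S →* Module.End k W :=
      { toFun := fun g => (ρ g).restrict (hW g)
        map_one' := by ext w; simp
        map_mul' := fun g h => by ext w; simp }
    let σQ : S →* Module.End k (V ⧸ W) :=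
      { toFun := fun g => W.mapQ W (ρ g) (fun w hw => hW g w hw)
        map_one' := by refine Submodule.linearMap_qext _ ?_; ext v; simp
        map_mul' := fun g h => by refine Submodule.linearMap_qext _ ?_; ext v; simp }
    have hWlt : finrank k W < n := hVn ▸ Submodule.finrank_lt hcon.2
    have hQlt : finrank k (V ⧸ W) < n := by
      have := W.finrank_quotient_add_finrank
      have hpos : 1 ≤ finrank k W := Submodule.one_le_finrank_iff.2 hcon.1
      omega
    have key : ∀ {M : Type u} [AddCommGroup M] [Module k M] [FiniteDimensional k M]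
        (σ : S →* Module.End k M), finrank k M < n → ∀ g, σ g = 1 := by
      intro M _ _ _ σ hlt g
      rcases normal_le_ker hφ hmin hr5 σ.toHomUnits.ker with h | h
      · have := descend (hsub _ hlt) hφ rfl σ.toHomUnits h
        omega
      · exact congrArg Units.val (show σ.toHomUnits g = 1 from
          MonoidHom.mem_ker.1 (h ▸ Subgroup.mem_top g))
    have hW1 : ∀ g : S, ∀ w ∈ W, ρ g w = w := fun g w hw =>
      congrArg Subtype.val (LinearMap.congr_fun (key σW hWlt g) ⟨w, hw⟩)
    have hQ1 : ∀ (g : S) (v : V), ρ g v - v ∈ W := fun g v => by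
      have := LinearMap.congr_fun (key σQ hQlt g) (Submodule.Quotient.mk v)
      exact (Submodule.Quotient.eq W).1 this
    have hcomm : ∀ x y : S, ρ x * ρ y = ρ y * ρ x := fun x y => by
      ext v
      rw [Module.End.mul_apply, Module.End.mul_apply]
      have e1 : ρ x (ρ y v) = ρ x v + (ρ y v - v) := by
        conv_lhs => rw [show ρ y v = v + (ρ y v - v) by abel]
        rw [map_add, hW1 x _ (hQ1 y v)]
      have e2 : ρ y (ρ x v) = ρ y v + (ρ x v - v) := by
        conv_lhs => rw [show ρ x v = v + (ρ x v - v) by abel]
        rw [map_add, hW1 y _ (hQ1 x v)]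
      rw [e1, e2]; abel
    exact hx₀1 (hρ (by rw [eq_one_of_comm hφ hmin hr5 ρ hcomm x₀, map_one]))
  have hVne : Nontrivial V := by
    by_contra h
    rw [not_nontrivial_iff_subsingleton] at h
    exact hx₀1 (hρ (LinearMap.ext fun v => Subsingleton.elim _ _))
  have scal_of_invariant : ∀ (z : S), (∃ c : k, ∀ v, ρ z v = c • v) ↔ z ∈ Subgroup.center S := by
    intro z
    constructor
    · rintro ⟨c, hc⟩
      rw [Subgroup.mem_center_iff]
      intro g
      refine hρ ?_
      ext v
      simp only [map_mul, Module.End.mul_apply, hc, map_smul]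
    · intro hz
      obtain ⟨c, hc⟩ := Module.End.exists_eigenvalue (ρ z)
      refine ⟨c, fun v => ?_⟩
      have := (hirr ((ρ z).eigenspace c) fun g w hw =>
        Module.End.mapsTo_genEigenspace_of_comm
          (show Commute (ρ z) (ρ g) from (show Commute z g from (Subgroup.mem_center_iff.1 hz g).symm).map ρ)
          c 1 hw).resolve_left hc
      exact Module.End.mem_eigenspace_iff.1 (this ▸ Submodule.mem_top : v ∈ (ρ z).eigenspace c)
  -- the kernel is central
  have hK : φ.ker ≤ Subgroup.center S := by
    by_contra hK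
    -- a Sylow subgroup of the kernel is not central
    obtain ⟨s, hs, P, hP⟩ : ∃ (s : ℕ) (_ : Fact s.Prime) (P : Sylow s φ.ker),
        ¬ (P : Subgroup φ.ker).map φ.ker.subtype ≤ Subgroup.center S := by
      by_contra hcon
      push Not at hcon
      have hi : ((Subgroup.center S).subgroupOf φ.ker).index = 1 := by
        by_contra h1
        obtain ⟨q, hq, hqd⟩ := Nat.exists_prime_and_dvd h1
        haveI : Fact q.Prime := ⟨hq⟩
        obtain ⟨P⟩ := (inferInstance : Nonempty (Sylow q φ.ker))
        have hle : (P : Subgroup φ.ker) ≤ (Subgroup.center S).subgroupOf φ.ker := fun x hx =>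
          hcon q ⟨hq⟩ P ⟨x, hx, rfl⟩
        exact P.not_dvd_index (hqd.trans (Subgroup.index_dvd_of_le hle))
      rw [Subgroup.index_eq_one] at hi
      exact hK fun x hx => (hi ▸ Subgroup.mem_top _ : (⟨x, hx⟩ : φ.ker) ∈ (Subgroup.center S).subgroupOf φ.ker)
    haveI := hs
    -- it is normal
    have hPn : ((P : Subgroup φ.ker).map φ.ker.subtype).Normal := by
      rw [← Subgroup.normalizer_eq_top_iff]
      refine hmin _ ?_
      rw [← hφ, MonoidHom.range_eq_map, ← Sylow.normalizer_sup_eq_top P, Subgroup.map_sup,
        (Subgroup.map_eq_bot_iff φ.ker).2 le_rfl, sup_bot_eq]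
    -- a minimal noncentral normal subgroup inside
    obtain ⟨N, hNmem, hNmin⟩ : ∃ N : Subgroup S,
        (N.Normal ∧ N ≤ (P : Subgroup φ.ker).map φ.ker.subtype ∧ ¬ N ≤ Subgroup.center S) ∧
        ∀ M : Subgroup S, M.Normal → M ≤ N → ¬ M ≤ Subgroup.center S → N ≤ M := by
      obtain ⟨N, hN⟩ := (Set.toFinite {N : Subgroup S | N.Normal ∧
        N ≤ (P : Subgroup φ.ker).map φ.ker.subtype ∧ ¬ N ≤ Subgroup.center S}).exists_minimal
        ⟨_, hPn, le_rfl, hP⟩
      exact ⟨N, hN.1, fun M hMn hMN hMc => hN.2 ⟨hMn, hMN.trans hN.1.2.1, hMc⟩ hMN⟩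
    obtain ⟨hNn, hNP, hNc⟩ := hNmem
    haveI := hNn
    have hNs : IsPGroup s N := (P.isPGroup'.map φ.ker.subtype).to_le hNP
    have hlt : ∀ M : Subgroup S, M.Normal → M ≤ N → M ≠ N → M ≤ Subgroup.center S :=
      fun M h1 h2 h3 => by_contra fun h4 => h3 (le_antisymm h2 (hNmin M h1 h2 h4))
    -- commutators are central
    have hNN : ∀ a ∈ N, ∀ b ∈ N, ⁅a, b⁆ ∈ Subgroup.center S := by
      intro a ha b hb
      refine hlt ⁅N, N⁆ inferInstance (Subgroup.commutator_le_left N N) (fun h => ?_)
        (Subgroup.commutator_mem_commutator ha hb)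
      haveI : Group.IsNilpotent N := hNs.isNilpotent
      haveI : Nontrivial N := (Subgroup.nontrivial_iff_ne_bot N).2 (fun h' => hNc (h' ▸ bot_le))
      have h' : commutator N = ⊤ := by
        apply Subgroup.map_injective N.subtype_injective
        rw [Subgroup.map_subtype_commutator, h, ← MonoidHom.range_eq_map, Subgroup.range_subtype]
      exact (Group.IsSolvable.commutator_lt_top_of_nontrivial N).ne h'
    by_cases hab : ∀ a ∈ N, ∀ b ∈ N, a * b = b * a
    · -- abelian: the characters are permuted trivially
      let W : (N → k) → Submodule k V := fun χ => ⨅ a : N, (ρ a.1).eigenspace (χ a)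
      have hind : iSupIndep W := wt_indep (fun a : N => ρ a.1)
        (fun a b => (show Commute a.1 b.1 from hab _ a.2 _ b.2).map ρ)
      have hfin : {χ | W χ ≠ ⊥}.Finite := by
        by_contra hinf
        obtain ⟨T, hT, hTc⟩ := Set.Infinite.exists_subset_card_eq hinf (finrank k V + 1)
        have := card_le_finrank W hind T fun χ hχ => hT hχ
        omega
      have hex : ∃ χ, W χ ≠ ⊥ := by
        have hexd : ∃ d, ∃ U : Submodule k V, U ≠ ⊥ ∧ (∀ a : N, ∀ w ∈ U, ρ a.1 w ∈ U) ∧ finrank k U = d :=
          ⟨_, ⊤, top_ne_bot, fun _ _ _ => Submodule.mem_top, rfl⟩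
        obtain ⟨U, hU0, hUinv, hUd⟩ := Nat.find_spec hexd
        have hscal : ∀ a : N, ∃ c : k, ∀ w ∈ U, ρ a.1 w = c • w := by
          intro a
          obtain ⟨c, w, hw, hw0, hwc⟩ := exists_eig_mem (g := ρ a.1) hU0 (hUinv a)
          refine ⟨c, fun x hx => ?_⟩
          have hle : U ⊓ (ρ a.1).eigenspace c = U := by
            refine Submodule.eq_of_le_of_finrank_le inf_le_left ?_
            rw [hUd]
            refine Nat.find_min' hexd ⟨_, (Submodule.ne_bot_iff _).2
              ⟨w, Submodule.mem_inf.2 ⟨hw, Module.End.mem_eigenspace_iff.2 hwc⟩, hw0⟩,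
              fun b y hy => Submodule.mem_inf.2 ⟨hUinv b y (Submodule.mem_inf.1 hy).1, ?_⟩, rfl⟩
            exact Module.End.mapsTo_genEigenspace_of_comm
              ((show Commute a.1 b.1 from hab _ a.2 _ b.2).map ρ) c 1 (Submodule.mem_inf.1 hy).2
          rw [← hle] at hx
          exact Module.End.mem_eigenspace_iff.1 hx.2
        choose χ hχ using hscal
        obtain ⟨w, hw, hw0⟩ := (Submodule.ne_bot_iff _).1 hU0
        exact ⟨χ, (Submodule.ne_bot_iff _).2 ⟨w, Submodule.mem_iInf _ |>.2 fun a =>
          Module.End.mem_eigenspace_iff.2 (hχ a w hw), hw0⟩⟩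
      let cj : S → N → N := fun h a => ⟨h⁻¹ * a.1 * h, by
        simpa using hNn.conj_mem a.1 a.2 h⁻¹⟩
      let act : S → (N → k) → (N → k) := fun h χ a => χ (cj h a)
      have hmap : ∀ (h : S) (χ : N → k) (v : V), v ∈ W χ → ρ h v ∈ W (act h χ) := by
        intro h χ v hv
        simp only [W, Submodule.mem_iInf, Module.End.mem_eigenspace_iff] at hv ⊢
        intro a
        have := congrArg (ρ h) (hv (cj h a))
        rw [← Module.End.mul_apply, ← map_mul, map_smul] at this
        rw [← Module.End.mul_apply, ← map_mul]
        convert this using 3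
        simp [cj, mul_assoc]
      let X := {χ : N → k // W χ ≠ ⊥}
      haveI : Finite X := hfin.to_subtype
      have hXcard : Nat.card X ≤ n := by
        haveI := Fintype.ofFinite X
        rw [Nat.card_eq_fintype_card, ← hVn]
        exact card_le_finrank (fun χ : X => W χ.1) (hind.comp Subtype.val_injective) Finset.univ
          fun χ _ => χ.2
      have hactX : ∀ h, ∀ χ : X, W (act h χ.1) ≠ ⊥ := fun h χ => by
        obtain ⟨v, hv, hv0⟩ := (Submodule.ne_bot_iff _).1 χ.2
        exact (Submodule.ne_bot_iff _).2 ⟨ρ h v, hmap h _ v hv, fun h' => hv0 (by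
          rw [← rho_inv_apply ρ h v, h', map_zero])⟩
      let actP : S →* Perm X := MonoidHom.mk'
        (fun h =>
          { toFun := fun χ => ⟨act h χ.1, hactX h χ⟩
            invFun := fun χ => ⟨act h⁻¹ χ.1, hactX h⁻¹ χ⟩
            left_inv := fun χ => Subtype.ext (funext fun a => congrArg χ.1 (Subtype.ext (by
              simp [cj, mul_assoc])))
            right_inv := fun χ => Subtype.ext (funext fun a => congrArg χ.1 (Subtype.ext (by
              simp [cj, mul_assoc]))) })
        (fun g h => Equiv.ext fun χ => Subtype.ext (funext fun a => congrArg χ.1 (Subtype.ext (by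
          simp [cj, mul_assoc]))))
      have htriv := hom_trivial hφ hmin hr5 actP (by
        rw [Nat.card_perm]
        have h1 : (Nat.card X).factorial ≤ (r - 2).factorial :=
          Nat.factorial_le (hXcard.trans hbig)
        have h2 : (r - 1).factorial = (r - 1) * (r - 2).factorial := by
          rw [show r - 1 = (r - 2) + 1 by omega, Nat.factorial_succ]
        have h3 : r.factorial = r * (r - 1).factorial := by
          conv_lhs => rw [show r = (r - 1) + 1 by omega, Nat.factorial_succ]
          congr 1; omega
        have hpos := Nat.factorial_pos (r - 2)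
        have h4 : 3 * (r - 2).factorial ≤ r.factorial := by
          rw [h3, h2, ← mul_assoc]
          exact Nat.mul_le_mul_right _ (le_trans (by omega : 3 ≤ r * 1) (Nat.mul_le_mul_left r (by omega)))
        omega)
      obtain ⟨χ, hχ⟩ := hex
      have hWtop : W χ = ⊤ := by
        refine (hirr (W χ) fun g w hw => ?_).resolve_left hχ
        have h1 : actP g ⟨χ, hχ⟩ = ⟨χ, hχ⟩ := by
          rw [MonoidHom.mem_ker.1 (htriv ▸ Subgroup.mem_top g : g ∈ actP.ker)]; rfl
        have h2 := hmap g χ w hw
        rwa [show act g χ = χ from congrArg Subtype.val h1] at h2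
      refine hNc fun a ha => (scal_of_invariant a).1 ⟨χ ⟨a, ha⟩, fun v => ?_⟩
      have hv : v ∈ W χ := hWtop ▸ Submodule.mem_top
      simp only [W, Submodule.mem_iInf, Module.End.mem_eigenspace_iff] at hv
      exact hv ⟨a, ha⟩
    · -- symplectic type
      set T : Subgroup N := (Subgroup.center S).subgroupOf N with hT
      haveI : T.Normal := inferInstance
      have hTc : ∀ a b : N, ⁅a.1, b.1⁆ ∈ Subgroup.center S := fun a b => hNN _ a.2 _ b.2
      -- commutation characters
      choose c hc using fun a b : N => (scal_of_invariant ⁅a.1, b.1⁆).2 (hTc a b)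
      have hcj : ∀ a b : N, ρ a.1 * ρ b.1 = c a b • (ρ b.1 * ρ a.1) := by
        intro a b
        have e : ρ ⁅a.1, b.1⁆ = c a b • 1 := LinearMap.ext fun v => by simp [hc a b v]
        calc ρ a.1 * ρ b.1 = ρ (⁅a.1, b.1⁆ * (b.1 * a.1)) := by
              rw [← map_mul, commutatorElement_def]; congr 1; group
          _ = _ := by rw [map_mul, e, map_mul, smul_mul_assoc, one_mul]
      have hunit : ∀ x : N, IsUnit (ρ x.1) := fun x =>
        ⟨⟨ρ x.1, ρ x.1⁻¹, rho_mul_inv ρ x.1, rho_inv_mul ρ x.1⟩, rfl⟩
      have hsmul_inj : ∀ {a b : k} (x y : N), a • (ρ x.1 * ρ y.1) = b • (ρ x.1 * ρ y.1) → a = b := by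
        intro a b x y h
        obtain ⟨v, hv⟩ := exists_ne (0 : V)
        refine smul_left_injective k (fun h' : (ρ x.1 * ρ y.1) v = 0 => hv ?_) (LinearMap.congr_fun h v)
        rw [Module.End.mul_apply] at h'
        rw [← rho_inv_apply ρ y.1 v, ← rho_inv_apply ρ x.1 (ρ y.1 v), h', map_zero, map_zero]
      have hcmul : ∀ a b b' : N, c a (b * b') = c a b * c a b' := by
        intro a b b'
        refine hsmul_inj (b * b') a ?_
        have h1 := hcj a (b * b')
        rw [Subgroup.coe_mul, map_mul] at h1
        rw [Subgroup.coe_mul, map_mul, ← h1, ← mul_assoc, hcj a b, smul_mul_assoc, mul_assoc, hcj a b',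
          mul_smul_comm, smul_smul, ← mul_assoc]
      have hcmul' : ∀ a a' b : N, c (a * a') b = c a b * c a' b := by
        intro a a' b
        refine hsmul_inj b (a * a') ?_
        have h1 := hcj (a * a') b
        rw [Subgroup.coe_mul, map_mul] at h1
        rw [Subgroup.coe_mul, map_mul, ← h1, mul_assoc, hcj a' b, mul_smul_comm, ← mul_assoc, hcj a b,
          smul_mul_assoc, smul_smul, mul_assoc, mul_comm (c a b)]
      have hc1 : ∀ a : N, c a 1 = 1 := fun a => by
        have h1 := hcj a 1
        rw [Subgroup.coe_one, map_one, mul_one, one_mul] at h1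
        exact hsmul_inj a 1 (by rw [Subgroup.coe_one, map_one, mul_one, ← h1, one_smul])
      have hcT : ∀ a : N, (∀ b, c a b = 1) ↔ a ∈ T := by
        intro a
        constructor
        · intro h
          rw [hT, Subgroup.mem_subgroupOf]
          -- the elements commuting with `N` form a proper normal subgroup
          let M : Subgroup S := N ⊓ Subgroup.centralizer (N : Set S)
          haveI : (Subgroup.centralizer (N : Set S)).Normal := Subgroup.normal_centralizer
          refine hlt M inferInstance inf_le_left (fun hM => hab fun x hx y hy => ?_) ⟨a.2, ?_⟩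
          · have hx' : x ∈ M := hM.symm ▸ hx
            exact ((Subgroup.mem_centralizer_iff.1 hx'.2) y hy).symm
          · refine Subgroup.mem_centralizer_iff.2 fun y hy => ?_
            refine (hρ ?_).symm
            rw [map_mul, map_mul, hcj a ⟨y, hy⟩, h, one_smul]
        · intro ha b
          rw [hT, Subgroup.mem_subgroupOf, Subgroup.mem_center_iff] at ha
          refine hsmul_inj b a ?_
          rw [← hcj a b, one_smul, ← map_mul, ← map_mul, ha]
      -- the quotient
      let Q := N ⧸ T
      have hQcomm : ∀ a b : Q, a * b = b * a := by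
        intro a b
        induction a using QuotientGroup.induction_on with
        | H a =>
          induction b using QuotientGroup.induction_on with
          | H b =>
            rw [← QuotientGroup.mk_mul, ← QuotientGroup.mk_mul, QuotientGroup.eq]
            rw [hT, Subgroup.mem_subgroupOf]
            have := Subgroup.inv_mem _ (hTc b a)
            have e : ((a * b)⁻¹ * (b * a) : N).1 = ⁅b.1⁻¹, a.1⁻¹⁆ := by
              simp [commutatorElement_def, mul_assoc]
            rw [e]
            exact hTc b⁻¹ a⁻¹
      have hexp : ∀ a : N, a ^ s ∈ T := by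
        intro a
        -- elements with central power form a normal subgroup
        let M : Subgroup S :=
          { carrier := {x | ∃ hx : x ∈ N, (⟨x, hx⟩ : N) ^ s ∈ T}
            one_mem' := ⟨N.one_mem, by
              rw [show (⟨1, N.one_mem⟩ : N) = 1 from rfl, one_pow]; exact T.one_mem⟩
            mul_mem' := by
              rintro x y ⟨hx, hx'⟩ ⟨hy, hy'⟩
              refine ⟨N.mul_mem hx hy, ?_⟩
              rw [← QuotientGroup.eq_one_iff] at hx' hy' ⊢
              rw [QuotientGroup.mk_pow] at hx' hy' ⊢
              rw [show (⟨x * y, N.mul_mem hx hy⟩ : N) = ⟨x, hx⟩ * ⟨y, hy⟩ from rfl, QuotientGroup.mk_mul,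
                Commute.mul_pow (hQcomm _ _), hx', hy', one_mul]
            inv_mem' := by
              rintro x ⟨hx, hx'⟩
              refine ⟨N.inv_mem hx, ?_⟩
              rw [show (⟨x⁻¹, N.inv_mem hx⟩ : N) = (⟨x, hx⟩ : N)⁻¹ from rfl, inv_pow]
              exact T.inv_mem hx' }
        have hMn : M.Normal := ⟨by
          rintro x ⟨hx, hx'⟩ g
          refine ⟨hNn.conj_mem x hx g, ?_⟩
          rw [hT, Subgroup.mem_subgroupOf, Subgroup.coe_pow] at hx' ⊢
          simp only [conj_pow]
          rw [(Subgroup.mem_center_iff.1 hx') g, mul_inv_cancel_right]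
          exact hx'⟩
        have hMN : M ≤ N := fun x hx => hx.1
        have hMall : M = N := by
          by_contra hne'
          have hMc := hlt M hMn hMN hne'
          -- but some element outside the centre has central power
          obtain ⟨x, hx, hxc⟩ : ∃ x, x ∈ N ∧ x ∉ Subgroup.center S := by
            by_contra h; push Not at h; exact hNc h
          obtain ⟨i, hi⟩ := hNs ⟨x, hx⟩
          have hexi : ∃ j, (⟨x, hx⟩ : N) ^ s ^ j ∈ T := ⟨i, by rw [hi]; exact T.one_mem⟩
          have hj := Nat.find_spec hexi
          rcases hj0 : Nat.find hexi with _ | j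
          · rw [hj0, pow_zero, pow_one] at hj
            exact hxc hj
          · have hmem : ((⟨x, hx⟩ : N) ^ s ^ j).1 ∈ M := by
              refine ⟨SetLike.coe_mem _, ?_⟩
              rw [hj0, pow_succ, pow_mul] at hj
              exact hj
            exact Nat.find_min hexi (m := j) (by omega) (hMc hmem)
        have hm : a.1 ∈ M := by rw [hMall]; exact a.2
        obtain ⟨hm1, hm2⟩ := hm
        exact hm2
      letI : CommGroup Q := { (inferInstance : Group Q) with mul_comm := hQcomm }
      have hQs : ∀ x : Additive Q, s • x = 0 := by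
        intro x
        obtain ⟨a, ha⟩ := QuotientGroup.mk_surjective (Additive.toMul x)
        apply Additive.toMul.injective
        rw [toMul_nsmul, toMul_zero, ← ha, ← QuotientGroup.mk_pow, QuotientGroup.eq_one_iff]
        exact hexp a
      obtain ⟨instQ⟩ : Nonempty (Module (ZMod s) (Additive Q)) := ⟨AddCommGroup.zmodModule hQs⟩
      haveI : Finite (Additive Q) := (inferInstance : Finite Q)
      haveI : Module.Finite (ZMod s) (Additive Q) := by infer_instance
      set D := finrank (ZMod s) (Additive Q) with hDdef
      have hcardQ : Nat.card Q = s ^ D := by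
        rw [← Nat.card_congr Additive.ofMul.symm, Module.natCard_eq_pow_finrank (K := ZMod s),
          Nat.card_zmod]
      -- independent translates
      have hQn : Nat.card Q ≤ n * n := by
        haveI := Fintype.ofFinite Q
        let sec : Q → N := fun q => q.out
        have hsec : ∀ q, QuotientGroup.mk (sec q) = q := fun q => QuotientGroup.out_eq' q
        have hinj : Function.Injective fun q => (fun b => c b (sec q)) := by
          intro q q' h
          have h' : (sec q)⁻¹ * sec q' ∈ T := by
            refine (hcT _).1 fun b => ?_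
            have hb : ∀ x y : N, c x y * c y x = 1 := fun x y => by
              refine hsmul_inj x y ?_
              have e := hcj x y
              rw [hcj y x, smul_smul] at e
              rw [one_smul, ← e]
            have hzero : c b (sec q) ≠ 0 := fun h0 => by
              have := hb b (sec q); rw [h0, zero_mul] at this; exact zero_ne_one this
            have e1 : c b (sec q) = c b (sec q') := congrFun h b
            have e2 : c b ((sec q)⁻¹ * sec q') = 1 := by
              rw [hcmul]
              have := hcmul b (sec q)⁻¹ (sec q)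
              rw [inv_mul_cancel, hc1] at this
              rw [← e1, this]
            have := hb b ((sec q)⁻¹ * sec q')
            rwa [e2, one_mul] at this
          rw [← QuotientGroup.eq, hsec, hsec] at h'
          exact h'
        have hli : LinearIndependent k fun q : Q => ρ (sec q).1 := by
          rw [Fintype.linearIndependent_iff]
          intro l hl
          by_contra hcon
          push Not at hcon
          obtain ⟨q₀, hq₀⟩ := hcon
          obtain ⟨v, hv⟩ := exists_ne (0 : V)
          obtain ⟨f, hf⟩ := Module.Projective.exists_dual_ne_zero k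
            (show ρ (sec q₀).1 v ≠ 0 from fun h => hv (by
              rw [← rho_inv_apply ρ (sec q₀).1 v, h, map_zero]))
          -- distinct commutation characters are independent
          let χ : Q → (N →* k) := fun q =>
            { toFun := fun b => c b (sec q)
              map_one' := by
                show c 1 (sec q) = 1
                refine hsmul_inj (sec q) 1 ?_
                rw [← hcj 1 (sec q), one_smul, Subgroup.coe_one, map_one, one_mul, mul_one]
              map_mul' := fun x y => hcmul' x y _ }
          have hχ : Function.Injective χ := fun q q' h => hinj (congrArg DFunLike.coe h)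
          have hind := (linearIndependent_monoidHom N k).comp χ hχ
          rw [Fintype.linearIndependent_iff] at hind
          have hzero := hind (fun q => l q * f (ρ (sec q).1 v)) (funext fun b => ?_) q₀
          · exact (mul_ne_zero hq₀ hf) hzero
          have e := congrArg (fun E : Module.End k V => (ρ b.1 * E * ρ b.1⁻¹)) hl
          simp only [mul_zero, zero_mul, Finset.mul_sum, Finset.sum_mul] at e
          have e' : ∀ q, ρ b.1 * (l q • ρ (sec q).1) * ρ b.1⁻¹ = (l q * c b (sec q)) • ρ (sec q).1 :=
            fun q => by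
              rw [mul_smul_comm, hcj, smul_smul, smul_mul_assoc, mul_assoc, rho_mul_inv, mul_one]
          simp only [e'] at e
          have := congrArg f (LinearMap.congr_fun e v)
          simp only [LinearMap.sum_apply, LinearMap.smul_apply, map_sum, map_smul, smul_eq_mul,
            LinearMap.zero_apply, map_zero] at this
          simp only [Finset.sum_apply, Pi.smul_apply, smul_eq_mul, Function.comp_apply, χ,
            MonoidHom.coe_mk, OneHom.coe_mk, Pi.zero_apply]
          rw [← this]
          exact Finset.sum_congr rfl fun q _ => by ring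
        have := hli.fintype_card_le_finrank
        rwa [Module.finrank_linearMap, hVn, ← Nat.card_eq_fintype_card] at this
      -- the conjugation action
      have hTconj : ∀ (g : S) (x : N), x ∈ T → ∀ hx, (⟨g * x.1 * g⁻¹, hx⟩ : N) ∈ T := by
        intro g x hx _
        rw [hT, Subgroup.mem_subgroupOf] at hx ⊢
        show g * x.1 * g⁻¹ ∈ Subgroup.center S
        rw [(Subgroup.mem_center_iff.1 hx) g, mul_inv_cancel_right]
        exact hx
      let cjN : S → (N →* N) := fun g => MonoidHom.mk' (fun x => ⟨g * x.1 * g⁻¹, hNn.conj_mem _ x.2 g⟩)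
        (fun x y => Subtype.ext (by simp [mul_assoc]))
      let cjQ : S → (Q →* Q) := fun g => QuotientGroup.map T T (cjN g)
        (fun x hx => hTconj g x hx _)
      let σ : S →* Module.End (ZMod s) (Additive Q) :=
        { toFun := fun g => (MonoidHom.toAdditive (cjQ g)).toZModLinearMap s
          map_one' := by
            refine LinearMap.ext fun x => Additive.toMul.injective ?_
            obtain ⟨a, ha⟩ := QuotientGroup.mk_surjective (Additive.toMul x)
            rw [AddMonoidHom.coe_toZModLinearMap]
            show cjQ 1 (Additive.toMul x) = Additive.toMul x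
            rw [← ha]
            exact congrArg QuotientGroup.mk (Subtype.ext (by simp [cjN]))
          map_mul' := fun g h => by
            refine LinearMap.ext fun x => Additive.toMul.injective ?_
            obtain ⟨a, ha⟩ := QuotientGroup.mk_surjective (Additive.toMul x)
            rw [Module.End.mul_apply, AddMonoidHom.coe_toZModLinearMap, AddMonoidHom.coe_toZModLinearMap,
              AddMonoidHom.coe_toZModLinearMap]
            show cjQ (g * h) (Additive.toMul x) = cjQ g (cjQ h (Additive.toMul x))
            rw [← ha]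
            exact congrArg QuotientGroup.mk (Subtype.ext (by simp [cjN, mul_assoc])) }
      -- the action is not trivial
      have hσ : σ.toHomUnits.ker ≤ φ.ker := by
        refine (normal_le_ker hφ hmin hr5 _).resolve_right fun htop => hNc fun b hb => ?_
        rw [Subgroup.mem_center_iff]
        intro g
        have hmem : ∀ g : S, ⁅g, b⁆ ∈ Subgroup.center S := fun g => by
          have h1 : σ g = 1 := congrArg Units.val (show σ.toHomUnits g = 1 from
            MonoidHom.mem_ker.1 (htop ▸ Subgroup.mem_top g))
          have h2 := congrArg Additive.toMul (LinearMap.congr_fun h1 (Additive.ofMul (QuotientGroup.mk ⟨b, hb⟩)))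
          change QuotientGroup.mk (cjN g ⟨b, hb⟩) = QuotientGroup.mk (⟨b, hb⟩ : N) at h2
          rw [QuotientGroup.eq, hT, Subgroup.mem_subgroupOf] at h2
          have h3 : (g * b * g⁻¹)⁻¹ * b ∈ Subgroup.center S := h2
          have h4 := Subgroup.inv_mem _ h3
          rw [mul_inv_rev, inv_inv] at h4
          have h5 : b⁻¹ * (g * b * g⁻¹) = b * (b⁻¹ * (g * b * g⁻¹)) * b⁻¹ := by
            rw [(Subgroup.mem_center_iff.1 h4) b, mul_inv_cancel_right]
          rw [h5] at h4
          rw [show ⁅g, b⁆ = b * (b⁻¹ * (g * b * g⁻¹)) * b⁻¹ by rw [commutatorElement_def]; group]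
          exact h4
        choose d hd using fun g => (scal_of_invariant ⁅g, b⁆).2 (hmem g)
        let f : S →* k :=
          { toFun := d
            map_one' := by
              obtain ⟨v, hv⟩ := exists_ne (0 : V)
              refine smul_left_injective k hv ?_
              show d 1 • v = (1 : k) • v
              rw [← hd, commutatorElement_one_left, map_one, one_smul, Module.End.one_apply]
            map_mul' := fun x y => by
              obtain ⟨v, hv⟩ := exists_ne (0 : V)
              refine smul_left_injective k hv ?_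
              show d (x * y) • v = (d x * d y) • v
              have e : ⁅x * y, b⁆ = ⁅y, b⁆ * ⁅x, b⁆ := by
                have e1 : ⁅x * y, b⁆ = x * ⁅y, b⁆ * x⁻¹ * ⁅x, b⁆ := by
                  simp only [commutatorElement_def]; group
                rw [e1, (Subgroup.mem_center_iff.1 (hmem y)) x, mul_inv_cancel_right]
              rw [← hd (x * y), e, map_mul, Module.End.mul_apply, hd, hd, smul_smul, mul_comm] }
        have h1 : d g = 1 := eq_one_of_comm hφ hmin hr5 f (fun x y => mul_comm _ _) g
        have h2 : ⁅g, b⁆ = 1 := hρ (LinearMap.ext fun v => by rw [hd, h1, one_smul, map_one]; rfl)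
        exact commutatorElement_eq_one_iff_mul_comm.1 h2
      have hs2 : 2 ≤ s := (Fact.out : s.Prime).two_le
      by_cases hDn : D < n
      · -- extend the scalars
        let K0 := AlgebraicClosure (ZMod s)
        let bas := Module.finBasis (ZMod s) (Additive Q)
        let toK : Module.End (ZMod s) (Additive Q) →* Module.End K0 (Fin D → K0) :=
          ((Matrix.toLinAlgEquiv' (R := K0) (n := Fin D)).toRingHom.comp
            (((algebraMap (ZMod s) K0).mapMatrix).comp
              (LinearMap.toMatrixAlgEquiv bas).toRingHom)).toMonoidHom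
        have hinjK : Function.Injective toK := fun x y h =>
          (LinearMap.toMatrixAlgEquiv bas).injective
            ((Matrix.map_injective (algebraMap (ZMod s) K0).injective)
              ((Matrix.toLinAlgEquiv' (R := K0) (n := Fin D)).injective h))
        have hk : (toK.comp σ).toHomUnits.ker ≤ φ.ker := by
          intro x hx
          refine hσ (MonoidHom.mem_ker.2 (Units.ext (hinjK ?_)))
          have := congrArg Units.val (MonoidHom.mem_ker.1 hx)
          simpa using this
        have := descend (hrec D hDn s) hφ (Module.finrank_fin_fun (R := K0)) (toK.comp σ).toHomUnits hk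
        omega
      · -- a small group
        rw [not_lt] at hDn
        have hD2 : 2 ^ D ≤ n * n := le_trans (Nat.pow_le_pow_left hs2 D) (hcardQ ▸ hQn)
        have hD4 : D ≤ 4 := by
          by_contra h
          have h' : ∀ d, 5 ≤ d → d * d < 2 ^ d := by
            intro d hd
            induction d, hd using Nat.le_induction with
            | base => norm_num
            | succ d hd ih => rw [pow_succ]; nlinarith
          have := h' D (by omega)
          have := Nat.mul_le_mul hDn hDn
          omega
        have hQ16 : s ^ D ≤ 16 := (hcardQ ▸ hQn).trans (by nlinarith)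
        haveI : Finite (Module.End (ZMod s) (Additive Q)) := Finite.of_equiv _
          (LinearMap.toMatrixAlgEquiv (Module.finBasis (ZMod s) (Additive Q))).toEquiv.symm
        have hcardEnd : Nat.card (Module.End (ZMod s) (Additive Q)) ≤ 65536 := by
          rw [Nat.card_congr (LinearMap.toMatrixAlgEquiv (Module.finBasis (ZMod s) (Additive Q))).toEquiv,
            Matrix, Nat.card_fun, Nat.card_fun, Nat.card_fin, Nat.card_zmod]
          calc (s ^ D) ^ D ≤ 16 ^ D := Nat.pow_le_pow_left hQ16 D
            _ ≤ 16 ^ 4 := Nat.pow_le_pow_right (by norm_num) hD4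
            _ = 65536 := by norm_num
        have hu : Nat.card (Module.End (ZMod s) (Additive Q))ˣ ≤ 65536 :=
          (Nat.card_le_card_of_injective _ Units.val_injective).trans hcardEnd
        have hf := factorial_ge r hr
        have htop := hom_trivial hφ hmin hr5 σ.toHomUnits (by omega)
        rw [htop, top_le_iff] at hσ
        have := hσ ▸ Subgroup.mem_top x₀
        rw [MonoidHom.mem_ker, hx₀] at this
        exact c3_ne_one (Ne.symm hB) (Ne.symm hC.1) this
  -- a double cover
  have hK2 : Nat.card φ.ker ≤ 2 := by
    obtain ⟨j, rfl⟩ : ∃ j, r = j + 8 := ⟨r - 8, by omega⟩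
    exact H61.AltStem.card_kernel_le_two_of_large φ hφ hK (by rw [hperf]; exact le_top)
  have hsq : ∀ z, φ z = 1 → z * z = 1 := fun z hz => by
    haveI : Finite φ.ker := inferInstance
    have hz' : (⟨z, hz⟩ : φ.ker) ^ Nat.card φ.ker = 1 := pow_card_eq_one'
    have hpos : 0 < Nat.card φ.ker := Nat.card_pos
    rcases (show Nat.card φ.ker = 1 ∨ Nat.card φ.ker = 2 by omega) with h | h
    · rw [h, pow_one] at hz'
      have : z = 1 := congrArg Subtype.val hz'
      rw [this, one_mul]
    · rw [h, pow_two] at hz'
      exact congrArg Subtype.val hz'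
  have hD : Datum φ ρ := by
    refine ⟨fun σ hσ => ?_, fun z hz g => (Subgroup.mem_center_iff.1 (hK (MonoidHom.mem_ker.2 hz)) g).symm,
      hsq, fun z hz => ?_⟩
    · rw [← hφ] at hσ; exact hσ
    obtain ⟨c, hc⟩ := (scal_of_invariant z).2 (hK (MonoidHom.mem_ker.2 hz))
    obtain ⟨v, hv⟩ := exists_ne (0 : V)
    have h1 : (c * c) • v = (1 : k) • v := by
      rw [← smul_smul, ← hc v, ← map_smul, ← hc v, ← Module.End.mul_apply, ← map_mul, hsq z hz, map_one,
        Module.End.one_apply, one_smul]
    have h2 : c * c = 1 := smul_left_injective k hv h1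
    rcases mul_self_eq_one_iff.1 h2 with h | h
    · left; ext w; rw [hc, h, one_smul, Module.End.one_apply]
    · right; ext w; rw [hc, h, LinearMap.neg_apply, Module.End.one_apply, neg_one_smul]
  have hnt : ∃ a b c, a ≠ b ∧ a ≠ c ∧ b ≠ c ∧ ρ (L φ (c3 a b c)) ≠ 1 := by
    refine ⟨A, B, C, Ne.symm hB, Ne.symm hC.1, Ne.symm hC.2, fun h => ?_⟩
    have h1 : L φ (c3 A B C) = 1 := hρ (h.trans (map_one ρ).symm)
    have := map_L_c3 hD (Ne.symm hB) (Ne.symm hC.1) (Ne.symm hC.2)
    rw [h1, map_one] at this
    exact c3_ne_one (Ne.symm hB) (Ne.symm hC.1) this.symm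
  have := main_bound k p r hr V S φ ρ hD hnt
  rwa [hVn] at this

/-- The lower bound over the algebraic closure of a prime field. -/
theorem lo_prime (r : ℕ) (hr : 9 ≤ r) :
    ∀ D : ℕ, ∀ (s : ℕ) [Fact s.Prime], Lo (AlgebraicClosure (ZMod s)) r D := by
  intro D
  induction D using Nat.strong_induction_on with
  | _ D ih =>
    intro s _ V _ _ _ hV H _ _ ρ φ hφ hρ
    exact (step s hr (fun m hm => ih m hm s) (fun m hm t => ih m hm t) V hV H ρ φ hφ hρ).1

/-- The bound over any algebraically closed field of positive characteristic. -/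
theorem bd_all {k : Type u} [Field k] [IsAlgClosed k] (p : ℕ) [Fact p.Prime] [CharP k p] (r : ℕ)
    (hr : 9 ≤ r) : ∀ n, Bd k r n := by
  intro n
  induction n using Nat.strong_induction_on with
  | _ n ih =>
    exact step p hr (fun m hm V _ _ _ hV H _ _ ρ φ hφ hρ => (ih m hm V hV H ρ φ hφ hρ).1)
      (fun D _ s => lo_prime r hr D s)

end H82.Alt
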