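import Cfsg.Agent.H82.Alt.Weights
import Cfsg.Agent.H82.Alt.NotThree

/-!
Characteristic different from three, degree at most eleven.
-/

set_option autoImplicit false
set_option linter.unusedSectionVars false
set_option linter.style.haveILetI false
set_option maxHeartbeats 1000000
set_option linter.unusedSimpArgs false

open Equiv Module

namespace H82.Alt

universe u v w

/-- An even permutation extending an injection. -/
theorem exists_alt_ext {r m : ℕ} (f g : Fin m ↪ Fin r) (h : m + 2 ≤ r) :
    ∃ σ ∈ alternatingGroup (Fin r), ∀ i, σ (f i) = g i := by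
  obtain ⟨σ, hσ⟩ := Equiv.Perm.exists_extending_pair f g f.injective g.injective
  by_cases hs : Perm.sign σ = 1
  · exact ⟨σ, Perm.mem_alternatingGroup.2 hs, hσ⟩
  obtain ⟨p, hp⟩ := exists_avoid (List.ofFn f) (by rw [List.length_ofFn]; omega)
  obtain ⟨q, hq⟩ := exists_avoid (p :: List.ofFn f) (by rw [List.length_cons, List.length_ofFn]; omega)
  simp only [List.mem_cons, List.mem_ofFn, not_or] at hp hq
  refine ⟨σ * swap p q, ?_, fun i => ?_⟩
  · rw [Perm.mem_alternatingGroup, Perm.sign_mul, Perm.sign_swap (Ne.symm hq.1)]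
    rcases Int.units_eq_one_or (Perm.sign σ) with h | h
    · exact absurd h hs
    · rw [h]; rfl
  · rw [Perm.mul_apply, swap_apply_of_ne_of_ne (fun e => hp ⟨i, e⟩) (fun e => hq.2 ⟨i, e⟩), hσ]

/-- An embedding of nine points extending six given ones. -/
theorem exists_emb9 {r : ℕ} (hr : 9 ≤ r) {a b c a' b' c' : Fin r}
    (h : [a, b, c, a', b', c'].Nodup) :
    ∃ e : Fin 9 ↪ Fin r, e 0 = a ∧ e 1 = b ∧ e 2 = c ∧ e 3 = a' ∧ e 4 = b' ∧ e 5 = c' := by
  let f : Fin 6 ↪ Fin r := Fin.castLEEmb (by omega)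
  let g : Fin 6 ↪ Fin r := ⟨[a, b, c, a', b', c'].get, List.nodup_iff_injective_get.1 h⟩
  obtain ⟨σ, -, hσ⟩ := exists_alt_ext f g (by omega)
  exact ⟨(Fin.castLEEmb hr).trans σ.toEmbedding, hσ 0, hσ 1, hσ 2, hσ 3, hσ 4, hσ 5⟩

variable {k : Type u} [Field k] [IsAlgClosed k] {V : Type v} [AddCommGroup V] [Module k V]
  [FiniteDimensional k V]
variable {G : Type w} [Group G] {r : ℕ} {π : G →* Perm (Fin r)} {ρ : G →* Module.End k V}

/-- The exponents of the eleven point argument. -/
def s11 : Perm (Fin 11) := finRotate 11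
/-- A five-cycle. -/
def y11 : Perm (Fin 11) := swap 1 3 * swap 3 9 * (swap 9 5 * swap 5 4)
/-- Another five-cycle. -/
def z11 : Perm (Fin 11) := swap 2 6 * swap 6 7 * (swap 7 10 * swap 10 8)

theorem p11_mem : s11 ∈ alternatingGroup (Fin 11) ∧ y11 ∈ alternatingGroup (Fin 11) ∧
    z11 ∈ alternatingGroup (Fin 11) := by
  simp only [Perm.mem_alternatingGroup]; decide +kernel

theorem p11_pow : s11 ^ 11 = 1 ∧ y11 ^ 5 = 1 ∧ z11 ^ 5 = 1 := by decide +kernel

/-- The square of `y - 1` vanishes on the space. -/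
theorem sub_one_sq_five [CharP k 5] (hD : Datum π ρ) (hr : 9 ≤ r) (hn : finrank k V ≤ 9)
    (h3 : (3 : k) ≠ 0) {a b c a' b' c' : Fin r} (hnd : [a, b, c, a', b', c'].Nodup)
    (hC : ∀ u, X π ρ a b c u = u → ∀ x y z, x ≠ y → x ≠ z → y ≠ z → X π ρ x y z u = u)
    (hC' : ∀ u, X π ρ a' b' c' u = u → X π ρ a b c u = u)
    {Y : Module.End k V} (hY : Y ^ 5 = 1) (hfix : ∀ u, (∀ x y z, x ≠ y → x ≠ z → y ≠ z →
      X π ρ x y z u = u) → Y u = u)
    (h1 : Commute Y (X π ρ a b c)) (h2 : Commute Y (X π ρ a' b' c')) : (Y - 1) ^ 2 = 0 := by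
  haveI : Fact (Nat.Prime 5) := ⟨Nat.prime_five⟩
  haveI : Fact (Nat.Prime 3) := ⟨Nat.prime_three⟩
  obtain ⟨e, ea, eb, ec, ea', eb', ec'⟩ := exists_emb9 hr hnd
  simp only [List.nodup_cons, List.mem_cons, List.not_mem_nil, or_false, not_or, List.nodup_nil,
    and_true, not_false_eq_true] at hnd
  obtain ⟨⟨ab, ac, ha1, ha2, ha3⟩, ⟨bc, hb1, hb2, hb3⟩, ⟨hc1, hc2, hc3⟩, ⟨ab', ac'⟩, bc'⟩ := hnd
  set A := X π ρ a b c with hA
  set B := X π ρ a' b' c' with hB
  have hA3 : A ^ 3 = 1 := X_cube hD ab ac bc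
  have hB3 : B ^ 3 = 1 := X_cube hD ab' ac' bc'
  have h3' : ((3 : ℕ) : k) ≠ 0 := by simpa using h3
  have hAB : Commute A B := commute_X hD ab ac bc ab' ac' bc' (by simp; grind) (by simp; grind)
    (by simp; grind)
  have hall : ∀ u, A u = u → ((Y - 1) ^ 2 : Module.End k V) u = 0 := fun u hu => by
    have := hfix u (hC u hu)
    have h0 : (Y - 1) u = 0 := by rw [LinearMap.sub_apply, this, Module.End.one_apply, sub_self]
    rw [pow_two, Module.End.mul_apply, h0, map_zero]
  apply LinearMap.ext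
  intro v
  rw [LinearMap.zero_apply]
  have hv : v ∈ ⨆ μ : k, A.eigenspace μ := by rw [eig_top hA3 h3']; exact Submodule.mem_top
  induction hv using Submodule.iSup_induction' with
  | zero => rw [map_zero]
  | add x y _ _ hx hy => rw [map_add, hx, hy, add_zero]
  | mem μ v hv =>
    rw [Module.End.mem_eigenspace_iff] at hv
    by_cases hμ : μ = 1
    · exact hall v (by rw [hv, hμ, one_smul])
    -- decompose by the second cycle inside the eigenspace
    set W := A.eigenspace μ with hW
    have hWB : ∀ x ∈ W, B x ∈ W := fun x hx => Module.End.mapsTo_genEigenspace_of_comm hAB μ 1 hx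
    have hres : (B.restrict hWB) ^ 3 = 1 := by
      refine LinearMap.ext fun x => Subtype.ext ?_
      have := LinearMap.congr_fun hB3 x.1
      simpa [pow_succ, Module.End.mul_apply] using this
    have hvW : (⟨v, Module.End.mem_eigenspace_iff.2 hv⟩ : W) ∈
        ⨆ ν : k, Module.End.eigenspace (B.restrict hWB) ν := by
      rw [eig_top hres h3']; exact Submodule.mem_top
    suffices ∀ x : W, x ∈ ⨆ ν : k, Module.End.eigenspace (B.restrict hWB) ν →
        ((Y - 1) ^ 2 : Module.End k V) x.1 = 0 from this _ hvW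
    intro x hx
    induction hx using Submodule.iSup_induction' with
    | zero => simp
    | add x y _ _ hx hy => rw [Submodule.coe_add, map_add, hx, hy, add_zero]
    | mem ν x hx =>
      rw [Module.End.mem_eigenspace_iff] at hx
      have hBx : B x.1 = ν • x.1 := congrArg Subtype.val hx
      have hAx : A x.1 = μ • x.1 := Module.End.mem_eigenspace_iff.1 x.2
      by_cases hν : ν = 1
      · exact hall _ (hC' _ (by rw [hBx, hν, one_smul]))
      by_cases hx0 : x.1 = 0
      · rw [hx0, map_zero]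
      have hμ3 : μ ^ 3 = 1 := eig_pow_eq_one hA3
        ((Submodule.ne_bot_iff _).2 ⟨x.1, x.2, hx0⟩)
      have hν3 : ν ^ 3 = 1 := eig_pow_eq_one hB3
        ((Submodule.ne_bot_iff _).2 ⟨x.1, Module.End.mem_eigenspace_iff.2 hBx, hx0⟩)
      have hω : IsPrimitiveRoot μ 3 := IsPrimitiveRoot.iff_orderOf.2 (orderOf_eq_prime hμ3 hμ)
      obtain ⟨j, hj, hjν⟩ := hω.eq_pow_of_pow_eq_one hν3
      have hdim := pair_dim_le hD e hω hn 1 (j : ZMod 3) one_ne_zero (fun h => hν (by
        rw [← hjν, ← Nat.mod_eq_of_lt hj, ← ZMod.val_natCast, h]; simp))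
      rw [show (1 : ZMod 3).val = 1 from rfl, pow_one, ZMod.val_natCast, Nat.mod_eq_of_lt hj, hjν,
        show Z π ρ e b0 = A by
          rw [b0, Z_c3 e (by decide) (by decide) (by decide), ea, eb, ec],
        show Z π ρ e b1 = B by
          rw [b1, Z_c3 e (by decide) (by decide) (by decide), ea', eb', ec']] at hdim
      set P : Submodule k V := A.eigenspace μ ⊓ B.eigenspace ν
      have hPY : ∀ y ∈ P, Y y ∈ P := fun y hy =>
        ⟨Module.End.mapsTo_genEigenspace_of_comm h1.symm μ 1 hy.1,
          Module.End.mapsTo_genEigenspace_of_comm h2.symm ν 1 hy.2⟩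
      have hpow : ∀ i : ℕ, ∀ y : P, ((Y.restrict hPY) ^ i) y = (Y ^ i) y.1 := fun i => by
        induction i with
        | zero => intro y; simp
        | succ i ih =>
          intro y
          rw [pow_succ', Module.End.mul_apply, pow_succ', Module.End.mul_apply, ← ih y]
          rfl
      have hY' : (Y.restrict hPY) ^ 5 = 1 := by
        refine LinearMap.ext fun y => Subtype.ext ?_
        rw [hpow, hY]; rfl
      have hsq := LinearMap.congr_fun (sub_one_sq_of_unipotent (p := 5) hY' hdim)
        (⟨x.1, x.2, Module.End.mem_eigenspace_iff.2 hBx⟩ : P)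
      have := congrArg Subtype.val hsq
      simpa [pow_two, Module.End.mul_apply, LinearMap.sub_apply] using this

/-- Degree at most eleven. -/
theorem small_not_three (hD : Datum π ρ) (hr : 9 ≤ r) (hr' : r ≤ 11) (h3 : (3 : k) ≠ 0)
    (hn : finrank k V ≤ r - 2)
    (hnt : ∃ a b c, a ≠ b ∧ a ≠ c ∧ b ≠ c ∧ ρ (L π (c3 a b c)) ≠ 1) :
    (∀ a b c a' b' c' : Fin r, [a, b, c, a', b', c'].Nodup →
      ∀ v ∈ mov (X π ρ a b c), X π ρ a' b' c' v = v) ∨
      r - 2 ≤ finrank k V ∧ (finrank k V = r - 2 → (r : k) = 0) := by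
  classical
  haveI : Fact (Nat.Prime 3) := ⟨Nat.prime_three⟩
  have h3' : ((3 : ℕ) : k) ≠ 0 := by simpa using h3
  by_contra hcon
  rw [not_or] at hcon
  obtain ⟨hnofix, hgoal⟩ := hcon
  push Not at hnofix
  obtain ⟨a, b, c, a', b', c', hnd, v, hv, hne⟩ := hnofix
  have h6 := hnd
  simp only [List.nodup_cons, List.mem_cons, List.not_mem_nil, or_false, not_or, List.nodup_nil,
    and_true, not_false_eq_true] at h6
  obtain ⟨⟨ab, ac, ha1, ha2, ha3⟩, ⟨bc, hb1, hb2, hb3⟩, ⟨hc1, hc2, hc3⟩, ⟨ab', ac'⟩, bc'⟩ := h6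
  -- a nontrivial joint eigenvector
  obtain ⟨μ, hμ, w, hw, hwne⟩ : ∃ μ, μ ≠ 1 ∧ ∃ w ∈ (X π ρ a b c).eigenspace μ,
      X π ρ a' b' c' w ≠ w := by
    by_contra h
    push Not at h
    exact hne (fix_mov (t := 3) (X_cube hD ab ac bc) h3' _ h hv)
  have hcomm : Commute (X π ρ a b c) (X π ρ a' b' c') := commute_X hD ab ac bc ab' ac' bc'
    (by simp; grind) (by simp; grind) (by simp; grind)
  obtain ⟨ν, hν, x, hx, hx0, hxν⟩ := exists_eig_ne_one (g := X π ρ a' b' c') (t := 3)
    (W := (X π ρ a b c).eigenspace μ) (fun y hy => Module.End.mapsTo_genEigenspace_of_comm hcomm μ 1 hy)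
    (X_cube hD ab' ac' bc') h3' hw hwne
  rw [Module.End.mem_eigenspace_iff] at hx
  have hn9 : finrank k V ≤ 9 := by omega
  have hω : IsPrimitiveRoot μ 3 := IsPrimitiveRoot.iff_orderOf.2 (orderOf_eq_prime
    (eig_pow_eq_one (X_cube hD ab ac bc)
      ((Submodule.ne_bot_iff _).2 ⟨x, Module.End.mem_eigenspace_iff.2 hx, hx0⟩)) hμ)
  -- every pair of disjoint cycles has such a vector
  have hmain : ∀ p q s p' q' s' : Fin r, [p, q, s, p', q', s'].Nodup →
      8 ≤ finrank k V ∧ ∀ u, X π ρ p q s u = u → X π ρ p' q' s' u = u := by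
    intro p q s p' q' s' h
    obtain ⟨e, e0, e1, e2, e3, e4, e5⟩ := exists_emb9 hr h
    let f : Fin 6 ↪ Fin r := ⟨[a, b, c, a', b', c'].get, List.nodup_iff_injective_get.1 hnd⟩
    let f' : Fin 6 ↪ Fin r := ⟨[p, q, s, p', q', s'].get, List.nodup_iff_injective_get.1 h⟩
    obtain ⟨σ, hσA, hσ⟩ := exists_alt_ext f f' (by omega)
    obtain ⟨g, hg⟩ := hD.surj σ hσA
    have h1 := X_conj_apply hD ab ac bc g x
    have h2 := X_conj_apply hD ab' ac' bc' g x
    rw [hg, show σ a = p from hσ 0, show σ b = q from hσ 1, show σ c = s from hσ 2, hx,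
      map_smul] at h1
    rw [hg, show σ a' = p' from hσ 3, show σ b' = q' from hσ 4, show σ c' = s' from hσ 5, hxν,
      map_smul] at h2
    have hb0 : Z π ρ e b0 = X π ρ p q s := by
      rw [b0, Z_c3 e (by decide) (by decide) (by decide), e0, e1, e2]
    have hb1 : Z π ρ e b1 = X π ρ p' q' s' := by
      rw [b1, Z_c3 e (by decide) (by decide) (by decide), e3, e4, e5]
    have hgx : ρ g x ≠ 0 := fun h => hx0 (by rw [← rho_inv_apply ρ g x, h, map_zero])
    have := W3_main hD e hω h3 hn9 hμ hν hgx (by rw [hb0]; exact h1.symm) (by rw [hb1]; exact h2.symm)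
    rw [hb0, hb1] at this
    exact this
  have h8 : 8 ≤ finrank k V := (hmain a b c a' b' c' hnd).1
  have hC : ∀ {p q s : Fin r}, p ≠ q → p ≠ s → q ≠ s → ∀ u, X π ρ p q s u = u →
      ∀ x y z, x ≠ y → x ≠ z → y ≠ z → X π ρ x y z u = u := by
    intro p q s pq ps qs u hu x y z xy xz yz
    obtain ⟨l, hl⟩ := exists_avoid [p, q, s, x, y, z] (by simp; omega)
    obtain ⟨m, hm⟩ := exists_avoid [p, q, s, x, y, z, l] (by simp; omega)
    obtain ⟨o, ho⟩ := exists_avoid [p, q, s, x, y, z, l, m] (by simp; omega)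
    simp only [List.mem_cons, List.not_mem_nil, or_false, not_or] at hl hm ho
    exact (hmain l m o x y z (by simp; grind)).2 u
      ((hmain p q s l m o (by simp; grind)).2 u hu)
  have hfixall : ∀ u, (∀ x y z, x ≠ y → x ≠ z → y ≠ z → X π ρ x y z u = u) →
      ∀ σ ∈ alternatingGroup (Fin r), σ ∈ (fixer ρ u).map π := fun u hu σ hσ =>
    alt_le (fun x y z xy xz yz => (⟨_, hu x y z xy xz yz, map_L_c3 hD xy xz yz⟩ :
      c3 x y z ∈ (fixer ρ u).map π)) hσ
  have hnum : ∀ n R : ℕ, 8 ≤ n → n ≤ R - 2 → R ≤ 11 → 10 ≤ R ∧ n < 16 := fun n R a b c => by omega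
  obtain ⟨hr10, hn16⟩ := hnum _ _ h8 hn hr'
  by_cases h5 : (5 : k) = 0
  · obtain rfl | rfl : r = 10 ∨ r = 11 := by clear * - hr10 hr'; omega
    · exact hgoal ⟨h8, fun _ => by norm_num; linear_combination 2 * h5⟩
    haveI : CharP k 5 := by
      have h1 : ringChar k ∣ 5 := ringChar.dvd (by exact_mod_cast h5)
      rcases (Nat.dvd_prime Nat.prime_five).1 h1 with h | h
      · exact absurd h CharP.ringChar_ne_one
      · exact h ▸ ringChar.charP k
    let e : Fin 11 ↪ Fin 11 := Function.Embedding.refl _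
    haveI : Fact (Nat.Prime 11) := ⟨by norm_num⟩
    have h11 : ((11 : ℕ) : k) ≠ 0 := by
      intro h
      have h' : (11 : k) = 0 := by exact_mod_cast h
      exact one_ne_zero (α := k) (by linear_combination h' - 2 * h5)
    set S := Z π ρ e s11 with hS
    have hS11 : S ^ 11 = 1 := Z_pow hD e (by decide) p11_pow.1 p11_mem.1
    -- the operator is nontrivial
    obtain ⟨l, hl, u, hu, hu0⟩ : ∃ l, l ≠ 1 ∧ ∃ u ∈ S.eigenspace l, u ≠ 0 := by
      by_contra hcon2
      push Not at hcon2
      have hS1 : S = 1 := eq_one_of_eig (t := 11) hS11 h11 fun μ hμ => by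
        rw [Submodule.eq_bot_iff]; exact hcon2 μ hμ
      refine X_ne_one hD (by omega) hnt (a := e 0) (b := e 1) (c := e 3) (by decide) (by decide)
        (by decide) (LinearMap.ext fun v => ?_)
      obtain ⟨g, hg⟩ := exists_over hD e (τ := c3 1 2 3) (c3_mem_alt (by decide) (by decide) (by decide))
      have h1 : Z π ρ e (c3 1 2 3 * s11 * (c3 1 2 3)⁻¹) v = v := by
        have := Z_conj_apply hD e (t := 11) (by decide) p11_pow.1 p11_mem.1 hg (ρ g⁻¹ v)
        rw [← hS, hS1, Module.End.one_apply, rho_apply_inv] at this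
        exact this.symm
      have hm1 := mem_map_fixer hD e (t := 11) (by decide) p11_pow.1 p11_mem.1
        (v := v) (by rw [← hS, hS1, Module.End.one_apply])
      have hm2 := mem_map_fixer hD e (t := 11) (σ := c3 1 2 3 * s11 * (c3 1 2 3)⁻¹) (by decide)
        (by decide +kernel) (by rw [Perm.mem_alternatingGroup]; decide +kernel) h1
      have hm := Subgroup.mul_mem _ (Subgroup.inv_mem _ hm1) hm2
      rw [← map_inv, ← map_mul, show s11⁻¹ * (c3 1 2 3 * s11 * (c3 1 2 3)⁻¹) = c3 0 1 3 by decide +kernel]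
        at hm
      have := hD.mem_of_map (odd_via e (t := 3) (by decide) (by decide +kernel)) (fixer ρ v) hm
      rw [viaEmbedding_c3 e (by decide) (by decide) (by decide)] at this
      rw [Module.End.one_apply, X_def]
      exact this
    rw [Module.End.mem_eigenspace_iff] at hu
    have hl11 : l ^ 11 = 1 := eig_pow_eq_one hS11
      ((Submodule.ne_bot_iff _).2 ⟨u, Module.End.mem_eigenspace_iff.2 hu, hu0⟩)
    set Yv := Z π ρ e y11 with hYv
    set Zv := Z π ρ e z11 with hZv
    have hY5 : Yv ^ 5 = 1 := Z_pow hD e (by decide) p11_pow.2.1 p11_mem.2.1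
    have hZ5 : Zv ^ 5 = 1 := Z_pow hD e (by decide) p11_pow.2.2 p11_mem.2.2
    have hsq : ∀ (σ : Perm (Fin 11)) (hσ : σ ^ 5 = 1) (hσA : σ ∈ alternatingGroup (Fin 11))
        (p q s p' q' s' : Fin 11), [p, q, s, p', q', s'].Nodup → Commute σ (c3 p q s) →
        Commute σ (c3 p' q' s') → (Z π ρ e σ - 1) ^ 2 = 0 := by
      intro σ hσ hσA p q s p' q' s' hnd' hc hc'
      have hn' := hnd'
      simp only [List.nodup_cons, List.mem_cons, List.not_mem_nil, or_false, not_or, List.nodup_nil,
        and_true, not_false_eq_true] at hn'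
      obtain ⟨⟨pq, ps, -⟩, ⟨qs, -⟩, -, ⟨pq', ps'⟩, qs'⟩ := hn'
      have hcube : ∀ {x y z : Fin 11}, x ≠ y → x ≠ z → y ≠ z → c3 x y z ^ 3 = 1 :=
        fun h1 h2 h3 => c3_cube h1 h2 h3
      refine sub_one_sq_five hD hr hn9 h3 hnd' (hC pq ps qs)
        (fun u hu => hC pq' ps' qs' u hu p q s pq ps qs)
        (Z_pow hD e (by decide) hσ hσA) (fun u hu => ?_) ?_ ?_
      · obtain ⟨g, hg, hgσ⟩ := hfixall u hu _ (viaEmbedding_mem_alt e hσA)
        exact hD.mem_of_map (odd_via e (t := 5) (by decide) hσ) (fixer ρ u) ⟨g, hg, hgσ⟩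
      · have := Z_commute hD e (t := 5) (by decide) hσ hσA (t' := 3) (by decide) (hcube pq ps qs)
          (c3_mem_alt pq ps qs) hc
        rwa [Z_c3 e pq ps qs] at this
      · have := Z_commute hD e (t := 5) (by decide) hσ hσA (t' := 3) (by decide) (hcube pq' ps' qs')
          (c3_mem_alt pq' ps' qs') hc'
        rwa [Z_c3 e pq' ps' qs'] at this
    have hYsq : (Yv - 1) ^ 2 = 0 := hsq y11 p11_pow.2.1 p11_mem.2.1 0 2 6 7 8 10 (by decide)
      (by show _ = _; decide +kernel) (by show _ = _; decide +kernel)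
    have hZsq : (Zv - 1) ^ 2 = 0 := hsq z11 p11_pow.2.2 p11_mem.2.2 0 1 3 4 5 9 (by decide)
      (by show _ = _; decide +kernel) (by show _ = _; decide +kernel)
    have hYZ : Commute Yv Zv := Z_commute hD e (t := 5) (by decide) p11_pow.2.1 p11_mem.2.1
      (t' := 5) (by decide) p11_pow.2.2 p11_mem.2.2 (by show _ = _; decide +kernel)
    set H := Yv * Zv with hH
    have hcube : (H - 1) ^ 3 = 0 := by
      set A := Yv - 1 with hA
      set B := Zv - 1 with hB
      have hAB : A * B = B * A := ((hYZ.sub_right (Commute.one_right _)).sub_left (Commute.one_left _)).eq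
      have hA2 : A * A = 0 := by rw [← pow_two]; exact hYsq
      have hB2 : B * B = 0 := by rw [← pow_two]; exact hZsq
      have e1 : H - 1 = A + B + A * B := by rw [hH, hA, hB]; noncomm_ring
      have e2 : (A + B + A * B) * (A + B + A * B) = A * B + A * B := by
        simp only [mul_add, add_mul, ← mul_assoc, hA2, hB2, zero_mul, zero_add, add_zero]
        simp only [← hAB, mul_assoc, hB2, mul_zero, add_zero]
        simp only [← mul_assoc, hA2, zero_mul, add_zero]
      rw [e1, pow_succ, pow_two, e2]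
      simp only [mul_add, add_mul, ← mul_assoc]
      simp only [mul_assoc A B A, ← hAB, mul_assoc A B B, hB2, mul_zero, add_zero]
      simp only [← mul_assoc, hA2, zero_mul, mul_zero, add_zero]
    have hh : Perm.viaEmbeddingHom e (y11 * z11) = π (L π (Perm.viaEmbeddingHom e y11) *
        L π (Perm.viaEmbeddingHom e z11)) := by
      rw [map_mul, map_mul, hD.map_L (odd_via e (t := 5) (by decide) p11_pow.2.1)
        (viaEmbedding_mem_alt e p11_mem.2.1), hD.map_L (odd_via e (t := 5) (by decide) p11_pow.2.2)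
        (viaEmbedding_mem_alt e p11_mem.2.2)]
    have hstep : ∀ {ν : k} {x : V}, S x = ν • x → S (H x) = ν ^ 4 • H x := by
      intro ν x hx
      have := eig_move hD e (t := 11) (σ' := s11) (by decide) p11_pow.1 p11_mem.1 hh.symm 4
        (by decide +kernel) hx
      rwa [map_mul] at this
    let vs : Fin 4 → V := ![u, H u, H (H u), H (H (H u))]
    let μs : Fin 4 → k := ![l, l ^ 4, l ^ 5, l ^ 9]
    have e2 := hstep hu
    have e3 := hstep e2
    have e4 := hstep e3
    rw [← pow_mul, show 4 * 4 = 11 + 5 by norm_num, pow_add, hl11, one_mul] at e3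
    rw [← pow_mul, ← pow_mul, show 4 * 4 * 4 = 11 * 5 + 9 by norm_num, pow_add, pow_mul, hl11,
      one_pow, one_mul] at e4
    have hprim : IsPrimitiveRoot l 11 := IsPrimitiveRoot.iff_orderOf.2 (orderOf_eq_prime hl11 hl)
    have hHne : ∀ x, x ≠ 0 → H x ≠ 0 := fun x hx h => hx (by
      rw [hH, hYv, hZv, Z_def, Z_def, ← map_mul] at h
      rw [← rho_inv_apply ρ _ x, h, map_zero])
    have hind : LinearIndependent k vs := by
      refine Module.End.eigenvectors_linearIndependent' S μs ?_ vs fun i => ?_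
      · intro i j hij
        fin_cases i <;> fin_cases j <;> first
          | rfl
          | (exfalso
             simp only [μs] at hij
             first
              | exact absurd (hprim.pow_inj (i := 1) (j := 4) (by norm_num) (by norm_num) (by simpa using hij)) (by norm_num)
              | exact absurd (hprim.pow_inj (i := 1) (j := 5) (by norm_num) (by norm_num) (by simpa using hij)) (by norm_num)
              | exact absurd (hprim.pow_inj (i := 1) (j := 9) (by norm_num) (by norm_num) (by simpa using hij)) (by norm_num)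
              | exact absurd (hprim.pow_inj (i := 4) (j := 1) (by norm_num) (by norm_num) (by simpa using hij)) (by norm_num)
              | exact absurd (hprim.pow_inj (i := 4) (j := 5) (by norm_num) (by norm_num) (by simpa using hij)) (by norm_num)
              | exact absurd (hprim.pow_inj (i := 4) (j := 9) (by norm_num) (by norm_num) (by simpa using hij)) (by norm_num)
              | exact absurd (hprim.pow_inj (i := 5) (j := 1) (by norm_num) (by norm_num) (by simpa using hij)) (by norm_num)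
              | exact absurd (hprim.pow_inj (i := 5) (j := 4) (by norm_num) (by norm_num) (by simpa using hij)) (by norm_num)
              | exact absurd (hprim.pow_inj (i := 5) (j := 9) (by norm_num) (by norm_num) (by simpa using hij)) (by norm_num)
              | exact absurd (hprim.pow_inj (i := 9) (j := 1) (by norm_num) (by norm_num) (by simpa using hij)) (by norm_num)
              | exact absurd (hprim.pow_inj (i := 9) (j := 4) (by norm_num) (by norm_num) (by simpa using hij)) (by norm_num)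
              | exact absurd (hprim.pow_inj (i := 9) (j := 5) (by norm_num) (by norm_num) (by simpa using hij)) (by norm_num))
      · rw [Module.End.hasEigenvector_iff, Module.End.mem_eigenspace_iff]
        fin_cases i
        · exact ⟨hu, hu0⟩
        · exact ⟨e2, hHne _ hu0⟩
        · exact ⟨e3, hHne _ (hHne _ hu0)⟩
        · exact ⟨e4, hHne _ (hHne _ (hHne _ hu0))⟩
    have hrel : ∑ i : Fin 4, (![-1, 3, -3, 1] : Fin 4 → k) i • vs i = 0 := by
      have h0 := LinearMap.congr_fun hcube u
      simp only [pow_succ, pow_zero, one_mul, Module.End.mul_apply, LinearMap.sub_apply,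
        Module.End.one_apply, map_sub, LinearMap.zero_apply] at h0
      rw [Fin.sum_univ_four, ← h0]
      simp [vs]
      module
    have := Fintype.linearIndependent_iff.1 hind _ hrel 3
    simp at this
  · let e : Fin 10 ↪ Fin r := Fin.castLEEmb hr10
    have hfive : ∀ τ : Perm (Fin 10), τ * d0 * τ⁻¹ = d0 → ∀ u ∈ mov (Z π ρ e d0),
        Z π ρ e (τ * d1 * τ⁻¹) u = u := by
      intro τ hτ u hu
      have hz : ∀ σ : Perm (Fin 10), Z π ρ (τ.toEmbedding.trans e) σ = Z π ρ e (τ * σ * τ⁻¹) :=
        fun σ => by rw [Z_def, Z_def, via_comp]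
      have := five_fix hD (τ.toEmbedding.trans e) h5 hn16 (v := u) (by rw [hz, hτ]; exact hu)
      rwa [hz] at this
    have hzero : ∀ u ∈ mov (Z π ρ e d0), u = 0 := by
      intro u hu
      have h1 := hfive (c3 6 7 8) (by decide +kernel) u hu
      have h2 := hfive (c3 6 8 9) (by decide +kernel) u hu
      have m1 := mem_map_fixer hD e (t := 5) (by decide) (by decide +kernel)
        (by rw [Perm.mem_alternatingGroup]; decide +kernel) h1
      have m2 := mem_map_fixer hD e (t := 5) (by decide) (by decide +kernel)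
        (by rw [Perm.mem_alternatingGroup]; decide +kernel) h2
      have hm := Subgroup.mul_mem _ m1 m2
      rw [← map_mul, show c3 6 7 8 * d1 * (c3 6 7 8)⁻¹ * (c3 6 8 9 * d1 * (c3 6 8 9)⁻¹) = c3 5 6 7 by
        decide +kernel, viaEmbedding_c3 e (by decide) (by decide) (by decide)] at hm
      have hx : X π ρ (e 5) (e 6) (e 7) u = u :=
        hD.mem_of_map (odd_orderOf_c3 (e.injective.ne (by decide)) (e.injective.ne (by decide))
          (e.injective.ne (by decide))) (fixer ρ u) hm
      have hall := hC (e.injective.ne (by decide)) (e.injective.ne (by decide))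
        (e.injective.ne (by decide)) u hx
      refine eq_zero_of_mov_fixed (t := 5) (Z_pow hD e (by decide) d_pow.1 d_mem.1)
        (by simpa using h5) hu ?_
      exact hD.mem_of_map (odd_via e (t := 5) (by decide) d_pow.1) (fixer ρ u)
        (hfixall u hall _ (viaEmbedding_mem_alt e d_mem.1))
    have hZ : ∀ u, Z π ρ e d0 u = u := fun u => sub_eq_zero.1 (hzero _ (sub_mem_mov u))
    refine X_ne_one hD (by omega) hnt (a := e 0) (b := e 1) (c := e 2)
      (e.injective.ne (by decide)) (e.injective.ne (by decide)) (e.injective.ne (by decide))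
      (LinearMap.ext fun u => ?_)
    have hconj : ∀ τ : Perm (Fin 10), τ ∈ alternatingGroup (Fin 10) →
        Perm.viaEmbeddingHom e (τ * d0 * τ⁻¹) ∈ (fixer ρ u).map π := by
      intro τ hτ
      obtain ⟨g, hg⟩ := exists_over hD e hτ
      refine mem_map_fixer hD e (t := 5) (by decide)
        (by rw [conj_pow, d_pow.1, mul_one, mul_inv_cancel])
        (Subgroup.mul_mem _ (Subgroup.mul_mem _ hτ d_mem.1) (Subgroup.inv_mem _ hτ)) ?_
      have := Z_conj_apply hD e (t := 5) (by decide) d_pow.1 d_mem.1 hg (ρ g⁻¹ u)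
      rw [hZ, rho_apply_inv] at this
      exact this.symm
    have hm := Subgroup.mul_mem _
      (hconj (c3 1 2 3) (c3_mem_alt (by decide) (by decide) (by decide)))
      (hconj (c3 1 3 4) (c3_mem_alt (by decide) (by decide) (by decide)))
    rw [← map_mul, show c3 1 2 3 * d0 * (c3 1 2 3)⁻¹ * (c3 1 3 4 * d0 * (c3 1 3 4)⁻¹) = c3 0 1 2 by
      decide +kernel, viaEmbedding_c3 e (by decide) (by decide) (by decide)] at hm
    rw [Module.End.one_apply]
    exact hD.mem_of_map (odd_orderOf_c3 (e.injective.ne (by decide)) (e.injective.ne (by decide))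
      (e.injective.ne (by decide))) (fixer ρ u) hm

end H82.Alt
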