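import Cfsg.Agent.H82.Alt.ThreeBase

/-!
Characteristic three: no faithful representation of a double cover in small dimension.
-/

set_option autoImplicit false
set_option linter.unusedSectionVars false
set_option linter.style.haveILetI false
set_option maxHeartbeats 1000000

open Equiv Module

namespace H82.Alt

universe u v w

variable {k : Type u} [Field k] [IsAlgClosed k] {V : Type v} [AddCommGroup V] [Module k V]
  [FiniteDimensional k V]
variable {G : Type w} [Group G] {r : ℕ} {π : G →* Perm (Fin r)} {ρ : G →* Module.End k V}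

/-- A seven-cycle. -/
def s7 : Perm (Fin 9) := c3 0 1 2 * c3 2 3 4 * c3 4 5 6

/-- An element of its normaliser. -/
def t7 : Perm (Fin 9) := swap 1 3 * swap 3 2 * (swap 2 6 * swap 6 4) * (swap 4 5 * swap 7 8)

theorem p7_mem : s7 ∈ alternatingGroup (Fin 9) ∧ t7 ∈ alternatingGroup (Fin 9) := by
  simp only [Perm.mem_alternatingGroup]; decide +kernel

theorem p7_pow : s7 ^ 7 = 1 := by decide +kernel

theorem ne_one_of_seven (hD : Datum π ρ) (e : Fin 9 ↪ Fin r) (hr : 5 ≤ r)
    (hnt : ∃ a b c, a ≠ b ∧ a ≠ c ∧ b ≠ c ∧ ρ (L π (c3 a b c)) ≠ 1) : Z π ρ e s7 ≠ 1 := by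
  intro hS1
  refine X_ne_one hD hr hnt (a := e 0) (b := e 1) (c := e 3) (e.injective.ne (by decide))
    (e.injective.ne (by decide)) (e.injective.ne (by decide)) (LinearMap.ext fun v => ?_)
  obtain ⟨g, hg⟩ := exists_over hD e (τ := c3 1 2 3) (c3_mem_alt (by decide) (by decide) (by decide))
  have h1 : Z π ρ e (c3 1 2 3 * s7 * (c3 1 2 3)⁻¹) v = v := by
    have := Z_conj_apply hD e (t := 7) (by decide) p7_pow p7_mem.1 hg (ρ g⁻¹ v)
    rw [hS1, Module.End.one_apply, rho_apply_inv] at this
    exact this.symm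
  have hm1 := mem_map_fixer hD e (t := 7) (by decide) p7_pow p7_mem.1
    (v := v) (by rw [hS1, Module.End.one_apply])
  have hm2 := mem_map_fixer hD e (t := 7) (σ := c3 1 2 3 * s7 * (c3 1 2 3)⁻¹) (by decide)
    (by decide +kernel) (by rw [Perm.mem_alternatingGroup]; decide +kernel) h1
  have hm := Subgroup.mul_mem _ (Subgroup.inv_mem _ hm1) hm2
  rw [← map_inv, ← map_mul, show s7⁻¹ * (c3 1 2 3 * s7 * (c3 1 2 3)⁻¹) = c3 0 1 3 by decide +kernel]
    at hm
  have := hD.mem_of_map (odd_via e (t := 3) (by decide) (by decide +kernel)) (fixer ρ v) hm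
  rw [viaEmbedding_c3 e (by decide) (by decide) (by decide)] at this
  rw [Module.End.one_apply, X_def]
  exact this

/-- A seven-cycle needs six dimensions. -/
theorem six_le_finrank (hD : Datum π ρ) (e : Fin 9 ↪ Fin r) (hr : 5 ≤ r) (h7 : (7 : k) ≠ 0)
    (hnt : ∃ a b c, a ≠ b ∧ a ≠ c ∧ b ≠ c ∧ ρ (L π (c3 a b c)) ≠ 1) : 6 ≤ finrank k V := by
  set S := Z π ρ e s7 with hS
  have h7' : ((7 : ℕ) : k) ≠ 0 := by simpa using h7
  have hS7 : S ^ 7 = 1 := Z_pow hD e (by decide) p7_pow p7_mem.1
  obtain ⟨l, hl, u, hu, hu0⟩ : ∃ l, l ≠ 1 ∧ ∃ u ∈ S.eigenspace l, u ≠ 0 := by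
    by_contra hcon
    push Not at hcon
    exact ne_one_of_seven hD e hr hnt (eq_one_of_eig hS7 h7' fun μ hμ => by
      rw [Submodule.eq_bot_iff]; exact hcon μ hμ)
  have hl7 : l ^ 7 = 1 := eig_pow_eq_one hS7 ((Submodule.ne_bot_iff _).2 ⟨u, hu, hu0⟩)
  haveI : Fact (Nat.Prime 7) := ⟨by norm_num⟩
  have hprim : IsPrimitiveRoot l 7 := IsPrimitiveRoot.iff_orderOf.2 (orderOf_eq_prime hl7 hl)
  obtain ⟨g, hg⟩ := exists_over hD e p7_mem.2
  let f : ℕ → k := fun i => l ^ (5 ^ i % 7)
  have hne : ∀ i : ℕ, S.eigenspace (f i) ≠ ⊥ := by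
    intro i
    induction i with
    | zero =>
      refine (Submodule.ne_bot_iff _).2 ⟨u, ?_, hu0⟩
      simpa [f] using hu
    | succ i ih =>
      obtain ⟨w, hw, hw0⟩ := (Submodule.ne_bot_iff _).1 ih
      rw [Module.End.mem_eigenspace_iff] at hw
      refine (Submodule.ne_bot_iff _).2 ⟨ρ g w, ?_, fun h => hw0 (by
        rw [← rho_inv_apply ρ g w, h, map_zero])⟩
      rw [Module.End.mem_eigenspace_iff, eig_move hD e (t := 7) (σ' := s7) (by decide) p7_pow
        p7_mem.1 hg 5 (by decide +kernel) hw]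
      congr 1
      simp only [f]
      rw [← pow_mul, pow_eq_pow_mod _ hl7, pow_succ, Nat.mod_mul_mod]
  have hinj : Function.Injective fun i : Fin 6 => f i := by
    intro i j h
    have := hprim.pow_inj (Nat.mod_lt _ (by norm_num)) (Nat.mod_lt _ (by norm_num)) h
    revert this
    fin_cases i <;> fin_cases j <;> decide
  have := card_le_finrank (fun i : Fin 6 => S.eigenspace (f i))
    ((Module.End.eigenspaces_iSupIndep S).comp hinj) Finset.univ (fun i _ => hne i)
  simpa using this

/-- In degree nine the spin dimension is a multiple of four. -/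
theorem four_dvd (hD : Datum π ρ) (hr : 9 ≤ r) (h2 : (2 : k) ≠ 0)
    (hs : ∀ g, IsDT (π g) → ρ g * ρ g = -1) : 4 ∣ finrank k V := by
  obtain ⟨c, hc⟩ := IsAlgClosed.exists_pow_nat_eq (-1 : k) (n := 2) (by norm_num)
  have hc0 : c ≠ 0 := fun h => by simp [h] at hc
  let e : Fin 9 ↪ Fin r := Fin.castLEEmb hr
  have hne : ∀ {i j : Fin 9}, i ≠ j → e i ≠ e j := fun h => e.injective.ne h
  have q0 : [e 0, e 1, e 2, e 3].Nodup := by
    have : [e 0, e 1, e 2, e 3] = ([0, 1, 2, 3] : List (Fin 9)).map e := rfl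
    rw [this]; exact (by decide : ([0, 1, 2, 3] : List (Fin 9)).Nodup).map e.injective
  have q1 : [e 0, e 2, e 1, e 3].Nodup := by
    have : [e 0, e 2, e 1, e 3] = ([0, 2, 1, 3] : List (Fin 9)).map e := rfl
    rw [this]; exact (by decide : ([0, 2, 1, 3] : List (Fin 9)).Nodup).map e.injective
  have q2 : [e 4, e 5, e 6, e 7].Nodup := by
    have : [e 4, e 5, e 6, e 7] = ([4, 5, 6, 7] : List (Fin 9)).map e := rfl
    rw [this]; exact (by decide : ([4, 5, 6, 7] : List (Fin 9)).Nodup).map e.injective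
  have q3 : [e 4, e 6, e 5, e 7].Nodup := by
    have : [e 4, e 6, e 5, e 7] = ([4, 6, 5, 7] : List (Fin 9)).map e := rfl
    rw [this]; exact (by decide : ([4, 6, 5, 7] : List (Fin 9)).Nodup).map e.injective
  have hsq : ∀ {a b c' d}, [a, b, c', d].Nodup →
      J π ρ a b c' d * J π ρ a b c' d = (c * c) • (1 : Module.End k V) := by
    intro a b c' d h
    rw [J_eq, hs _ (isDT_jel hD h), ← pow_two, hc, neg_smul, one_smul]
  -- anticommutation inside one block
  have hanti : ∀ {a b c' d : Fin r}, [a, b, c', d].Nodup → [a, c', b, d].Nodup →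
      ∀ v, J π ρ a b c' d (J π ρ a c' b d v) = -(J π ρ a c' b d (J π ρ a b c' d v)) := by
    intro a b c' d h h'
    have hP : IsDT (π (jel π a b c' d * jel π a c' b d)) := by
      rw [map_mul, map_jel hD h, map_jel hD h']
      simp only [List.nodup_cons, List.mem_cons, List.not_mem_nil, or_false, not_or, List.nodup_nil,
        and_true, not_false_eq_true] at h
      refine ⟨a, d, b, c', by simp; grind, ?_⟩
      ext x; simp only [Perm.mul_apply, swap_apply_def]; grind
    have e1 := hs _ hP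
    have e2 := hs _ (isDT_jel hD h)
    have e3 := hs _ (isDT_jel hD h')
    rw [map_mul, ← J_eq, ← J_eq] at e1
    rw [← J_eq] at e2 e3
    set A := J π ρ a b c' d
    set B := J π ρ a c' b d
    intro v
    have f1 : A * B * (A * B) * (B * A) = -(B * A) := by rw [e1, neg_one_mul]
    have f2 : A * B * (A * B) * (B * A) = A * B := by
      calc A * B * (A * B) * (B * A) = A * B * (A * (B * B) * A) := by noncomm_ring
        _ = A * B * (-(A * A)) := by rw [e3]; simp
        _ = A * B := by rw [e2]; simp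
    exact LinearMap.congr_fun (f2.symm.trans f1) v
  set A := J π ρ (e 0) (e 1) (e 2) (e 3)
  set B := J π ρ (e 0) (e 2) (e 1) (e 3)
  set A' := J π ρ (e 4) (e 5) (e 6) (e 7)
  set B' := J π ρ (e 4) (e 6) (e 5) (e 7)
  have hX : ∀ {i j l i' j' l' : Fin 9}, i ≠ j → i ≠ l → j ≠ l → i' ≠ j' → i' ≠ l' → j' ≠ l' →
      i' ∉ [i, j, l] → j' ∉ [i, j, l] → l' ∉ [i, j, l] →
      Commute (X π ρ (e i) (e j) (e l)) (X π ρ (e i') (e j') (e l')) := by
    intro i j l i' j' l' h1 h2 h3 h4 h5 h6 h7 h8 h9
    refine commute_X hD (hne h1) (hne h2) (hne h3) (hne h4) (hne h5) (hne h6) ?_ ?_ ?_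
    all_goals
      simp only [List.mem_cons, List.not_mem_nil, or_false, not_or] at h7 h8 h9 ⊢
      simp only [e.injective.eq_iff]
      assumption
  have cAA' : Commute A A' :=
    ((hX (i := 0) (j := 1) (l := 2) (i' := 4) (j' := 5) (l' := 6) (by decide) (by decide) (by decide)
        (by decide) (by decide) (by decide) (by decide) (by decide) (by decide)).mul_right
      (hX (i := 0) (j := 1) (l := 2) (i' := 5) (j' := 6) (l' := 7) (by decide) (by decide) (by decide)
        (by decide) (by decide) (by decide) (by decide) (by decide) (by decide))).mul_left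
    ((hX (i := 1) (j := 2) (l := 3) (i' := 4) (j' := 5) (l' := 6) (by decide) (by decide) (by decide)
        (by decide) (by decide) (by decide) (by decide) (by decide) (by decide)).mul_right
      (hX (i := 1) (j := 2) (l := 3) (i' := 5) (j' := 6) (l' := 7) (by decide) (by decide) (by decide)
        (by decide) (by decide) (by decide) (by decide) (by decide) (by decide)))
  have cAB' : Commute A B' :=
    ((hX (i := 0) (j := 1) (l := 2) (i' := 4) (j' := 6) (l' := 5) (by decide) (by decide) (by decide)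
        (by decide) (by decide) (by decide) (by decide) (by decide) (by decide)).mul_right
      (hX (i := 0) (j := 1) (l := 2) (i' := 6) (j' := 5) (l' := 7) (by decide) (by decide) (by decide)
        (by decide) (by decide) (by decide) (by decide) (by decide) (by decide))).mul_left
    ((hX (i := 1) (j := 2) (l := 3) (i' := 4) (j' := 6) (l' := 5) (by decide) (by decide) (by decide)
        (by decide) (by decide) (by decide) (by decide) (by decide) (by decide)).mul_right
      (hX (i := 1) (j := 2) (l := 3) (i' := 6) (j' := 5) (l' := 7) (by decide) (by decide) (by decide)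
        (by decide) (by decide) (by decide) (by decide) (by decide) (by decide)))
  -- halving
  have h1 := split_finrank h2 hc0 (hsq q0) (W := (⊤ : Submodule k V)) (fun _ _ => Submodule.mem_top)
  have htop : ∀ E : Submodule k V, finrank k (⊤ ⊓ E : Submodule k V) = finrank k E := fun E => by
    rw [top_inf_eq]
  rw [htop, htop, finrank_top] at h1
  have hBswap : ∀ d : k, ∀ v ∈ A.eigenspace d, B v ∈ A.eigenspace (-d) := by
    intro d v hv
    rw [Module.End.mem_eigenspace_iff] at hv ⊢
    rw [hanti q0 q1, hv, map_smul, neg_smul]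
  have ha : finrank k (A.eigenspace c) = finrank k (A.eigenspace (-c)) := by
    refine le_antisymm (finrank_le_of_maps (ρ := ρ) (jel π (e 0) (e 2) (e 1) (e 3)) fun v hv => ?_)
      (finrank_le_of_maps (ρ := ρ) (jel π (e 0) (e 2) (e 1) (e 3)) fun v hv => ?_)
    · rw [← J_eq]; exact hBswap c v hv
    · rw [← J_eq]; simpa using hBswap (-c) v hv
  have hW : ∀ v ∈ A.eigenspace c, A' v ∈ A.eigenspace c := fun v hv =>
    Module.End.mapsTo_genEigenspace_of_comm cAA' c 1 hv
  have h4 := split_finrank h2 hc0 (hsq q2) hW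
  have hb : finrank k (A.eigenspace c ⊓ A'.eigenspace c : Submodule k V) =
      finrank k (A.eigenspace c ⊓ A'.eigenspace (-c) : Submodule k V) := by
    have hmap : ∀ d : k, ∀ v ∈ (A.eigenspace c ⊓ A'.eigenspace d : Submodule k V),
        B' v ∈ (A.eigenspace c ⊓ A'.eigenspace (-d) : Submodule k V) := by
      intro d v hv
      rw [Submodule.mem_inf] at hv ⊢
      refine ⟨Module.End.mapsTo_genEigenspace_of_comm cAB' c 1 hv.1, ?_⟩
      have hv2 := hv.2
      rw [Module.End.mem_eigenspace_iff] at hv2 ⊢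
      rw [hanti q2 q3, hv2, map_smul, neg_smul]
    refine le_antisymm (finrank_le_of_maps (ρ := ρ) (jel π (e 4) (e 6) (e 5) (e 7)) fun v hv => ?_)
      (finrank_le_of_maps (ρ := ρ) (jel π (e 4) (e 6) (e 5) (e 7)) fun v hv => ?_)
    · rw [← J_eq]; exact hmap c v hv
    · rw [← J_eq]; simpa using hmap (-c) v hv
  refine ⟨finrank k (A.eigenspace c ⊓ A'.eigenspace c : Submodule k V), ?_⟩
  have key : ∀ n a b f g : ℕ, a + b = n → a = b → f + g = a → f = g → n = 4 * f :=
    fun n a b f g _ _ _ _ => by omega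
  exact key _ _ _ _ _ h1 ha h4 hb

theorem d0_eq : d0 = c3 0 1 2 * c3 2 3 4 := by decide +kernel

theorem d1_eq : d1 = c3 5 6 7 * c3 7 8 9 := by decide +kernel

/-- No spin in small dimension. -/
theorem J_sq_one (hD : Datum π ρ) (hr : 9 ≤ r) (h3 : (3 : k) = 0)
    (hIH : 14 ≤ r → Main.{u, v, w} k (r - 5)) (hn : finrank k V ≤ r - 2)
    (hnt : ∃ a b c, a ≠ b ∧ a ≠ c ∧ b ≠ c ∧ ρ (L π (c3 a b c)) ≠ 1) {g : G} (hg : IsDT (π g)) :
    ρ g * ρ g = 1 := by
  have h2 : (2 : k) ≠ 0 := fun h => one_ne_zero (α := k) (by linear_combination h3 - h)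
  have h5 : (5 : k) ≠ 0 := fun h => one_ne_zero (α := k) (by linear_combination 2 * h3 - h)
  have h7 : (7 : k) ≠ 0 := fun h => one_ne_zero (α := k) (by linear_combination h - 2 * h3)
  refine (dt_sgn hD hg).resolve_right fun hm => ?_
  have hs : ∀ g', IsDT (π g') → ρ g' * ρ g' = -1 := fun g' hg' => by
    rw [← hm]; exact dt_sq hD (by omega) hg' hg
  by_cases h9 : r = 9
  · obtain ⟨t, ht⟩ := four_dvd hD hr h2 hs
    have := six_le_finrank hD (Fin.castLEEmb hr) (by omega) h7 hnt
    omega
  have hr10 : 10 ≤ r := by omega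
  -- the commutator space of a five-cycle is fixed by a disjoint one
  have hfive : ∀ e : Fin 10 ↪ Fin r, ∀ v ∈ mov (Z π ρ e d0), Z π ρ e d1 v = v := by
    intro e v hv
    have h5' : ((5 : ℕ) : k) ≠ 0 := by simpa using h5
    by_cases h14 : 14 ≤ r
    swap
    · exact five_fix hD e h5 (by clear * - h14 hn; omega) hv
    refine fix_mov (t := 5) (Z_pow hD e (by decide) d_pow.1 d_mem.1) h5' _ (fun μ hμ w hw => ?_) hv
    by_cases hbot : (Z π ρ e d0).eigenspace μ = ⊥
    · rw [hbot, Submodule.mem_bot] at hw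
      rw [hw, map_zero]
    obtain ⟨e', he'⟩ := exists_compl_emb ({e 0, e 1, e 2, e 3, e 4} : Finset (Fin r)) (m := r - 5) (by
      rw [show ({e 0, e 1, e 2, e 3, e 4} : Finset (Fin r)) =
        ({0, 1, 2, 3, 4} : Finset (Fin 10)).map e by simp, Finset.card_map]
      have h5c : ({0, 1, 2, 3, 4} : Finset (Fin 10)).card = 5 := by decide
      rw [h5c]; omega)
    have hout : ∀ i : Fin 10, i ∈ ([5, 6, 7, 8, 9] : List (Fin 10)) → e i ∈ Set.range e' := by
      intro i hi
      rw [he']
      simp only [Finset.coe_insert, Finset.coe_singleton, Set.mem_compl_iff, Set.mem_insert_iff,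
        Set.mem_singleton_iff, e.injective.eq_iff]
      revert i; decide
    have hin : ∀ i : Fin 10, i ∈ ([0, 1, 2, 3, 4] : List (Fin 10)) → e i ∉ Set.range e' := by
      intro i hi
      rw [he']
      simp only [Finset.coe_insert, Finset.coe_singleton, Set.mem_compl_iff, Set.mem_insert_iff,
        Set.mem_singleton_iff, e.injective.eq_iff, not_not]
      revert i; decide
    have hinv : ∀ g ∈ overSub π e', ∀ u ∈ (Z π ρ e d0).eigenspace μ,
        ρ g u ∈ (Z π ρ e d0).eigenspace μ := by
      intro g hg u hu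
      rw [Module.End.mem_eigenspace_iff] at hu ⊢
      have hfix : ∀ i : Fin 10, i ∈ ([0, 1, 2, 3, 4] : List (Fin 10)) → π g (e i) = e i :=
        fun i hi => over_fix hg (hin i hi)
      have hc : Commute (π g) (Perm.viaEmbeddingHom e d0) := by
        show π g * _ = _ * π g
        rw [← mul_inv_eq_iff_eq_mul, d0_eq, map_mul,
          viaEmbedding_c3 e (by decide) (by decide) (by decide),
          viaEmbedding_c3 e (by decide) (by decide) (by decide),
          show π g * (c3 (e 0) (e 1) (e 2) * c3 (e 2) (e 3) (e 4)) * (π g)⁻¹ =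
            π g * c3 (e 0) (e 1) (e 2) * (π g)⁻¹ * (π g * c3 (e 2) (e 3) (e 4) * (π g)⁻¹) by group,
          conj_c3, conj_c3, hfix 0 (by decide), hfix 1 (by decide), hfix 2 (by decide),
          hfix 3 (by decide), hfix 4 (by decide)]
      have := (hD.commute_L (odd_via e (t := 5) (by decide) d_pow.1)
        (viaEmbedding_mem_alt e d_mem.1) hc).map ρ
      rw [Z_def] at hu ⊢
      rw [← Module.End.mul_apply, ← this.eq, Module.End.mul_apply, hu, map_smul]
    have hdim : finrank k ((Z π ρ e d0).eigenspace μ) < r - 5 - 2 := by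
      obtain ⟨g, hg⟩ := exists_over hD e (τ := swap 1 4 * swap 2 3)
        (by rw [Perm.mem_alternatingGroup]; decide +kernel)
      have hle : finrank k ((Z π ρ e d0).eigenspace μ) ≤
          finrank k ((Z π ρ e d0).eigenspace (μ ^ 4)) := finrank_le_of_maps (ρ := ρ) g fun u hu => by
        rw [Module.End.mem_eigenspace_iff] at hu ⊢
        exact eig_move hD e (t := 5) (by decide) d_pow.1 d_mem.1 hg 4 (by decide +kernel) hu
      have hμ5 := eig_pow_eq_one (Z_pow hD e (by decide) d_pow.1 d_mem.1) hbot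
      haveI : Fact (Nat.Prime 5) := ⟨Nat.prime_five⟩
      have hprim : IsPrimitiveRoot μ 5 := IsPrimitiveRoot.iff_orderOf.2 (orderOf_eq_prime hμ5 hμ)
      have hne : μ ≠ μ ^ 4 := fun h => by
        have := hprim.pow_inj (i := 1) (j := 4) (by norm_num) (by norm_num) (by rw [pow_one]; exact h)
        omega
      have hd : Disjoint ((Z π ρ e d0).eigenspace μ) ((Z π ρ e d0).eigenspace (μ ^ 4)) :=
        Module.End.disjoint_genEigenspace _ hne 1 1
      have h' := Submodule.finrank_sup_add_finrank_inf_eq ((Z π ρ e d0).eigenspace μ)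
        ((Z π ρ e d0).eigenspace (μ ^ 4))
      rw [hd.eq_bot, finrank_bot, add_zero] at h'
      have hle2 := Submodule.finrank_le ((Z π ρ e d0).eigenspace μ ⊔ (Z π ρ e d0).eigenspace (μ ^ 4))
      have key : ∀ A B C N R : ℕ, A ≤ B → C = A + B → C ≤ N → N ≤ R - 2 → 14 ≤ R → A < R - 5 - 2 :=
        fun A B C N R h1 h2 h3 h4 h5 => by omega
      exact key _ _ _ _ _ hle h' hle2 hn h14
    have hX : ∀ a b c : Fin 10, a ≠ b → a ≠ c → b ≠ c → a ∈ ([5, 6, 7, 8, 9] : List (Fin 10)) →
        b ∈ ([5, 6, 7, 8, 9] : List (Fin 10)) → c ∈ ([5, 6, 7, 8, 9] : List (Fin 10)) →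
        Perm.viaEmbeddingHom e (c3 a b c) ∈ (fixer ρ w).map π := by
      intro a b c ab ac bc ha hb hc
      rw [viaEmbedding_c3 e ab ac bc]
      exact ⟨_, small_trivial hD (hIH h14) e' _ hinv hdim (e.injective.ne ab) (e.injective.ne ac)
        (e.injective.ne bc) (hout a ha) (hout b hb) (hout c hc) hw,
        map_L_c3 hD (e.injective.ne ab) (e.injective.ne ac) (e.injective.ne bc)⟩
    have hm := Subgroup.mul_mem _
      (hX 5 6 7 (by decide) (by decide) (by decide) (by decide) (by decide) (by decide))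
      (hX 7 8 9 (by decide) (by decide) (by decide) (by decide) (by decide) (by decide))
    rw [← map_mul, ← d1_eq] at hm
    exact hD.mem_of_map (odd_via e (t := 5) (by decide) d_pow.2) (fixer ρ w) hm
  -- so a three-cycle of the complement fixes it
  have hthree : ∀ e : Fin 10 ↪ Fin r, ∀ v ∈ mov (Z π ρ e d0), X π ρ (e 5) (e 6) (e 7) v = v := by
    intro e v hv
    have hz : ∀ (τ σ : Perm (Fin 10)),
        Z π ρ (τ.toEmbedding.trans e) σ = Z π ρ e (τ * σ * τ⁻¹) :=
      fun τ σ => by rw [Z_def, Z_def, via_comp]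
    have h1 : Z π ρ e (c3 6 7 8 * d1 * (c3 6 7 8)⁻¹) v = v := by
      have := hfive ((c3 (6 : Fin 10) 7 8).toEmbedding.trans e) v (by
        rw [hz, show c3 (6 : Fin 10) 7 8 * d0 * (c3 6 7 8)⁻¹ = d0 by decide +kernel]; exact hv)
      rwa [hz] at this
    have h2' : Z π ρ e (c3 6 8 9 * d1 * (c3 6 8 9)⁻¹) v = v := by
      have := hfive ((c3 (6 : Fin 10) 8 9).toEmbedding.trans e) v (by
        rw [hz, show c3 (6 : Fin 10) 8 9 * d0 * (c3 6 8 9)⁻¹ = d0 by decide +kernel]; exact hv)
      rwa [hz] at this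
    have m1 := mem_map_fixer hD e (t := 5) (by decide) (by decide +kernel)
      (by rw [Perm.mem_alternatingGroup]; decide +kernel) h1
    have m2 := mem_map_fixer hD e (t := 5) (by decide) (by decide +kernel)
      (by rw [Perm.mem_alternatingGroup]; decide +kernel) h2'
    have hm := Subgroup.mul_mem _ m1 m2
    rw [← map_mul, show c3 6 7 8 * d1 * (c3 6 7 8)⁻¹ * (c3 6 8 9 * d1 * (c3 6 8 9)⁻¹) = c3 5 6 7 by
      decide +kernel, viaEmbedding_c3 e (by decide) (by decide) (by decide)] at hm
    exact hD.mem_of_map (odd_orderOf_c3 (e.injective.ne (by decide)) (e.injective.ne (by decide))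
      (e.injective.ne (by decide))) (fixer ρ v) hm
  let e : Fin 10 ↪ Fin r := Fin.castLEEmb hr10
  have hZ1 : ∀ v, Z π ρ e d0 v = v := by
    intro v
    have hu : Z π ρ e d0 v - v ∈ mov (Z π ρ e d0) := sub_mem_mov v
    set u := Z π ρ e d0 v - v
    set τ : Perm (Fin 10) := swap 5 6 * swap 6 7 * swap 7 8
    have hz : Z π ρ (τ.toEmbedding.trans e) d0 = Z π ρ e d0 := by
      rw [Z_def, Z_def, via_comp, show τ * d0 * τ⁻¹ = d0 by decide +kernel]
    have x1 := hthree e u hu
    have x2 := hthree (τ.toEmbedding.trans e) u (by rw [hz]; exact hu)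
    have e5 : (τ.toEmbedding.trans e) 5 = e 6 := congrArg e (show τ 5 = 6 by decide +kernel)
    have e6 : (τ.toEmbedding.trans e) 6 = e 7 := congrArg e (show τ 6 = 7 by decide +kernel)
    have e7 : (τ.toEmbedding.trans e) 7 = e 8 := congrArg e (show τ 7 = 8 by decide +kernel)
    rw [e5, e6, e7] at x2
    have hq : [e 5, e 6, e 7, e 8].Nodup := by
      have : [e 5, e 6, e 7, e 8] = ([5, 6, 7, 8] : List (Fin 10)).map e := rfl
      rw [this]; exact (by decide : ([5, 6, 7, 8] : List (Fin 10)).Nodup).map e.injective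
    have hJ : J π ρ (e 5) (e 6) (e 7) (e 8) u = u := by
      rw [J, Module.End.mul_apply, x2, x1]
    have h0 := hs _ (isDT_jel hD hq)
    rw [← J_eq] at h0
    have h1 := LinearMap.congr_fun h0 u
    rw [Module.End.mul_apply, hJ, hJ, LinearMap.neg_apply, Module.End.one_apply, eq_neg_iff_add_eq_zero,
      ← two_smul k u, smul_eq_zero] at h1
    exact sub_eq_zero.1 (h1.resolve_left h2)
  refine X_ne_one hD (by omega) hnt (a := e 0) (b := e 1) (c := e 2)
    (e.injective.ne (by decide)) (e.injective.ne (by decide)) (e.injective.ne (by decide))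
    (LinearMap.ext fun u => ?_)
  have hconj : ∀ τ : Perm (Fin 10), τ ∈ alternatingGroup (Fin 10) →
      Perm.viaEmbeddingHom e (τ * d0 * τ⁻¹) ∈ (fixer ρ u).map π := by
    intro τ hτ
    obtain ⟨g, hg⟩ := exists_over hD e hτ
    refine mem_map_fixer hD e (t := 5) (by decide)
      (by rw [conj_pow, d_pow.1, mul_one, mul_inv_cancel])
      (Subgroup.mul_mem _ (Subgroup.mul_mem _ hτ d_mem.1) (Subgroup.inv_mem _ hτ)) ?_
    have := Z_conj_apply hD e (t := 5) (by decide) d_pow.1 d_mem.1 hg (ρ g⁻¹ u)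
    rw [hZ1, rho_apply_inv] at this
    exact this.symm
  have hm := Subgroup.mul_mem _
    (hconj (c3 1 2 3) (c3_mem_alt (by decide) (by decide) (by decide)))
    (hconj (c3 1 3 4) (c3_mem_alt (by decide) (by decide) (by decide)))
  rw [← map_mul, show c3 1 2 3 * d0 * (c3 1 2 3)⁻¹ * (c3 1 3 4 * d0 * (c3 1 3 4)⁻¹) = c3 0 1 2 by
    decide +kernel, viaEmbedding_c3 e (by decide) (by decide) (by decide)] at hm
  rw [Module.End.one_apply]
  exact hD.mem_of_map (odd_orderOf_c3 (e.injective.ne (by decide)) (e.injective.ne (by decide))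
    (e.injective.ne (by decide))) (fixer ρ u) hm

end H82.Alt
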