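import Cfsg.Agent.H82.Alt.Quad
import Cfsg.Agent.H82.Alt.Spin

/-!
Characteristic three: the lines of the pairs.
-/

set_option autoImplicit false
set_option linter.unusedSectionVars false
set_option linter.style.haveILetI false
set_option maxHeartbeats 6000000
set_option linter.unusedSimpArgs false

open Equiv Module

namespace H82.Alt

universe u v w

variable {k : Type u} [Field k] {V : Type v} [AddCommGroup V] [Module k V] [FiniteDimensional k V]
variable {G : Type w} [Group G] {r : ℕ} {π : G →* Perm (Fin r)} {ρ : G →* Module.End k V}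

section

variable (hD : Datum π ρ) (hL : Lin π ρ)
include hD hL

theorem E_finrank_eq (hr : 6 ≤ r) {a b c d a' b' c' d' : Fin r} (h : [a, b, c, d].Nodup)
    (h' : [a', b', c', d'].Nodup) :
    finrank k (E π ρ a b c d) = finrank k (E π ρ a' b' c' d') := by
  have key : ∀ {a b c d a' b' c' d' : Fin r}, [a, b, c, d].Nodup → [a', b', c', d'].Nodup →
      finrank k (E π ρ a b c d) ≤ finrank k (E π ρ a' b' c' d') := by
    intro a b c d a' b' c' d' h h'
    obtain ⟨σ, hσA, hσ⟩ := exists_alt_ext
      (⟨[a, b, c, d].get, List.nodup_iff_injective_get.1 h⟩ : Fin 4 ↪ Fin r)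
      ⟨[a', b', c', d'].get, List.nodup_iff_injective_get.1 h'⟩ (by omega)
    obtain ⟨g, hg⟩ := hD.surj σ hσA
    refine finrank_le_of_maps (ρ := ρ) g fun v hv => ?_
    have := E_map hD hL h (g := g) hv
    rwa [hg, show σ a = a' from hσ 0, show σ b = b' from hσ 1, show σ c = c' from hσ 2,
      show σ d = d' from hσ 3] at this
  exact le_antisymm (key h h') (key h' h)

variable {a b c d : Fin r} (h : [a, b, c, d].Nodup)
include h

theorem top_pieces (hr : 6 ≤ r) (h2 : (2 : k) ≠ 0) :
    finrank k V = finrank k (C0 π ρ a b c d) + 3 * finrank k (E π ρ a b c d) ∧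
      ∀ v : V, v ∈ C0 π ρ a b c d ⊔ E π ρ a b c d ⊔ E π ρ a c d b ⊔ E π ρ a d b c := by
  obtain ⟨h1, h2'⟩ := pieces hD hL h h2 (W := (⊤ : Submodule k V)) (fun _ _ => Submodule.mem_top)
    (fun _ _ => Submodule.mem_top)
  have htop : ∀ P : Submodule k V, finrank k (⊤ ⊓ P : Submodule k V) = finrank k P := fun P => by
    rw [top_inf_eq]
  rw [htop, htop, htop, htop, finrank_top, ← E_finrank_eq hD hL hr h (nodup_rot h),
    ← E_finrank_eq hD hL hr h (nodup_rot (nodup_rot h))] at h1
  refine ⟨by omega, fun v => ?_⟩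
  have := h2' (Submodule.mem_top : v ∈ (⊤ : Submodule k V))
  simpa only [top_inf_eq] using this

theorem finrank_mov_J (hr : 6 ≤ r) (h2 : (2 : k) ≠ 0) :
    finrank k (mov (J π ρ a b c d)) = 2 * finrank k (E π ρ a b c d) := by
  have hA := J_sq hD hL h
  have hinvA : ∀ v ∈ mov (J π ρ a b c d), J π ρ a b c d v ∈ mov (J π ρ a b c d) :=
    fun v hv => mov_mapsTo (Commute.refl _) hv
  have hinvB : ∀ v ∈ mov (J π ρ a b c d), J π ρ a c d b v ∈ mov (J π ρ a b c d) :=
    fun v hv => mov_mapsTo (J_triple hD hL h).1.symm hv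
  obtain ⟨h1, -⟩ := pieces hD hL h h2 hinvA hinvB
  have hneg : ∀ v ∈ mov (J π ρ a b c d), J π ρ a b c d v = -v := fun v hv => by
    rw [mov_involution h2 hA, Module.End.mem_eigenspace_iff] at hv
    simpa using hv
  have hzero : ∀ v : V, J π ρ a b c d v = v → v ∈ mov (J π ρ a b c d) → v = 0 := fun v hv hm => by
    have := hneg v hm
    rw [hv, eq_neg_iff_add_eq_zero, ← two_smul k v, smul_eq_zero] at this
    exact this.resolve_left h2
  have e0 : mov (J π ρ a b c d) ⊓ C0 π ρ a b c d = ⊥ := by
    rw [Submodule.eq_bot_iff]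
    exact fun v hv => hzero v (mem_C0.1 hv.2).1 hv.1
  have e1 : mov (J π ρ a b c d) ⊓ E π ρ a b c d = ⊥ := by
    rw [Submodule.eq_bot_iff]
    exact fun v hv => hzero v (mem_E.1 hv.2).1 hv.1
  have e2 : mov (J π ρ a b c d) ⊓ E π ρ a c d b = E π ρ a c d b := inf_eq_right.2 fun v hv => by
    rw [mov_involution h2 hA, Module.End.mem_eigenspace_iff, E_third hD hL (nodup_rot h) hv]
    simp
  have e3 : mov (J π ρ a b c d) ⊓ E π ρ a d b c = E π ρ a d b c := inf_eq_right.2 fun v hv => by
    rw [mov_involution h2 hA, Module.End.mem_eigenspace_iff, (mem_E.1 hv).2]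
    simp
  rw [e0, e1, e2, e3, finrank_bot, ← E_finrank_eq hD hL hr h (nodup_rot h),
    ← E_finrank_eq hD hL hr h (nodup_rot (nodup_rot h))] at h1
  omega

theorem inter_map {p q s t : Fin r} (h8 : [a, b, c, d, p, q, s, t].Nodup) :
    finrank k (E π ρ a b c d ⊓ E π ρ p q s t : Submodule k V) ≤
      finrank k (E π ρ a c d b ⊓ E π ρ p q s t : Submodule k V) := by
  have hP : [p, q, s, t].Nodup := by
    simp only [List.nodup_cons, List.mem_cons, List.not_mem_nil, or_false, not_or, List.nodup_nil,
      and_true, not_false_eq_true] at h8 ⊢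
    grind
  simp only [List.nodup_cons, List.mem_cons, List.not_mem_nil, or_false, not_or, List.nodup_nil,
    and_true, not_false_eq_true] at h8
  have ab : a ≠ b := by grind
  have ac : a ≠ c := by grind
  have ad : a ≠ d := by grind
  have bc : b ≠ c := by grind
  have bd : b ≠ d := by grind
  have cd : c ≠ d := by grind
  refine finrank_le_of_maps (ρ := ρ) (L π (c3 b c d)) fun v hv => ?_
  have h1 := E_map hD hL h (g := L π (c3 b c d)) hv.1
  have h2 := E_map hD hL hP (g := L π (c3 b c d)) hv.2
  rw [map_L_c3 hD bc bd cd] at h1 h2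
  rw [c3_of_ne ab ac ad, c3_fst bc bd, c3_snd bd cd, c3_thd] at h1
  rw [c3_of_ne (by grind) (by grind) (by grind), c3_of_ne (by grind) (by grind) (by grind),
    c3_of_ne (by grind) (by grind) (by grind), c3_of_ne (by grind) (by grind) (by grind)] at h2
  exact ⟨h1, h2⟩

theorem E_invariant_X {x y z : Fin r} (xy : x ≠ y) (xz : x ≠ z) (yz : y ≠ z)
    (hx : x ∉ [a, b, c, d]) (hy : y ∉ [a, b, c, d]) (hz : z ∉ [a, b, c, d]) {v : V}
    (hv : v ∈ E π ρ a b c d) : X π ρ x y z v ∈ E π ρ a b c d := by
  simp only [List.mem_cons, List.not_mem_nil, or_false, not_or] at hx hy hz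
  have := E_map hD hL h (g := L π (c3 x y z)) hv
  rwa [map_L_c3 hD xy xz yz, c3_of_ne (by grind) (by grind) (by grind),
    c3_of_ne (by grind) (by grind) (by grind), c3_of_ne (by grind) (by grind) (by grind),
    c3_of_ne (by grind) (by grind) (by grind)] at this

theorem E_invariant_J {p q s t : Fin r} (h8 : [a, b, c, d, p, q, s, t].Nodup) {v : V}
    (hv : v ∈ E π ρ a b c d) : J π ρ p q s t v ∈ E π ρ a b c d := by
  simp only [List.nodup_cons, List.mem_cons, List.not_mem_nil, or_false, not_or, List.nodup_nil,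
    and_true, not_false_eq_true] at h8
  rw [J, Module.End.mul_apply]
  refine E_invariant_X hD hL h ?_ ?_ ?_ ?_ ?_ ?_ (E_invariant_X hD hL h ?_ ?_ ?_ ?_ ?_ ?_ hv)
  all_goals (try simp only [List.mem_cons, List.not_mem_nil, or_false, not_or]); grind

end

variable [IsAlgClosed k]

theorem fix_dim_one [CharP k 3] {W : Submodule k V} {z : Module.End k V} (hz : z ^ 3 = 1)
    (hinv : ∀ w ∈ W, z w ∈ W) (hdim : finrank k W ≤ 1) {w : V} (hw : w ∈ W) : z w = w := by
  haveI : Fact (Nat.Prime 3) := ⟨Nat.prime_three⟩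
  have hpow : ∀ i : ℕ, ∀ x : W, ((z.restrict hinv) ^ i) x = (z ^ i) x.1 := fun i => by
    induction i with
    | zero => intro x; simp
    | succ i ih =>
      intro x
      rw [pow_succ', Module.End.mul_apply, pow_succ', Module.End.mul_apply, ← ih x]
      rfl
  have h1 : z.restrict hinv = 1 := by
    refine eq_one_of_unipotent (p := 3) ?_ hdim
    refine LinearMap.ext fun x => Subtype.ext ?_
    rw [hpow, hz]; rfl
  exact congrArg Subtype.val (LinearMap.congr_fun h1 ⟨w, hw⟩)

/-- The lines of the pairs in characteristic three. -/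
theorem pairLines_three [CharP k 3] (hD : Datum π ρ) (hr : 9 ≤ r) (hL : Lin π ρ)
    (hIH : 13 ≤ r → Main.{u, v, w} k (r - 4)) (hn : finrank k V ≤ r - 2)
    (hnt : ∃ a b c, a ≠ b ∧ a ≠ c ∧ b ≠ c ∧ ρ (L π (c3 a b c)) ≠ 1) :
    Nonempty (PairLines π ρ) := by
  have h3 : (3 : k) = 0 := by exact_mod_cast CharP.cast_eq_zero k 3
  have h2 : (2 : k) ≠ 0 := fun h => one_ne_zero (α := k) (by linear_combination h3 - h)
  have hr6 : 6 ≤ r := by omega
  let A0 : Fin r := ⟨0, by omega⟩
  let A1 : Fin r := ⟨1, by omega⟩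
  let A2 : Fin r := ⟨2, by omega⟩
  let A3 : Fin r := ⟨3, by omega⟩
  let A4 : Fin r := ⟨4, by omega⟩
  let A5 : Fin r := ⟨5, by omega⟩
  let A6 : Fin r := ⟨6, by omega⟩
  let A7 : Fin r := ⟨7, by omega⟩
  have q1 : [A0, A1, A2, A3].Nodup := by simp [A0, A1, A2, A3]
  set e := finrank k (E π ρ A0 A1 A2 A3) with he
  have hE : ∀ {a b c d : Fin r}, [a, b, c, d].Nodup → finrank k (E π ρ a b c d) = e :=
    fun h => E_finrank_eq hD hL hr6 h q1
  -- some vector is not fixed
  have he0 : e ≠ 0 := by
    intro he0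
    have hJ : ∀ {a b c d : Fin r}, [a, b, c, d].Nodup → J π ρ a b c d = 1 := by
      intro a b c d h
      ext v
      have hv := (top_pieces hD hL h hr6 h2).2 v
      rw [Submodule.finrank_eq_zero.1 ((hE h).trans he0),
        Submodule.finrank_eq_zero.1 ((hE (nodup_rot h)).trans he0),
        Submodule.finrank_eq_zero.1 ((hE (nodup_rot (nodup_rot h))).trans he0), sup_bot_eq, sup_bot_eq,
        sup_bot_eq] at hv
      rw [(mem_C0.1 hv).1, Module.End.one_apply]
    have n1 : A0 ≠ A1 := by simp [A0, A1]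
    have n2 : A0 ≠ A2 := by simp [A0, A2]
    have n3 : A1 ≠ A2 := by simp [A1, A2]
    have n4 : A1 ≠ A3 := by simp [A1, A3]
    have n5 : A2 ≠ A3 := by simp [A2, A3]
    have n6 : A1 ≠ A4 := by simp [A1, A4]
    have n7 : A2 ≠ A4 := by simp [A2, A4]
    have j1 := hJ (a := A0) (b := A1) (c := A2) (d := A3) q1
    have j2 := hJ (a := A0) (b := A1) (c := A2) (d := A4) (by simp [A0, A1, A2, A4])
    have j3 := hJ (a := A3) (b := A1) (c := A2) (d := A4) (by simp [A3, A1, A2, A4])
    have hrev : X π ρ A2 A1 A0 * X π ρ A0 A1 A2 = 1 := X_mul_rev hD n3.symm n2.symm n1.symm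
    have e1 : X π ρ A1 A2 A3 = X π ρ A2 A1 A0 := by
      calc X π ρ A1 A2 A3 = X π ρ A2 A1 A0 * J π ρ A0 A1 A2 A3 := by
            rw [J, ← mul_assoc, hrev, one_mul]
        _ = _ := by rw [j1, mul_one]
    have e2 : X π ρ A1 A2 A4 = X π ρ A2 A1 A0 := by
      calc X π ρ A1 A2 A4 = X π ρ A2 A1 A0 * J π ρ A0 A1 A2 A4 := by
            rw [J, ← mul_assoc, hrev, one_mul]
        _ = _ := by rw [j2, mul_one]
    rw [J, X_rot hD n4.symm n5.symm n3, e2, ← e1] at j3
    refine X_ne_one hD (by omega) hnt n3 n4 n5 ?_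
    have hc := X_cube hD n3 n4 n5 (ρ := ρ)
    rwa [pow_succ, pow_two, j3, one_mul] at hc
  -- complementary three-cycles fix the weight spaces
  have hfixX : ∀ {a b c d x y z : Fin r}, [a, b, c, d].Nodup → x ≠ y → x ≠ z → y ≠ z →
      x ∉ [a, b, c, d] → y ∉ [a, b, c, d] → z ∉ [a, b, c, d] →
      ∀ v ∈ E π ρ a b c d, X π ρ x y z v = v := by
    intro a b c d x y z h xy xz yz hx hy hz v hv
    by_cases h13 : 13 ≤ r
    · obtain ⟨e', he'⟩ := exists_compl_emb ({a, b, c, d} : Finset (Fin r)) (m := r - 4) (by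
        have : ({a, b, c, d} : Finset (Fin r)) = [a, b, c, d].toFinset := by simp
        rw [this, List.toFinset_card_of_nodup h]; simp; omega)
      refine small_trivial hD (hIH h13) e' (E π ρ a b c d) ?_ ?_ xy xz yz
        (by rw [he']; simpa using hx) (by rw [he']; simpa using hy) (by rw [he']; simpa using hz) hv
      · intro g hg w hw
        have := E_map hD hL h (g := g) hw
        rwa [over_fix hg (by rw [he']; simp), over_fix hg (by rw [he']; simp),
          over_fix hg (by rw [he']; simp), over_fix hg (by rw [he']; simp)] at this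
      · have h1 := (top_pieces hD hL h hr6 h2).1
        have key : ∀ N C A R : ℕ, N = C + 3 * A → N ≤ R - 2 → 13 ≤ R → A < R - 4 - 2 :=
          fun N C A R h1 h2 h3 => by omega
        exact key _ _ _ _ h1 hn h13
    -- double transpositions of the complement fix the space
    have hfixJ : ∀ p q s t : Fin r, [a, b, c, d, p, q, s, t].Nodup → J π ρ p q s t v = v := by
      intro p q s t h8
      have h8' := h8
      simp only [List.nodup_cons, List.mem_cons, List.not_mem_nil, or_false, not_or, List.nodup_nil,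
        and_true, not_false_eq_true] at h8'
      have hP : [p, q, s, t].Nodup := by simp; grind
      have h8r : [a, b, c, d, p, s, t, q].Nodup := by simp; grind
      have hW1 := fun w (hw : w ∈ E π ρ a b c d) => E_invariant_J hD hL h h8 hw
      have hW2 := fun w (hw : w ∈ E π ρ a b c d) => E_invariant_J hD hL h h8r hw
      obtain ⟨hd, hle⟩ := pieces hD hL hP h2 hW1 hW2
      by_contra hne
      -- the intersections with the rotations have equal dimensions
      set D := finrank k (E π ρ a b c d ⊓ E π ρ p q s t : Submodule k V) with hDdef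
      have hQ : ∀ {a b c d p q s t : Fin r}, [a, b, c, d, p, q, s, t].Nodup →
          finrank k (E π ρ a c d b ⊓ E π ρ p q s t : Submodule k V) =
            finrank k (E π ρ a b c d ⊓ E π ρ p q s t : Submodule k V) := by
        intro a b c d p q s t h8
        have h8'' := h8
        simp only [List.nodup_cons, List.mem_cons, List.not_mem_nil, or_false, not_or, List.nodup_nil,
          and_true, not_false_eq_true] at h8''
        have i1 := inter_map hD hL (a := a) (b := b) (c := c) (d := d) (by simp; grind) h8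
        have i2 := inter_map hD hL (a := a) (b := c) (c := d) (d := b) (p := p) (q := q) (s := s) (t := t)
          (by simp; grind) (by simp; grind)
        have i3 := inter_map hD hL (a := a) (b := d) (c := b) (d := c) (p := p) (q := q) (s := s) (t := t)
          (by simp; grind) (by simp; grind)
        omega
      have hP' : ∀ {a b c d p q s t : Fin r}, [a, b, c, d, p, q, s, t].Nodup →
          finrank k (E π ρ a b c d ⊓ E π ρ p s t q : Submodule k V) =
            finrank k (E π ρ a b c d ⊓ E π ρ p q s t : Submodule k V) := by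
        intro a b c d p q s t h8
        simp only [List.nodup_cons, List.mem_cons, List.not_mem_nil, or_false, not_or, List.nodup_nil,
          and_true, not_false_eq_true] at h8
        rw [inf_comm, inf_comm (E π ρ a b c d)]
        exact hQ (by simp; grind)
      have eP1 := hP' h8
      have eP2 := hP' h8r
      rw [eP1] at eP2
      -- the space is not fixed by the four-group
      have hD1 : 1 ≤ D := by
        by_contra hD0
        have hz0 : D = 0 := by omega
        refine hne ?_
        have hv' := hle hv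
        rw [Submodule.finrank_eq_zero.1 hz0, Submodule.finrank_eq_zero.1 (eP1.trans hz0),
          Submodule.finrank_eq_zero.1 (eP2.trans hz0), sup_bot_eq, sup_bot_eq, sup_bot_eq] at hv'
        exact (mem_C0.1 hv'.2).1
      rw [eP1, eP2, ← hDdef] at hd
      have hn' := (top_pieces hD hL h hr6 h2).1
      rw [hd] at hn'
      set R := finrank k (E π ρ a b c d ⊓ C0 π ρ p q s t : Submodule k V) with hR
      set C := finrank k (C0 π ρ a b c d) with hC
      obtain ⟨hD1', hR0, hC1, hr11⟩ : D = 1 ∧ R = 0 ∧ C ≤ 1 ∧ 11 ≤ r := by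
        clear * - hn' hn hD1 h13
        omega
      -- a three-cycle on three further points is trivial
      obtain ⟨x', hx'⟩ := exists_avoid [a, b, c, d, p, q, s, t] (by simp; omega)
      obtain ⟨y', hy'⟩ := exists_avoid [a, b, c, d, p, q, s, t, x'] (by simp; omega)
      obtain ⟨z', hz'⟩ := exists_avoid [a, b, c, d, p, q, s, t, x', y'] (by simp; omega)
      simp only [List.mem_cons, List.not_mem_nil, or_false, not_or] at hx' hy' hz'
      have nxy : x' ≠ y' := by grind
      have nxz : x' ≠ z' := by grind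
      have nyz : y' ≠ z' := by grind
      refine X_ne_one hD (by omega) hnt nxy nxz nyz ?_
      have hz3 := X_cube hD nxy nxz nyz (ρ := ρ)
      set Zx := X π ρ x' y' z' with hZx
      have hsmall : ∀ {a b c d p q s t : Fin r}, [a, b, c, d, p, q, s, t].Nodup →
          x' ∉ [a, b, c, d, p, q, s, t] → y' ∉ [a, b, c, d, p, q, s, t] →
          z' ∉ [a, b, c, d, p, q, s, t] →
          finrank k (E π ρ a b c d ⊓ E π ρ p q s t : Submodule k V) ≤ 1 →
          ∀ w ∈ (E π ρ a b c d ⊓ E π ρ p q s t : Submodule k V), Zx w = w := by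
        intro a b c d p q s t h8 hx hy hz hdim w hw
        simp only [List.nodup_cons, List.mem_cons, List.not_mem_nil, or_false, not_or, List.nodup_nil,
          and_true, not_false_eq_true] at h8 hx hy hz
        refine fix_dim_one (W := E π ρ a b c d ⊓ E π ρ p q s t) hz3 (fun u hu => ⟨?_, ?_⟩) hdim hw
        · exact E_invariant_X hD hL (by simp; grind) nxy nxz nyz (by simp; grind) (by simp; grind)
            (by simp; grind) hu.1
        · exact E_invariant_X hD hL (by simp; grind) nxy nxz nyz (by simp; grind) (by simp; grind)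
            (by simp; grind) hu.2
      have hEfix : ∀ {a b c d : Fin r}, [a, b, c, d, p, q, s, t].Nodup →
          x' ∉ [a, b, c, d] → y' ∉ [a, b, c, d] → z' ∉ [a, b, c, d] →
          finrank k (E π ρ a b c d ⊓ E π ρ p q s t : Submodule k V) = D →
          ∀ w ∈ E π ρ a b c d, Zx w = w := by
        intro a' b' c' d' h8 hx hy hz hDeq w hw
        have h8q := h8
        simp only [List.nodup_cons, List.mem_cons, List.not_mem_nil, or_false, not_or, List.nodup_nil,
          and_true, not_false_eq_true] at h8q hx hy hz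
        have hQ' : [a', b', c', d'].Nodup := by simp; grind
        have h8r' : [a', b', c', d', p, s, t, q].Nodup := by simp; grind
        obtain ⟨hd', hle'⟩ := pieces hD hL hP h2
          (fun u (hu : u ∈ E π ρ a' b' c' d') => E_invariant_J hD hL hQ' h8 hu)
          (fun u (hu : u ∈ E π ρ a' b' c' d') => E_invariant_J hD hL hQ' h8r' hu)
        have f1 := hP' h8
        have f2 := hP' h8r'
        rw [f1] at f2
        rw [f1, f2, hDeq] at hd'
        have hR' : finrank k (E π ρ a' b' c' d' ⊓ C0 π ρ p q s t : Submodule k V) = 0 := by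
          have := hE hQ'
          have := hE h
          omega
        have hw' := hle' hw
        rw [Submodule.finrank_eq_zero.1 hR', bot_sup_eq] at hw'
        obtain ⟨w1, hw1, w3, hw3, rfl⟩ := Submodule.mem_sup.1 hw'
        obtain ⟨u1, hu1, u2, hu2, rfl⟩ := Submodule.mem_sup.1 hw1
        rw [map_add, map_add, hsmall h8 (by simp; grind) (by simp; grind) (by simp; grind)
            (by omega) u1 hu1,
          hsmall h8r' (by simp; grind) (by simp; grind) (by simp; grind) (by omega) u2 hu2,
          hsmall (p := p) (q := t) (s := q) (t := s) (by simp; grind) (by simp; grind) (by simp; grind)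
            (by simp; grind) (by omega) w3 hw3]
      ext u
      rw [Module.End.one_apply]
      obtain ⟨u3, hu3, e3, he3, rfl⟩ := Submodule.mem_sup.1 ((top_pieces hD hL h hr6 h2).2 u)
      obtain ⟨u2, hu2, e2, he2, rfl⟩ := Submodule.mem_sup.1 hu3
      obtain ⟨u0, hu0, e1, he1, rfl⟩ := Submodule.mem_sup.1 hu2
      have f0 : Zx u0 = u0 := by
        refine fix_dim_one hz3 (fun w hw => ?_) hC1 hu0
        rw [mem_C0] at hw ⊢
        have i1 := J_conj_apply hD h (L π (c3 x' y' z')) w
        have i2 := J_conj_apply hD (nodup_rot h) (L π (c3 x' y' z')) w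
        rw [map_L_c3 hD nxy nxz nyz, c3_of_ne (by grind) (by grind) (by grind),
          c3_of_ne (by grind) (by grind) (by grind), c3_of_ne (by grind) (by grind) (by grind),
          c3_of_ne (by grind) (by grind) (by grind)] at i1 i2
        rw [hw.1] at i1
        rw [hw.2] at i2
        exact ⟨i1.symm, i2.symm⟩
      have g1 := hQ h8
      rw [map_add, map_add, map_add, f0,
        hEfix h8 (by simp; grind) (by simp; grind) (by simp; grind) rfl e1 he1,
        hEfix (a := a) (b := c) (c := d) (d := b) (by simp; grind) (by simp; grind) (by simp; grind)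
          (by simp; grind) g1 e2 he2,
        hEfix (a := a) (b := d) (c := b) (d := c) (by simp; grind) (by simp; grind) (by simp; grind)
          (by simp; grind) ((hQ (a := a) (b := c) (c := d) (d := b) (p := p) (q := q) (s := s) (t := t)
            (by simp; grind)).trans g1) e3 he3]
    -- a three-cycle is a product of two double transpositions
    obtain ⟨o, ho⟩ := exists_avoid [a, b, c, d, x, y, z] (by simp; omega)
    obtain ⟨o', ho'⟩ := exists_avoid [a, b, c, d, x, y, z, o] (by simp; omega)
    simp only [List.nodup_cons, List.mem_cons, List.not_mem_nil, or_false, not_or, List.nodup_nil,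
      and_true, not_false_eq_true] at h ho ho' hx hy hz
    have hj1 := hfixJ x y o o' (by simp; grind)
    have hj2 := hfixJ y z o o' (by simp; grind)
    rw [J_eq] at hj1 hj2
    refine hD.mem_of_map (odd_orderOf_c3 xy xz yz) (fixer ρ v)
      ⟨jel π x y o o' * jel π y z o o', Subgroup.mul_mem _ hj1 hj2, ?_⟩
    rw [map_mul, map_jel hD (by simp; grind), map_jel hD (by simp; grind), c3]
    ext u; simp only [Perm.mul_apply, swap_apply_def]; grind
  -- hence they fix the commutator spaces
  have hfixMov : ∀ {a b c d x y z : Fin r}, [a, b, c, d].Nodup → x ≠ y → x ≠ z → y ≠ z →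
      x ∉ [a, b, c, d] → y ∉ [a, b, c, d] → z ∉ [a, b, c, d] →
      ∀ v ∈ mov (J π ρ a b c d), X π ρ x y z v = v := by
    intro a b c d x y z h xy xz yz hx hy hz v hv
    have hneg : J π ρ a b c d v = -v := by
      rw [mov_involution h2 (J_sq hD hL h), Module.End.mem_eigenspace_iff] at hv
      simpa using hv
    have h' := nodup_rot h
    have hA : ∀ w, J π ρ a b c d (J π ρ a c d b w) = J π ρ a c d b (J π ρ a b c d w) := fun w =>
      LinearMap.congr_fun (J_triple hD hL h).1.eq w
    have hB := J_J hD hL h' v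
    have m1 : v + J π ρ a c d b v ∈ E π ρ a c d b := E_rot_mem hD hL h
      (by rw [map_add, hA, hneg, map_neg]; abel) (by rw [map_add, hB]; abel)
    have m2 : v - J π ρ a c d b v ∈ E π ρ a d b c := E_rot2_mem hD hL h
      (by rw [map_sub, hA, hneg, map_neg]; abel) (by rw [map_sub, hB]; abel)
    simp only [List.nodup_cons, List.mem_cons, List.not_mem_nil, or_false, not_or, List.nodup_nil,
      and_true, not_false_eq_true] at h hx hy hz
    have f1 := hfixX (by simp; grind) xy xz yz (by simp; grind) (by simp; grind) (by simp; grind) _ m1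
    have f2 := hfixX (by simp; grind) xy xz yz (by simp; grind) (by simp; grind) (by simp; grind) _ m2
    have hv2 : v = (2 : k)⁻¹ • ((v + J π ρ a c d b v) + (v - J π ρ a c d b v)) := by
      rw [show (v + J π ρ a c d b v) + (v - J π ρ a c d b v) = (2 : k) • v by rw [two_smul]; abel,
        smul_smul, inv_mul_cancel₀ h2, one_smul]
    rw [hv2, map_smul, map_add, f1, f2]
  -- the two quadruples
  have q2 : [A0, A1, A4, A5].Nodup := by simp [A0, A1, A4, A5]
  have q3 : [A2, A3, A4, A5].Nodup := by simp [A2, A3, A4, A5]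
  have hF : mov (J π ρ A0 A1 A2 A3) ⊓ mov (J π ρ A0 A1 A4 A5) ≠ ⊥ := by
    intro hbot
    have m1 := finrank_mov_J hD hL q1 hr6 h2
    have m2 := finrank_mov_J hD hL q2 hr6 h2
    have m3 := finrank_mov_J hD hL q3 hr6 h2
    rw [hE q2] at m2
    rw [hE q3] at m3
    rw [← he] at m1
    have hc12 : Commute (J π ρ A0 A1 A2 A3) (J π ρ A0 A1 A4 A5) := by
      rw [J_eq, J_eq]
      refine comm_dt hL (isDT_jel hD q1) (isDT_jel hD q2) ?_
      rw [map_mul, map_jel hD q1, map_jel hD q2]
      refine ⟨A2, A3, A4, A5, q3, ?_⟩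
      ext u; simp [Perm.mul_apply, swap_apply_def, A0, A1, A2, A3, A4, A5]; grind
    set P1 := J π ρ A0 A1 A2 A3 with hP1
    set P2 := J π ρ A0 A1 A4 A5 with hP2
    set P3 := J π ρ A2 A3 A4 A5 with hP3
    have hs : P1 * P2 = P3 ∨ P1 * P2 = -P3 := by
      have hπ : π (jel π A0 A1 A2 A3 * jel π A0 A1 A4 A5 * (jel π A2 A3 A4 A5)⁻¹) = 1 := by
        rw [map_mul, map_mul, map_inv, map_jel hD q1, map_jel hD q2, map_jel hD q3,
          mul_inv_eq_one]
        ext u; simp [Perm.mul_apply, swap_apply_def, A0, A1, A2, A3, A4, A5]; grind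
      have h1 : P1 * P2 = ρ (jel π A0 A1 A2 A3 * jel π A0 A1 A4 A5 * (jel π A2 A3 A4 A5)⁻¹) * P3 := by
        rw [hP1, hP2, hP3, J_eq, J_eq, J_eq, ← map_mul, ← map_mul, inv_mul_cancel_right]
      rcases hD.sgn _ hπ with h | h <;> rw [h] at h1
      · exact Or.inl (by rw [h1, one_mul])
      · exact Or.inr (by rw [h1, neg_one_mul])
    have hsq1 : P1 * P1 = 1 := J_sq hD hL q1
    have hsq2 : P2 * P2 = 1 := J_sq hD hL q2
    have hsq3 : P3 * P3 = 1 := J_sq hD hL q3
    have hneg : ∀ {Q : Module.End k V}, Q * Q = 1 → ∀ v ∈ mov Q, Q v = -v := fun hQ v hv => by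
      rw [mov_involution h2 hQ, Module.End.mem_eigenspace_iff] at hv
      simpa using hv
    have n12 : ∀ v ∈ mov P1, P2 v = v := fun v hv => by
      have hm : P2 v - v ∈ mov P1 ⊓ mov P2 :=
        ⟨Submodule.sub_mem _ (mov_mapsTo hc12.symm hv) hv, sub_mem_mov v⟩
      rw [hbot, Submodule.mem_bot, sub_eq_zero] at hm
      exact hm
    have n21 : ∀ v ∈ mov P2, P1 v = v := fun v hv => by
      have hm : P1 v - v ∈ mov P1 ⊓ mov P2 :=
        ⟨sub_mem_mov v, Submodule.sub_mem _ (mov_mapsTo hc12 hv) hv⟩
      rw [hbot, Submodule.mem_bot, sub_eq_zero] at hm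
      exact hm
    have hsup := Submodule.finrank_sup_add_finrank_inf_eq (mov P1) (mov P2)
    rw [hbot, finrank_bot, add_zero] at hsup
    rcases hs with hs | hs
    · have hle : mov P1 ⊔ mov P2 ≤ mov P3 := by
        refine sup_le (fun v hv => ?_) (fun v hv => ?_)
        · rw [mov_involution h2 hsq3, Module.End.mem_eigenspace_iff, ← hs, Module.End.mul_apply,
            n12 v hv, hneg hsq1 v hv]
          simp
        · rw [mov_involution h2 hsq3, Module.End.mem_eigenspace_iff, ← hs, Module.End.mul_apply,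
            hneg hsq2 v hv, map_neg, n21 v hv]
          simp
      have := Submodule.finrank_mono hle
      have key : ∀ X Y Z W e : ℕ, X = 2 * e → Y = 2 * e → Z = 2 * e → W = X + Y → W ≤ Z → e = 0 :=
        fun X Y Z W e _ _ _ _ _ => by omega
      exact he0 (key _ _ _ _ _ m1 m2 m3 hsup this)
    -- the dimension is six times the weight multiplicity
    have hle : P1.eigenspace 1 ⊓ P2.eigenspace 1 ≤ mov P3 := by
      intro v hv
      have e1 : P1 v = v := by simpa using Module.End.mem_eigenspace_iff.1 hv.1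
      have e2 : P2 v = v := by simpa using Module.End.mem_eigenspace_iff.1 hv.2
      have h3' := LinearMap.congr_fun hs v
      rw [Module.End.mul_apply, e2, e1, LinearMap.neg_apply] at h3'
      rw [mov_involution h2 hsq3, Module.End.mem_eigenspace_iff, neg_smul, one_smul]
      exact (eq_neg_iff_add_eq_zero.2 (by rw [add_comm]; exact eq_neg_iff_add_eq_zero.1 h3'))
    have g1 := finrank_mov_add (f := P1)
    have g2 := finrank_mov_add (f := P2)
    have g3 := Submodule.finrank_sup_add_finrank_inf_eq (P1.eigenspace 1) (P2.eigenspace 1)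
    have g4 := Submodule.finrank_le (P1.eigenspace 1 ⊔ P2.eigenspace 1)
    have g5 := Submodule.finrank_mono hle
    have hn6 : finrank k V ≤ 6 * e := by
      have key : ∀ X Y Z A B S I N e : ℕ, X = 2 * e → Y = 2 * e → Z = 2 * e → X + A = N → Y + B = N →
          S + I = A + B → S ≤ N → I ≤ Z → N ≤ 6 * e :=
        fun X Y Z A B S I N e _ _ _ _ _ _ _ _ => by omega
      exact key _ _ _ _ _ _ _ _ _ m1 m2 m3 g1 g2 g3 g4 g5
    let Wq : Fin r → Fin r → Fin r → Fin r → Submodule k V :=
      fun a b c d => mov (J π ρ a b c d) ⊔ E π ρ a b c d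
    have hWq : ∀ {a b c d : Fin r}, [a, b, c, d].Nodup → finrank k (Wq a b c d) = 3 * e := by
      intro a b c d h
      have hd : mov (J π ρ a b c d) ⊓ E π ρ a b c d = ⊥ := by
        rw [Submodule.eq_bot_iff]
        intro v hv
        have e1 := hneg (J_sq hD hL h) v hv.1
        rw [(mem_E.1 hv.2).1, eq_neg_iff_add_eq_zero, ← two_smul k v, smul_eq_zero] at e1
        exact e1.resolve_left h2
      have hs' := Submodule.finrank_sup_add_finrank_inf_eq (mov (J π ρ a b c d)) (E π ρ a b c d)
      rw [hd, finrank_bot, add_zero, finrank_mov_J hD hL h hr6 h2, hE h] at hs'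
      show finrank k (mov (J π ρ a b c d) ⊔ E π ρ a b c d : Submodule k V) = 3 * e
      rw [hs']; ring
    have hCW : ∀ {a b c d p q s t : Fin r}, [a, b, c, d, p, q, s, t].Nodup →
        Wq a b c d = C0 π ρ p q s t := by
      intro a b c d p q s t h8
      simp only [List.nodup_cons, List.mem_cons, List.not_mem_nil, or_false, not_or, List.nodup_nil,
        and_true, not_false_eq_true] at h8
      have hQ : [a, b, c, d].Nodup := by simp; grind
      have hP : [p, q, s, t].Nodup := by simp; grind
      refine Submodule.eq_of_le_of_finrank_le ?_ ?_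
      · refine sup_le (fun v hv => ?_) (fun v hv => ?_) <;> rw [mem_C0, J, J, Module.End.mul_apply,
          Module.End.mul_apply]
        · have f : ∀ {x y z}, x ≠ y → x ≠ z → y ≠ z → x ∉ [a, b, c, d] → y ∉ [a, b, c, d] →
              z ∉ [a, b, c, d] → X π ρ x y z v = v :=
            fun h1 h2 h3 h4 h5 h6 => hfixMov hQ h1 h2 h3 h4 h5 h6 v hv
          constructor <;> rw [f, f] <;>
            (clear * - h8; (try simp only [List.mem_cons, List.not_mem_nil, or_false, not_or]); grind)
        · have f : ∀ {x y z}, x ≠ y → x ≠ z → y ≠ z → x ∉ [a, b, c, d] → y ∉ [a, b, c, d] →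
              z ∉ [a, b, c, d] → X π ρ x y z v = v :=
            fun h1 h2 h3 h4 h5 h6 => hfixX hQ h1 h2 h3 h4 h5 h6 v hv
          constructor <;> rw [f, f] <;>
            (clear * - h8; (try simp only [List.mem_cons, List.not_mem_nil, or_false, not_or]); grind)
      · have := (top_pieces hD hL hP hr6 h2).1
        rw [hE hP] at this
        rw [hWq hQ]
        have key : ∀ N C e : ℕ, N = C + 3 * e → N ≤ 6 * e → C ≤ 3 * e := fun N C e _ _ => by omega
        exact key _ _ _ this hn6
    -- neighbouring quadruples have the same space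
    have hstep : ∀ {a b c d a' b' c' d' : Fin r} (l : List (Fin r)), l.length ≤ 5 →
        [a, b, c, d].Nodup → [a', b', c', d'].Nodup → (∀ u ∈ [a, b, c, d], u ∈ l) →
        (∀ u ∈ [a', b', c', d'], u ∈ l) → Wq a b c d = Wq a' b' c' d' := by
      intro a b c d a' b' c' d' l hl h h' hsub hsub'
      obtain ⟨p, hp⟩ := exists_avoid l (by omega)
      obtain ⟨q, hq⟩ := exists_avoid (p :: l) (by simp; omega)
      obtain ⟨s, hs⟩ := exists_avoid (q :: p :: l) (by simp; omega)
      obtain ⟨t, ht⟩ := exists_avoid (s :: q :: p :: l) (by simp; omega)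
      simp only [List.mem_cons, List.not_mem_nil, or_false, not_or] at hq hs ht
      simp only [List.mem_cons, List.not_mem_nil, or_false] at hsub hsub'
      simp only [List.nodup_cons, List.mem_cons, List.not_mem_nil, or_false, not_or, List.nodup_nil,
        and_true, not_false_eq_true] at h h'
      rw [hCW (p := p) (q := q) (s := s) (t := t) (by simp; grind),
        hCW (p := p) (q := q) (s := s) (t := t) (by simp; grind)]
    have c1 : Wq A4 A5 A6 A7 = Wq A0 A5 A6 A7 := hstep [A0, A4, A5, A6, A7] (by simp)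
      (by simp [A4, A5, A6, A7]) (by simp [A0, A5, A6, A7]) (by simp) (by simp)
    have c2 : Wq A0 A5 A6 A7 = Wq A0 A1 A6 A7 := hstep [A0, A1, A5, A6, A7] (by simp)
      (by simp [A0, A5, A6, A7]) (by simp [A0, A1, A6, A7]) (by simp) (by simp)
    have c3' : Wq A0 A1 A6 A7 = Wq A0 A1 A2 A7 := hstep [A0, A1, A2, A6, A7] (by simp)
      (by simp [A0, A1, A6, A7]) (by simp [A0, A1, A2, A7]) (by simp) (by simp)
    have c4 : Wq A0 A1 A2 A7 = Wq A0 A1 A2 A3 := hstep [A0, A1, A2, A3, A7] (by simp)
      (by simp [A0, A1, A2, A7]) q1 (by simp) (by simp)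
    have hcw := hCW (a := A4) (b := A5) (c := A6) (d := A7) (p := A0) (q := A1) (s := A2) (t := A3)
      (by simp [A0, A1, A2, A3, A4, A5, A6, A7])
    rw [c1, c2, c3', c4] at hcw
    have hbot' : E π ρ A0 A1 A2 A3 = ⊥ := by
      rw [Submodule.eq_bot_iff]
      intro v hv
      have hv' : v ∈ Wq A0 A1 A2 A3 := Submodule.mem_sup_right hv
      rw [hcw, mem_C0] at hv'
      have := (mem_E.1 hv).2
      rw [hv'.2, eq_neg_iff_add_eq_zero, ← two_smul k v, smul_eq_zero] at this
      exact this.resolve_left h2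
    exact he0 (by rw [he, hbot', finrank_bot])
  have n01 : A0 ≠ A1 := by simp [A0, A1]
  refine exists_pairLines hD hr n01 _ hF (g₀ := jel π A0 A1 A2 A3) (jel_even hD q1) ?_ ?_ ?_ ?_ ?_
  · rw [map_jel hD q1]; simp [A0, A1, A2, A3, Perm.mul_apply, swap_apply_def]
  · rw [map_jel hD q1]; simp [A0, A1, A2, A3, Perm.mul_apply, swap_apply_def]
  · intro v hv
    rw [← J_eq]
    refine ⟨mov_mapsTo (Commute.refl _) hv.1, mov_mapsTo ?_ hv.2⟩
    rw [J_eq, J_eq]
    refine comm_dt hL (isDT_jel hD q1) (isDT_jel hD q2) ?_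
    rw [map_mul, map_jel hD q1, map_jel hD q2]
    refine ⟨A2, A3, A4, A5, q3, ?_⟩
    ext u; simp [Perm.mul_apply, swap_apply_def, A0, A1, A2, A3, A4, A5]; grind
  · intro v hv x y z xy xz yz hx hy
    simp only [List.mem_cons, List.not_mem_nil, or_false, not_or] at hx hy
    have h1 : ∀ a b c, a ≠ b → a ≠ c → b ≠ c → a ∉ [A0, A1, A2, A3] → b ∉ [A0, A1, A2, A3] →
        c ∉ [A0, A1, A2, A3] → X π ρ a b c v = v :=
      fun a b c ab ac bc ha hb hc => hfixMov q1 ab ac bc ha hb hc v hv.1
    have h2' : ∀ a b c, a ≠ b → a ≠ c → b ≠ c → a ∉ [A0, A1, A4, A5] → b ∉ [A0, A1, A4, A5] →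
        c ∉ [A0, A1, A4, A5] → X π ρ a b c v = v :=
      fun a b c ab ac bc ha hb hc => hfixMov q2 ab ac bc ha hb hc v hv.2
    have hbig : ∀ (T : List (Fin r)), T.length ≤ 4 → ∀ u w p q : Fin r,
        ∃ o ∈ {o : Fin r | o ∉ T}, o ≠ p ∧ o ≠ q ∧ o ≠ u ∧ o ≠ w := by
      intro T hT u w p q
      by_contra hcon
      push Not at hcon
      have hsub : (Finset.univ : Finset (Fin r)) ⊆ (T ++ [p, q, u, w]).toFinset := fun o _ => by
        simp only [List.mem_toFinset, List.mem_append, List.mem_cons, List.not_mem_nil, or_false]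
        by_contra hno
        simp only [not_or] at hno
        exact hno.2.2.2.2 (hcon o hno.1 hno.2.1 hno.2.2.1 hno.2.2.2.1)
      have hc := Finset.card_le_card hsub
      rw [Finset.card_univ, Fintype.card_fin] at hc
      have := (T ++ [p, q, u, w]).toFinset_card_le
      simp only [List.length_append, List.length_cons, List.length_nil] at this
      omega
    have n24 : A2 ≠ A4 := by simp [A2, A4]
    have n25 : A2 ≠ A5 := by simp [A2, A5]
    have n34 : A3 ≠ A4 := by simp [A3, A4]
    have n35 : A3 ≠ A5 := by simp [A3, A5]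
    have n45 : A4 ≠ A5 := by simp [A4, A5]
    have n23 : A2 ≠ A3 := by simp [A2, A3]
    have n0 : A2 ≠ A0 ∧ A3 ≠ A0 ∧ A4 ≠ A0 ∧ A5 ≠ A0 := by simp [A0, A2, A3, A4, A5]
    have n1 : A2 ≠ A1 ∧ A3 ≠ A1 ∧ A4 ≠ A1 ∧ A5 ≠ A1 := by simp [A1, A2, A3, A4, A5]
    -- avoiding `2` and `4`
    have s24 := fixed_of_avoid hD v {o | o ∉ [A0, A1, A2, A4]} (u := A3) (v' := A5)
      (fun x y => hbig [A0, A1, A2, A4] (by simp) A3 A5 x y)
      (by simp; grind) (by simp; grind) n35
      (fun a ha b hb c hc ab ac bc a3 b3 c3 => h1 a b c ab ac bc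
        (by simp at ha ⊢; grind) (by simp at hb ⊢; grind) (by simp at hc ⊢; grind))
      (fun a ha b hb c hc ab ac bc a5 b5 c5 => h2' a b c ab ac bc
        (by simp at ha ⊢; grind) (by simp at hb ⊢; grind) (by simp at hc ⊢; grind))
    have s34 := fixed_of_avoid hD v {o | o ∉ [A0, A1, A3, A4]} (u := A2) (v' := A5)
      (fun x y => hbig [A0, A1, A3, A4] (by simp) A2 A5 x y)
      (by simp; grind) (by simp; grind) n25
      (fun a ha b hb c hc ab ac bc a3 b3 c3 => h1 a b c ab ac bc
        (by simp at ha ⊢; grind) (by simp at hb ⊢; grind) (by simp at hc ⊢; grind))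
      (fun a ha b hb c hc ab ac bc a5 b5 c5 => h2' a b c ab ac bc
        (by simp at ha ⊢; grind) (by simp at hb ⊢; grind) (by simp at hc ⊢; grind))
    have s2 := fixed_of_avoid hD v {o | o ∉ [A0, A1, A2]} (u := A3) (v' := A4)
      (fun x y => hbig [A0, A1, A2] (by simp) A3 A4 x y)
      (by simp; grind) (by simp; grind) n34
      (fun a ha b hb c hc ab ac bc a3 b3 c3 => h1 a b c ab ac bc
        (by simp at ha ⊢; grind) (by simp at hb ⊢; grind) (by simp at hc ⊢; grind))
      (fun a ha b hb c hc ab ac bc a5 b5 c5 => s24 a (by simp at ha ⊢; grind) b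
        (by simp at hb ⊢; grind) c (by simp at hc ⊢; grind) ab ac bc)
    have s3 := fixed_of_avoid hD v {o | o ∉ [A0, A1, A3]} (u := A2) (v' := A4)
      (fun x y => hbig [A0, A1, A3] (by simp) A2 A4 x y)
      (by simp; grind) (by simp; grind) n24
      (fun a ha b hb c hc ab ac bc a3 b3 c3 => h1 a b c ab ac bc
        (by simp at ha ⊢; grind) (by simp at hb ⊢; grind) (by simp at hc ⊢; grind))
      (fun a ha b hb c hc ab ac bc a5 b5 c5 => s34 a (by simp at ha ⊢; grind) b
        (by simp at hb ⊢; grind) c (by simp at hc ⊢; grind) ab ac bc)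
    exact fixed_of_avoid hD v {o | o ∉ [A0, A1]} (u := A2) (v' := A3)
      (fun x y => hbig [A0, A1] (by simp) A2 A3 x y)
      (by simp; grind) (by simp; grind) n23
      (fun a ha b hb c hc ab ac bc a2 b2 c2 => s2 a (by simp at ha ⊢; grind) b
        (by simp at hb ⊢; grind) c (by simp at hc ⊢; grind) ab ac bc)
      (fun a ha b hb c hc ab ac bc a3 b3 c3 => s3 a (by simp at ha ⊢; grind) b
        (by simp at hb ⊢; grind) c (by simp at hc ⊢; grind) ab ac bc)
      x (by simp; grind) y (by simp; grind) z (by simp; grind) xy xz yz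
  · intro v hv hv0
    by_contra hcon
    push Not at hcon
    have hm := hv.1
    rw [mov_involution h2 (J_sq hD hL q1), SetLike.mem_coe, Module.End.mem_eigenspace_iff] at hm
    have q1' := q1
    simp only [List.nodup_cons, List.mem_cons, List.not_mem_nil, or_false, not_or, List.nodup_nil,
      and_true, not_false_eq_true] at q1'
    rw [J, Module.End.mul_apply, X_def, X_def,
      hcon A1 A2 A3 q1'.2.1.1 q1'.2.1.2 q1'.2.2,
      hcon A0 A1 A2 q1'.1.1 q1'.1.2.1 q1'.2.1.1, neg_smul, one_smul, eq_neg_iff_add_eq_zero,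
      ← two_smul k v, smul_eq_zero] at hm
    exact hv0 (hm.resolve_left h2)

end H82.Alt
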