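import Cfsg.Agent.H82.Alt.Small

/-!
Lifts of double transpositions.
-/

set_option autoImplicit false
set_option linter.unusedSectionVars false
set_option linter.style.haveILetI false
set_option maxHeartbeats 800000

open Equiv Module

namespace H82.Alt

universe u v w

/-- Being a product of two disjoint transpositions. -/
def IsDT {r : ℕ} (σ : Perm (Fin r)) : Prop :=
  ∃ a b c d, [a, b, c, d].Nodup ∧ σ = swap a b * swap c d

theorem c3_mul_c3 {r : ℕ} {a b c d : Fin r} (h : [a, b, c, d].Nodup) :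
    c3 a b c * c3 b c d = swap a b * swap c d := by
  simp only [List.nodup_cons, List.mem_cons, List.not_mem_nil, or_false, not_or, List.nodup_nil,
    and_true, not_false_eq_true] at h
  ext x
  simp only [c3, Perm.mul_apply, swap_apply_def]
  grind

theorem isDT_quad {r : ℕ} {a b c d : Fin r} (h : [a, b, c, d].Nodup) :
    IsDT (c3 a b c * c3 b c d) := ⟨a, b, c, d, h, c3_mul_c3 h⟩

variable {k : Type u} [Field k] {V : Type v} [AddCommGroup V] [Module k V] [FiniteDimensional k V]
variable {G : Type w} [Group G] {r : ℕ} {π : G →* Perm (Fin r)} {ρ : G →* Module.End k V}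

/-- The group element over a double transposition. -/
noncomputable def jel (π : G →* Perm (Fin r)) (a b c d : Fin r) : G :=
  L π (c3 a b c) * L π (c3 b c d)

/-- Its operator. -/
noncomputable def J (π : G →* Perm (Fin r)) (ρ : G →* Module.End k V) (a b c d : Fin r) :
    Module.End k V := X π ρ a b c * X π ρ b c d

theorem J_eq (a b c d : Fin r) : J π ρ a b c d = ρ (jel π a b c d) := (map_mul ρ _ _).symm

section

variable (hD : Datum π ρ) {a b c d : Fin r} (h : [a, b, c, d].Nodup)
include hD h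

theorem map_jel : π (jel π a b c d) = swap a b * swap c d := by
  have h' := c3_mul_c3 h
  simp only [List.nodup_cons, List.mem_cons, List.not_mem_nil, or_false, not_or, List.nodup_nil,
    and_true, not_false_eq_true] at h
  obtain ⟨⟨ab, ac, ad⟩, ⟨bc, bd⟩, cd⟩ := h
  rw [jel, map_mul, map_L_c3 hD ab ac bc, map_L_c3 hD bc bd cd, h']

theorem jel_even : π (jel π a b c d) ∈ alternatingGroup (Fin r) := by
  rw [map_jel hD h]
  simp only [List.nodup_cons, List.mem_cons, List.not_mem_nil, or_false, not_or, List.nodup_nil,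
    and_true, not_false_eq_true] at h
  rw [Perm.mem_alternatingGroup, Perm.sign_mul, Perm.sign_swap h.1.1, Perm.sign_swap h.2.2]
  rfl

theorem J_conj (g : G) :
    ρ g * J π ρ a b c d = J π ρ (π g a) (π g b) (π g c) (π g d) * ρ g := by
  simp only [List.nodup_cons, List.mem_cons, List.not_mem_nil, or_false, not_or, List.nodup_nil,
    and_true, not_false_eq_true] at h
  obtain ⟨⟨ab, ac, ad⟩, ⟨bc, bd⟩, cd⟩ := h
  rw [J, J, ← mul_assoc, X_conj hD ab ac bc g, mul_assoc, X_conj hD bc bd cd g, ← mul_assoc]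

theorem J_conj_apply (g : G) (v : V) :
    ρ g (J π ρ a b c d v) = J π ρ (π g a) (π g b) (π g c) (π g d) (ρ g v) :=
  LinearMap.congr_fun (J_conj hD h g) v

end

theorem isDT_jel (hD : Datum π ρ) {a b c d : Fin r} (h : [a, b, c, d].Nodup) :
    IsDT (π (jel π a b c d)) := ⟨a, b, c, d, h, map_jel hD h⟩

/-- Lifts of double transpositions square to the same sign. -/
theorem dt_sq (hD : Datum π ρ) (hr : 6 ≤ r) {g g' : G} (hg : IsDT (π g)) (hg' : IsDT (π g')) :
    ρ g * ρ g = ρ g' * ρ g' := by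
  obtain ⟨a, b, c, d, h, e⟩ := hg
  obtain ⟨a', b', c', d', h', e'⟩ := hg'
  obtain ⟨σ, hσA, hσ⟩ := exists_alt_ext
    (⟨[a, b, c, d].get, List.nodup_iff_injective_get.1 h⟩ : Fin 4 ↪ Fin r)
    ⟨[a', b', c', d'].get, List.nodup_iff_injective_get.1 h'⟩ (by omega)
  obtain ⟨t, ht⟩ := hD.surj σ hσA
  have e1 : π (t * g * t⁻¹ * g'⁻¹) = 1 := by
    rw [map_mul, map_mul, map_mul, map_inv, map_inv, ht, e, e', mul_inv_eq_one]
    rw [show σ * (swap a b * swap c d) * σ⁻¹ = (σ * swap a b * σ⁻¹) * (σ * swap c d * σ⁻¹) by group,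
      conj_swap, conj_swap, show σ a = a' from hσ 0, show σ b = b' from hσ 1,
      show σ c = c' from hσ 2, show σ d = d' from hσ 3]
  set z := t * g * t⁻¹ * g'⁻¹ with hz
  have e2 : t * g * t⁻¹ = z * g' := by rw [hz]; group
  have e3 : t * (g * g) * t⁻¹ = g' * g' := by
    calc t * (g * g) * t⁻¹ = (t * g * t⁻¹) * (t * g * t⁻¹) := by group
      _ = (z * z) * (g' * g') := by rw [e2, (hD.cen z e1 g').mul_mul_mul_comm z g']
      _ = g' * g' := by rw [hD.sq z e1, one_mul]
  have e4 : π (g * g) = 1 := by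
    rw [map_mul, e]
    simp only [List.nodup_cons, List.mem_cons, List.not_mem_nil, or_false, not_or, List.nodup_nil,
      and_true, not_false_eq_true] at h
    ext x; simp only [Perm.mul_apply, swap_apply_def, Perm.one_apply]; grind
  rw [← (hD.cen _ e4 t).eq, mul_inv_cancel_right] at e3
  rw [← map_mul, ← map_mul, e3]

theorem dt_sgn (hD : Datum π ρ) {g : G} (hg : IsDT (π g)) : ρ g * ρ g = 1 ∨ ρ g * ρ g = -1 := by
  rw [← map_mul]
  refine hD.sgn _ ?_
  obtain ⟨a, b, c, d, h, e⟩ := hg
  rw [map_mul, e]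
  simp only [List.nodup_cons, List.mem_cons, List.not_mem_nil, or_false, not_or, List.nodup_nil,
    and_true, not_false_eq_true] at h
  ext x; simp only [Perm.mul_apply, swap_apply_def, Perm.one_apply]; grind

/-- The decomposition of an invariant subspace by an operator with scalar square. -/
theorem split_two (h2 : (2 : k) ≠ 0) {A : Module.End k V} {c : k} (hc : c ≠ 0)
    (hA : A * A = (c * c) • 1) {W : Submodule k V} (hW : ∀ w ∈ W, A w ∈ W) :
    W ⊓ A.eigenspace c ⊔ W ⊓ A.eigenspace (-c) = W ∧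
      Disjoint (W ⊓ A.eigenspace c) (W ⊓ A.eigenspace (-c)) := by
  have hAA : ∀ v, A (A v) = (c * c) • v := fun v => by
    rw [← Module.End.mul_apply, hA]; rfl
  refine ⟨le_antisymm (sup_le inf_le_left inf_le_left) fun v hv => Submodule.mem_sup.2
    ⟨(2 * c)⁻¹ • (c • v + A v), ?_, (2 * c)⁻¹ • (c • v - A v), ?_, ?_⟩, ?_⟩
  · refine ⟨W.smul_mem _ (W.add_mem (W.smul_mem _ hv) (hW v hv)), ?_⟩
    rw [SetLike.mem_coe, Module.End.mem_eigenspace_iff, map_smul, map_add, map_smul, hAA]
    module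
  · refine ⟨W.smul_mem _ (W.sub_mem (W.smul_mem _ hv) (hW v hv)), ?_⟩
    rw [SetLike.mem_coe, Module.End.mem_eigenspace_iff, map_smul, map_sub, map_smul, hAA]
    module
  · rw [← smul_add, show c • v + A v + (c • v - A v) = (2 * c) • v by rw [two_mul, add_smul]; abel,
      smul_smul, inv_mul_cancel₀ (mul_ne_zero h2 hc), one_smul]
  · rw [Submodule.disjoint_def]
    intro v hv hv'
    have e1 := Module.End.mem_eigenspace_iff.1 hv.2
    have e2 := Module.End.mem_eigenspace_iff.1 hv'.2
    rw [e1, ← sub_eq_zero, ← sub_smul, sub_neg_eq_add, ← two_mul, smul_eq_zero] at e2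
    exact e2.resolve_left (mul_ne_zero h2 hc)

theorem split_finrank (h2 : (2 : k) ≠ 0) {A : Module.End k V} {c : k} (hc : c ≠ 0)
    (hA : A * A = (c * c) • 1) {W : Submodule k V} (hW : ∀ w ∈ W, A w ∈ W) :
    finrank k (W ⊓ A.eigenspace c : Submodule k V) +
      finrank k (W ⊓ A.eigenspace (-c) : Submodule k V) = finrank k W := by
  obtain ⟨h1, hd⟩ := split_two h2 hc hA hW
  have := Submodule.finrank_sup_add_finrank_inf_eq (W ⊓ A.eigenspace c) (W ⊓ A.eigenspace (-c))
  rw [h1, hd.eq_bot, finrank_bot, add_zero] at this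
  exact this.symm

theorem mov_involution (h2 : (2 : k) ≠ 0) {A : Module.End k V} (hA : A * A = 1) :
    mov A = A.eigenspace (-1) := by
  have hAA : ∀ v, A (A v) = v := fun v => by rw [← Module.End.mul_apply, hA]; rfl
  ext v
  rw [mem_mov, Module.End.mem_eigenspace_iff]
  constructor
  · rintro ⟨w, rfl⟩
    rw [map_sub, hAA]
    module
  · intro hv
    refine ⟨-((2 : k)⁻¹ • v), ?_⟩
    rw [map_neg, map_smul, hv]
    rw [show -((2 : k)⁻¹ • (-1 : k) • v) - -((2 : k)⁻¹ • v) = ((2 : k)⁻¹ * 2) • v by module,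
      inv_mul_cancel₀ h2, one_smul]

/-- Equal dimensions of transported subspaces. -/
theorem finrank_le_of_maps (g : G) {P Q : Submodule k V} (h : ∀ v ∈ P, ρ g v ∈ Q) :
    finrank k P ≤ finrank k Q := by
  rw [← LinearEquiv.finrank_map_eq (rhoEquiv ρ g) P]
  exact Submodule.finrank_mono (by rintro _ ⟨v, hv, rfl⟩; exact h v hv)

end H82.Alt
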