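import Cfsg.Agent.H82.Alt.Cyc

/-!
Joint weights of three disjoint three-cycles in small dimension, and of two disjoint five-cycles.
-/

set_option autoImplicit false
set_option linter.unusedSectionVars false
set_option linter.style.haveILetI false
set_option maxHeartbeats 1000000

open Equiv Module

namespace H82.Alt

universe u v w

variable {k : Type u} [Field k] {V : Type v} [AddCommGroup V] [Module k V] [FiniteDimensional k V]
variable {G : Type w} [Group G] {r m : ℕ} {π : G →* Perm (Fin r)} {ρ : G →* Module.End k V}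

theorem eig_pow {f : Module.End k V} {μ : k} {v : V} (h : f v = μ • v) :
    ∀ i : ℕ, (f ^ i) v = μ ^ i • v
  | 0 => by simp
  | i + 1 => by rw [pow_succ', Module.End.mul_apply, eig_pow h i, map_smul, h, smul_smul, pow_succ]

/-- Transport of an eigenvector. -/
theorem eig_move {t : ℕ} (hD : Datum π ρ) (e : Fin m ↪ Fin r) {σ σ' τ : Perm (Fin m)} (ho : Odd t)
    (hσ : σ ^ t = 1) (hA : σ ∈ alternatingGroup (Fin m)) {g : G}
    (hg : π g = Perm.viaEmbeddingHom e τ) (i : ℕ) (h : τ * σ ^ i * τ⁻¹ = σ') {μ : k} {v : V}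
    (hv : Z π ρ e σ v = μ • v) : Z π ρ e σ' (ρ g v) = μ ^ i • ρ g v :=
  eig_of_conj hD e ho (by rw [← pow_mul, mul_comm, pow_mul, hσ, one_pow]) (Subgroup.pow_mem _ hA i)
    hg h (by rw [Z_pow_eq hD e ho hσ hA, eig_pow hv])

theorem root_pow_val {n : ℕ} [NeZero n] {ω : k} (hω : ω ^ n = 1) (c : ℕ) (a : ZMod n) :
    ω ^ ((c : ZMod n) * a).val = (ω ^ a.val) ^ c := by
  rw [← pow_mul, ZMod.val_mul, ZMod.val_natCast]
  conv_rhs => rw [pow_eq_pow_mod _ hω]
  congr 1
  simp [Nat.mul_mod, mul_comm]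

theorem root_injective {n : ℕ} [NeZero n] {ω : k} (hω : IsPrimitiveRoot ω n) :
    Function.Injective fun a : ZMod n => ω ^ a.val :=
  fun a b h => ZMod.val_injective n (hω.pow_inj (ZMod.val_lt a) (ZMod.val_lt b) h)

/-- The first block. -/
def b0 : Perm (Fin 9) := c3 0 1 2
/-- The second block. -/
def b1 : Perm (Fin 9) := c3 3 4 5
/-- The third block. -/
def b2 : Perm (Fin 9) := c3 6 7 8

theorem b_mem : b0 ∈ alternatingGroup (Fin 9) ∧ b1 ∈ alternatingGroup (Fin 9) ∧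
    b2 ∈ alternatingGroup (Fin 9) := by
  simp only [Perm.mem_alternatingGroup]; decide +kernel

theorem b_cube : b0 ^ 3 = 1 ∧ b1 ^ 3 = 1 ∧ b2 ^ 3 = 1 := by decide +kernel

theorem b_comm : Commute b0 b1 ∧ Commute b0 b2 ∧ Commute b1 b2 :=
  ⟨c3_commute (by decide) (by decide) (by decide), c3_commute (by decide) (by decide) (by decide),
    c3_commute (by decide) (by decide) (by decide)⟩

/-- The joint weight space of three exponents. -/
noncomputable def W3 (π : G →* Perm (Fin r)) (ρ : G →* Module.End k V) (e : Fin 9 ↪ Fin r) (ω : k) (s : Wt3) :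
    Submodule k V :=
  (Z π ρ e b0).eigenspace (ω ^ s.1.val) ⊓ (Z π ρ e b1).eigenspace (ω ^ s.2.1.val) ⊓
    (Z π ρ e b2).eigenspace (ω ^ s.2.2.val)

theorem mem_W3 {e : Fin 9 ↪ Fin r} {ω : k} {s : Wt3} {v : V} :
    v ∈ W3 π ρ e ω s ↔ Z π ρ e b0 v = ω ^ s.1.val • v ∧ Z π ρ e b1 v = ω ^ s.2.1.val • v ∧
      Z π ρ e b2 v = ω ^ s.2.2.val • v := by
  simp only [W3, Submodule.mem_inf, Module.End.mem_eigenspace_iff]
  tauto

section Three

variable (hD : Datum π ρ) (e : Fin 9 ↪ Fin r) {ω : k} (hω : IsPrimitiveRoot ω 3)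
include hD hω

theorem W3_card (S : Finset Wt3) (hS : ∀ s ∈ S, W3 π ρ e ω s ≠ ⊥) : S.card ≤ finrank k V := by
  let F : Fin 3 → Module.End k V := ![Z π ρ e b0, Z π ρ e b1, Z π ρ e b2]
  have hc01 := Z_commute (t := 3) hD e (by decide) b_cube.1 b_mem.1 (t' := 3) (by decide) b_cube.2.1
    b_mem.2.1 b_comm.1
  have hc02 := Z_commute (t := 3) hD e (by decide) b_cube.1 b_mem.1 (t' := 3) (by decide) b_cube.2.2
    b_mem.2.2 b_comm.2.1
  have hc12 := Z_commute (t := 3) hD e (by decide) b_cube.2.1 b_mem.2.1 (t' := 3) (by decide)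
    b_cube.2.2 b_mem.2.2 b_comm.2.2
  have hind := wt_indep F (fun i j => by
    fin_cases i <;> fin_cases j <;>
      first
        | exact Commute.refl _
        | exact hc01
        | exact hc01.symm
        | exact hc02
        | exact hc02.symm
        | exact hc12
        | exact hc12.symm)
  let χ : Wt3 → Fin 3 → k := fun s => ![ω ^ s.1.val, ω ^ s.2.1.val, ω ^ s.2.2.val]
  have hinj : Function.Injective χ := fun s s' h => by
    have h0 := congrFun h 0; have h1 := congrFun h 1; have h2 := congrFun h 2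
    exact Prod.ext (root_injective hω h0) (Prod.ext (root_injective hω h1) (root_injective hω h2))
  refine card_le_finrank _ (hind.comp hinj) S fun s hs hbot => hS s hs ?_
  rw [← le_bot_iff] at hbot ⊢
  refine le_trans ?_ hbot
  intro v hv
  rw [mem_W3] at hv
  simp only [Function.comp_apply, Submodule.mem_iInf, Module.End.mem_eigenspace_iff, F, χ]
  intro i
  fin_cases i
  exacts [hv.1, hv.2.1, hv.2.2]

theorem W3_ops : (∀ s, W3 π ρ e ω s ≠ ⊥ → W3 π ρ e ω (-s.1, -s.2.1, s.2.2) ≠ ⊥) ∧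
    (∀ s, W3 π ρ e ω s ≠ ⊥ → W3 π ρ e ω (s.1, -s.2.1, -s.2.2) ≠ ⊥) ∧
    (∀ s, W3 π ρ e ω s ≠ ⊥ → W3 π ρ e ω (s.2.2, s.1, s.2.1) ≠ ⊥) ∧
    (∀ s, W3 π ρ e ω s ≠ ⊥ → W3 π ρ e ω (s.2.1, s.1, -s.2.2) ≠ ⊥) := by
  have hneg : ∀ a : ZMod 3, (ω ^ a.val) ^ 2 = ω ^ (-a).val := fun a => by
    rw [← root_pow_val hω.pow_eq_one]
    congr 2
    revert a; decide
  have key : ∀ (τ : Perm (Fin 9)) (f : Wt3 → Wt3), τ ∈ alternatingGroup (Fin 9) →
      (∀ (g : G) (s : Wt3) (v : V), π g = Perm.viaEmbeddingHom e τ → v ∈ W3 π ρ e ω s →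
        ρ g v ∈ W3 π ρ e ω (f s)) → ∀ s, W3 π ρ e ω s ≠ ⊥ → W3 π ρ e ω (f s) ≠ ⊥ := by
    intro τ f hτ hf s hs
    obtain ⟨v, hv, hv0⟩ := (Submodule.ne_bot_iff _).1 hs
    obtain ⟨g, hg⟩ := exists_over hD e hτ
    refine (Submodule.ne_bot_iff _).2 ⟨ρ g v, hf g s v hg hv, fun h => hv0 ?_⟩
    rw [← rho_inv_apply ρ g v, h, map_zero]
  refine ⟨key (swap 0 2 * swap 3 5) _ ?_ ?_, key (swap 3 5 * swap 6 8) _ ?_ ?_,
    key (c3 0 3 6 * c3 1 4 7 * c3 2 5 8) _ ?_ ?_,
    key (swap 0 3 * swap 1 4 * (swap 2 5 * swap 6 8)) _ ?_ ?_⟩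
  all_goals first
    | (rw [Perm.mem_alternatingGroup]; decide +kernel)
    | skip
  · intro g s v hg hv
    rw [mem_W3] at hv ⊢
    exact ⟨hneg s.1 ▸ eig_move hD e (by decide) b_cube.1 b_mem.1 hg 2 (by decide +kernel) hv.1,
      hneg s.2.1 ▸ eig_move hD e (by decide) b_cube.2.1 b_mem.2.1 hg 2 (by decide +kernel) hv.2.1,
      by simpa using eig_move hD e (by decide) b_cube.2.2 b_mem.2.2 hg 1 (by decide +kernel) hv.2.2⟩
  · intro g s v hg hv
    rw [mem_W3] at hv ⊢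
    exact ⟨by simpa using eig_move hD e (by decide) b_cube.1 b_mem.1 hg 1 (by decide +kernel) hv.1,
      hneg s.2.1 ▸ eig_move hD e (by decide) b_cube.2.1 b_mem.2.1 hg 2 (by decide +kernel) hv.2.1,
      hneg s.2.2 ▸ eig_move hD e (by decide) b_cube.2.2 b_mem.2.2 hg 2 (by decide +kernel) hv.2.2⟩
  · intro g s v hg hv
    rw [mem_W3] at hv ⊢
    exact ⟨by simpa using eig_move hD e (by decide) b_cube.2.2 b_mem.2.2 hg 1 (by decide +kernel) hv.2.2,
      by simpa using eig_move hD e (by decide) b_cube.1 b_mem.1 hg 1 (by decide +kernel) hv.1,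
      by simpa using eig_move hD e (by decide) b_cube.2.1 b_mem.2.1 hg 1 (by decide +kernel) hv.2.1⟩
  · intro g s v hg hv
    rw [mem_W3] at hv ⊢
    exact ⟨by simpa using eig_move hD e (by decide) b_cube.2.1 b_mem.2.1 hg 1 (by decide +kernel) hv.2.1,
      by simpa using eig_move hD e (by decide) b_cube.1 b_mem.1 hg 1 (by decide +kernel) hv.1,
      hneg s.2.2 ▸ eig_move hD e (by decide) b_cube.2.2 b_mem.2.2 hg 2 (by decide +kernel) hv.2.2⟩

/-- With at most nine dimensions the nontrivial weights are full. -/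
theorem W3_main [IsAlgClosed k] (h3 : (3 : k) ≠ 0) (hn : finrank k V ≤ 9) {μ ν : k} {v : V}
    (hμ : μ ≠ 1) (hν : ν ≠ 1) (hv : v ≠ 0) (h0 : Z π ρ e b0 v = μ • v)
    (h1 : Z π ρ e b1 v = ν • v) :
    8 ≤ finrank k V ∧ (∀ u, Z π ρ e b0 u = u → Z π ρ e b1 u = u) := by
  obtain ⟨o1, o2, o3, o4⟩ := W3_ops hD e hω
  have h3' : ((3 : ℕ) : k) ≠ 0 := by simpa using h3
  have hz0 := Z_pow (t := 3) hD e (by decide) b_cube.1 b_mem.1
  have hz1 := Z_pow (t := 3) hD e (by decide) b_cube.2.1 b_mem.2.1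
  have hz2 := Z_pow (t := 3) hD e (by decide) b_cube.2.2 b_mem.2.2
  have hc01 := Z_commute (t := 3) hD e (by decide) b_cube.1 b_mem.1 (t' := 3) (by decide) b_cube.2.1
    b_mem.2.1 b_comm.1
  have hc02 := Z_commute (t := 3) hD e (by decide) b_cube.1 b_mem.1 (t' := 3) (by decide) b_cube.2.2
    b_mem.2.2 b_comm.2.1
  have hc12 := Z_commute (t := 3) hD e (by decide) b_cube.2.1 b_mem.2.1 (t' := 3) (by decide)
    b_cube.2.2 b_mem.2.2 b_comm.2.2
  have hroot : ∀ {f : Module.End k V} {a : k} {u : V}, f ^ 3 = 1 → u ≠ 0 → f u = a • u →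
      ∃ i : ZMod 3, a = ω ^ i.val := by
    intro f a u hf hu hfu
    obtain ⟨i, hi, rfl⟩ := hω.eq_pow_of_pow_eq_one (eig_pow_eq_one hf (μ := a)
      ((Submodule.ne_bot_iff _).2 ⟨u, Module.End.mem_eigenspace_iff.2 hfu, hu⟩))
    exact ⟨i, by rw [ZMod.val_natCast, Nat.mod_eq_of_lt hi]⟩
  -- complete a pair to a triple of exponents
  have htriple : ∀ {a b : k} {u : V}, u ≠ 0 → Z π ρ e b0 u = a • u → Z π ρ e b1 u = b • u →
      ∃ s : Wt3, W3 π ρ e ω s ≠ ⊥ ∧ a = ω ^ s.1.val ∧ b = ω ^ s.2.1.val := by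
    intro a b u hu ha hb
    obtain ⟨i, hi⟩ := hroot hz0 hu ha
    obtain ⟨j, hj⟩ := hroot hz1 hu hb
    set W := (Z π ρ e b0).eigenspace a ⊓ (Z π ρ e b1).eigenspace b with hW
    have hWne : W ≠ ⊥ := (Submodule.ne_bot_iff _).2
      ⟨u, ⟨Module.End.mem_eigenspace_iff.2 ha, Module.End.mem_eigenspace_iff.2 hb⟩, hu⟩
    obtain ⟨c, w, hw, hw0, hwc⟩ := exists_eig_mem (g := Z π ρ e b2) hWne fun x hx =>
      ⟨Module.End.mapsTo_genEigenspace_of_comm hc02 a 1 hx.1,
        Module.End.mapsTo_genEigenspace_of_comm hc12 b 1 hx.2⟩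
    obtain ⟨l, hl⟩ := hroot hz2 hw0 hwc
    refine ⟨(i, j, l), (Submodule.ne_bot_iff _).2 ⟨w, ?_, hw0⟩, hi, hj⟩
    rw [mem_W3]
    exact ⟨hi ▸ Module.End.mem_eigenspace_iff.1 hw.1, hj ▸ Module.End.mem_eigenspace_iff.1 hw.2,
      hl ▸ hwc⟩
  obtain ⟨s, hs, hsμ, hsν⟩ := htriple hv h0 h1
  have hs1 : s.1 ≠ 0 := fun h => hμ (by rw [hsμ, h]; simp)
  have hs2 : s.2.1 ≠ 0 := fun h => hν (by rw [hsν, h]; simp)
  have horb := fun t (ht : W3 π ρ e ω t ≠ ⊥) =>
    orb3_mem (P := fun s => W3 π ρ e ω s ≠ ⊥) o1 o2 o3 o4 ht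
  have hs3 : s.2.2 ≠ 0 := fun h => by
    have := (orb3_two s hs1 hs2 h).trans (W3_card hD e hω _ (horb s hs))
    omega
  obtain ⟨h8, h111⟩ := orb3_full s hs1 hs2 hs3
  refine ⟨h8.trans (W3_card hD e hω _ (horb s hs)), fun u hu => ?_⟩
  by_contra hne
  obtain ⟨b, hb1, w, hw, hw0, hwb⟩ := exists_eig_ne_one (g := Z π ρ e b1) (t := 3)
    (W := (Z π ρ e b0).eigenspace 1) (fun x hx => Module.End.mapsTo_genEigenspace_of_comm hc01 1 1 hx)
    hz1 h3' (w := u) (by rw [Module.End.mem_eigenspace_iff, one_smul]; exact hu) hne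
  obtain ⟨t, ht, ht1, ht2⟩ := htriple hw0 (Module.End.mem_eigenspace_iff.1 hw) hwb
  have hm1 : t.1 = 0 := root_injective hω (show ω ^ t.1.val = ω ^ (0 : ZMod 3).val by rw [← ht1]; simp)
  have ht0 : t ≠ 0 := fun h => hb1 (by rw [ht2, h]; simp)
  have := orb3_mixed t ht0 (Or.inl hm1)
  have hle := W3_card hD e hω (orb3 t ∪ orb3 (1, 1, 1)) fun x hx => by
    rcases Finset.mem_union.1 hx with hx | hx
    · exact horb t ht x hx
    · exact horb _ (horb s hs _ h111) x hx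
  omega

/-- The four pair weight spaces have the same dimension. -/
theorem pair_dim_le (hn : finrank k V ≤ 9) (a b : ZMod 3) (ha : a ≠ 0) (hb : b ≠ 0) :
    finrank k ((Z π ρ e b0).eigenspace (ω ^ a.val) ⊓ (Z π ρ e b1).eigenspace (ω ^ b.val) :
      Submodule k V) ≤ 2 := by
  set P := fun s : ZMod 3 × ZMod 3 =>
    ((Z π ρ e b0).eigenspace (ω ^ s.1.val) ⊓ (Z π ρ e b1).eigenspace (ω ^ s.2.val) : Submodule k V)
    with hP
  have hneg : ∀ a : ZMod 3, (ω ^ a.val) ^ 2 = ω ^ (-a).val := fun a => by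
    rw [← root_pow_val hω.pow_eq_one]
    congr 2
    revert a; decide
  have hmap : ∀ (τ : Perm (Fin 9)) (f : ZMod 3 × ZMod 3 → ZMod 3 × ZMod 3),
      τ ∈ alternatingGroup (Fin 9) →
      (∀ (g : G) s (v : V), π g = Perm.viaEmbeddingHom e τ → v ∈ P s → ρ g v ∈ P (f s)) →
      ∀ s, finrank k (P s) ≤ finrank k (P (f s)) := by
    intro τ f hτ hf s
    obtain ⟨g, hg⟩ := exists_over hD e hτ
    rw [← LinearEquiv.finrank_map_eq (rhoEquiv ρ g) (P s)]
    exact Submodule.finrank_mono (by rintro _ ⟨v, hv, rfl⟩; exact hf g s v hg hv)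
  have f1 := hmap (swap 0 2 * swap 6 8) (fun s => (-s.1, s.2))
    (by rw [Perm.mem_alternatingGroup]; decide +kernel) (fun g s v hg hv => by
      simp only [hP, Submodule.mem_inf, Module.End.mem_eigenspace_iff] at hv ⊢
      exact ⟨hneg s.1 ▸ eig_move hD e (by decide) b_cube.1 b_mem.1 hg 2 (by decide +kernel) hv.1,
        by simpa using eig_move hD e (by decide) b_cube.2.1 b_mem.2.1 hg 1 (by decide +kernel) hv.2⟩)
  have f2 := hmap (swap 3 5 * swap 6 8) (fun s => (s.1, -s.2))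
    (by rw [Perm.mem_alternatingGroup]; decide +kernel) (fun g s v hg hv => by
      simp only [hP, Submodule.mem_inf, Module.End.mem_eigenspace_iff] at hv ⊢
      exact ⟨by simpa using eig_move hD e (by decide) b_cube.1 b_mem.1 hg 1 (by decide +kernel) hv.1,
        hneg s.2 ▸ eig_move hD e (by decide) b_cube.2.1 b_mem.2.1 hg 2 (by decide +kernel) hv.2⟩)
  let F : Fin 2 → Module.End k V := ![Z π ρ e b0, Z π ρ e b1]
  have hc01 := Z_commute (t := 3) hD e (by decide) b_cube.1 b_mem.1 (t' := 3) (by decide) b_cube.2.1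
    b_mem.2.1 b_comm.1
  have hind := wt_indep F (fun i j => by
    fin_cases i <;> fin_cases j <;>
      first
        | exact Commute.refl _
        | exact hc01
        | exact hc01.symm)
  let χ : ZMod 3 × ZMod 3 → Fin 2 → k := fun s => ![ω ^ s.1.val, ω ^ s.2.val]
  have hinj : Function.Injective χ := fun s s' h =>
    Prod.ext (root_injective hω (congrFun h 0)) (root_injective hω (congrFun h 1))
  have hPind : iSupIndep P := (hind.comp hinj).mono fun s v hv => by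
    simp only [hP, Submodule.mem_inf, Module.End.mem_eigenspace_iff] at hv
    simp only [Function.comp_apply, Submodule.mem_iInf, Module.End.mem_eigenspace_iff, F, χ]
    intro i
    fin_cases i
    exacts [hv.1, hv.2]
  have hsum := (finrank_sum_le P hPind {(a, b), (-a, b), (a, -b), (-a, -b)}).trans hn
  have hd : ∀ x : ZMod 3, x ≠ 0 → x ≠ -x := by decide
  rw [Finset.sum_insert (by simp [hd a ha, hd b hb]), Finset.sum_insert (by simp [(hd a ha).symm, hd b hb]),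
    Finset.sum_insert (by simp [hd a ha]), Finset.sum_singleton] at hsum
  have e1 := f1 (a, b)
  have e2 := f2 (a, b)
  have e3 := f2 (-a, b)
  simp only at e1 e2 e3
  show finrank k (P (a, b)) ≤ 2
  omega

end Three

/-- The first five-cycle. -/
def d0 : Perm (Fin 10) := swap 0 1 * swap 1 2 * (swap 2 3 * swap 3 4)
/-- The second five-cycle. -/
def d1 : Perm (Fin 10) := swap 5 6 * swap 6 7 * (swap 7 8 * swap 8 9)

theorem d_mem : d0 ∈ alternatingGroup (Fin 10) ∧ d1 ∈ alternatingGroup (Fin 10) := by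
  simp only [Perm.mem_alternatingGroup]; decide +kernel

theorem d_pow : d0 ^ 5 = 1 ∧ d1 ^ 5 = 1 := by decide +kernel

theorem d_comm : Commute d0 d1 := by
  show d0 * d1 = d1 * d0
  decide +kernel

/-- Two disjoint five-cycles in dimension less than sixteen. -/
theorem five_fix [IsAlgClosed k] (hD : Datum π ρ) (e : Fin 10 ↪ Fin r) (h5 : (5 : k) ≠ 0)
    (hn : finrank k V < 16) {v : V} (hv : v ∈ mov (Z π ρ e d0)) : Z π ρ e d1 v = v := by
  have h5' : ((5 : ℕ) : k) ≠ 0 := by simpa using h5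
  have hz0 := Z_pow (t := 5) hD e (by decide) d_pow.1 d_mem.1
  have hz1 := Z_pow (t := 5) hD e (by decide) d_pow.2 d_mem.2
  have hc := Z_commute (t := 5) hD e (by decide) d_pow.1 d_mem.1 (t' := 5) (by decide) d_pow.2
    d_mem.2 d_comm
  refine fix_mov (t := 5) hz0 h5' _ (fun μ hμ w hw => ?_) hv
  by_contra hne
  obtain ⟨ν, hν, x, hx, hx0, hxν⟩ := exists_eig_ne_one (g := Z π ρ e d1) (t := 5)
    (W := (Z π ρ e d0).eigenspace μ) (fun y hy => Module.End.mapsTo_genEigenspace_of_comm hc μ 1 hy)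
    hz1 h5' hw hne
  rw [Module.End.mem_eigenspace_iff] at hx
  have hμ5 : μ ^ 5 = 1 := eig_pow_eq_one hz0
    ((Submodule.ne_bot_iff _).2 ⟨x, Module.End.mem_eigenspace_iff.2 hx, hx0⟩)
  have hν5 : ν ^ 5 = 1 := eig_pow_eq_one hz1
    ((Submodule.ne_bot_iff _).2 ⟨x, Module.End.mem_eigenspace_iff.2 hxν, hx0⟩)
  haveI : Fact (Nat.Prime 5) := ⟨Nat.prime_five⟩
  have hω : IsPrimitiveRoot μ 5 := IsPrimitiveRoot.iff_orderOf.2 (orderOf_eq_prime hμ5 hμ)
  obtain ⟨j, hj, hjν⟩ := hω.eq_pow_of_pow_eq_one hν5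
  let P : Wt5 → Submodule k V := fun s =>
    (Z π ρ e d0).eigenspace (μ ^ s.1.val) ⊓ (Z π ρ e d1).eigenspace (μ ^ s.2.val)
  have hop : ∀ (τ : Perm (Fin 10)) (f : Wt5 → Wt5), τ ∈ alternatingGroup (Fin 10) →
      (∀ (g : G) (s : Wt5) (v : V), π g = Perm.viaEmbeddingHom e τ → v ∈ P s → ρ g v ∈ P (f s)) →
      ∀ s, P s ≠ ⊥ → P (f s) ≠ ⊥ := by
    intro τ f hτ hf s hs
    obtain ⟨v, hv, hv0⟩ := (Submodule.ne_bot_iff _).1 hs
    obtain ⟨g, hg⟩ := exists_over hD e hτ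
    refine (Submodule.ne_bot_iff _).2 ⟨ρ g v, hf g s v hg hv, fun h => hv0 ?_⟩
    rw [← rho_inv_apply ρ g v, h, map_zero]
  have o1 : ∀ s, P s ≠ ⊥ → P (3 * s.2, s.1) ≠ ⊥ := by
    refine hop (swap 0 5 * swap 1 6 * (swap 2 7 * swap 3 8) * swap 4 9 *
      (swap 6 7 * swap 7 9 * swap 9 8)) _ (by rw [Perm.mem_alternatingGroup]; decide +kernel) ?_
    intro g s v hg hv
    simp only [P, Submodule.mem_inf, Module.End.mem_eigenspace_iff] at hv ⊢
    refine ⟨?_, by simpa using eig_move hD e (by decide) d_pow.1 d_mem.1 hg 1 (by decide +kernel) hv.1⟩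
    rw [show ((3 : ZMod 5)) = ((3 : ℕ) : ZMod 5) by rfl, root_pow_val hμ5]
    exact eig_move hD e (by decide) d_pow.2 d_mem.2 hg 3 (by decide +kernel) hv.2
  have o2 : ∀ s, P s ≠ ⊥ → P (4 * s.1, s.2) ≠ ⊥ := by
    refine hop (swap 1 4 * swap 2 3) _ (by rw [Perm.mem_alternatingGroup]; decide +kernel) ?_
    intro g s v hg hv
    simp only [P, Submodule.mem_inf, Module.End.mem_eigenspace_iff] at hv ⊢
    refine ⟨?_, by simpa using eig_move hD e (by decide) d_pow.2 d_mem.2 hg 1 (by decide +kernel) hv.2⟩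
    rw [show ((4 : ZMod 5)) = ((4 : ℕ) : ZMod 5) by rfl, root_pow_val hμ5]
    exact eig_move hD e (by decide) d_pow.1 d_mem.1 hg 4 (by decide +kernel) hv.1
  have hs : P ((1 : ZMod 5), (j : ZMod 5)) ≠ ⊥ := (Submodule.ne_bot_iff _).2 ⟨x, by
    simp only [P, Submodule.mem_inf, Module.End.mem_eigenspace_iff, ZMod.val_natCast,
      Nat.mod_eq_of_lt hj, hjν]
    exact ⟨by rw [show (1 : ZMod 5).val = 1 from rfl, pow_one]; exact hx, hxν⟩, hx0⟩
  have hj0 : (j : ZMod 5) ≠ 0 := fun h => hν (by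
    rw [← hjν, ← Nat.mod_eq_of_lt hj, ← ZMod.val_natCast, h]; simp)
  let F : Fin 2 → Module.End k V := ![Z π ρ e d0, Z π ρ e d1]
  have hind := wt_indep F (fun i l => by
    fin_cases i <;> fin_cases l <;>
      first
        | exact Commute.refl _
        | exact hc
        | exact hc.symm)
  let χ : Wt5 → Fin 2 → k := fun s => ![μ ^ s.1.val, μ ^ s.2.val]
  have hinj : Function.Injective χ := fun s s' h =>
    Prod.ext (root_injective hω (congrFun h 0)) (root_injective hω (congrFun h 1))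
  have hPind : iSupIndep P := (hind.comp hinj).mono fun s v hv => by
    simp only [P, Submodule.mem_inf, Module.End.mem_eigenspace_iff] at hv
    simp only [Function.comp_apply, Submodule.mem_iInf, Module.End.mem_eigenspace_iff, F, χ]
    intro i
    fin_cases i
    exacts [hv.1, hv.2]
  have := (orb5_card ((1 : ZMod 5), (j : ZMod 5)) (one_ne_zero) hj0).trans
    (card_le_finrank P hPind _ (orb5_mem (P := fun s => P s ≠ ⊥) o1 o2 hs))
  exact absurd this (Nat.not_le.2 hn)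

end H82.Alt
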